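/-
Non-degenerate symmetric forms in odd characteristic: reflections, anisotropic vectors, perpendicular spaces.
-/
import Cfsg.Agent.Lib.Classical22.SympTensorForm
import Mathlib.FieldTheory.Finite.Basic

set_option autoImplicit false

namespace CfsgLib.Classical22.TensorMax.SpO

open Matrix CfsgLib.Transvec CfsgLib.Classical22.TensorMax.SympO
open scoped MatrixGroups

variable {F : Type*} [Field F] {k : ℕ} {f : (Fin k → F) → (Fin k → F) → F} (hf : Cfsg.Geo.IsSymmetricForm f)
include hf

lemma sym_dot (x y : Fin k → F) : f x y = (gram f *ᵥ y) ⬝ᵥ x := by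
  rw [TensorRefine.form_eq (σ := id) hf.bilinear.add_left hf.bilinear.smul_left hf.bilinear.add_right
    (fun c v x => hf.bilinear.smul_right c v x) x y, dotProduct]
  refine Finset.sum_congr rfl fun i _ => ?_
  simp only [mulVec, dotProduct, Finset.sum_mul, id_eq]
  exact Finset.sum_congr rfl fun j _ => by ring

lemma sym_zero_left (x : Fin k → F) : f 0 x = 0 := by rw [sym_dot hf, dotProduct_zero]

lemma sym_zero_right (x : Fin k → F) : f x 0 = 0 := by rw [hf.symm, sym_zero_left hf]

lemma sym_sub_left (x y z : Fin k → F) : f (x - y) z = f x z - f y z := by simp only [sym_dot hf, dotProduct_sub]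

lemma sym_sub_right (x y z : Fin k → F) : f x (y - z) = f x y - f x z := by
  rw [hf.symm, sym_sub_left hf, hf.symm y, hf.symm z]

lemma sym_neg_left (x z : Fin k → F) : f (-x) z = - f x z := by simp only [sym_dot hf, dotProduct_neg]

lemma sym_quad_add (x y : Fin k → F) : f (x + y) (x + y) = f x x + 2 * f x y + f y y := by
  rw [hf.bilinear.add_left, hf.bilinear.add_right, hf.bilinear.add_right, hf.symm y x]
  ring

lemma sym_quad_smul (c : F) (x : Fin k → F) : f (c • x) (c • x) = c * c * f x x := by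
  rw [hf.bilinear.smul_left, hf.bilinear.smul_right]; ring

lemma sym_eq {x y : Fin k → F} (h : ∀ p, f x p = f y p) : x = y := by
  by_contra hne
  obtain ⟨p, hp⟩ := (hf.nondegenerate _ (sub_ne_zero.mpr hne)).2
  exact hp (by rw [sym_sub_left hf, h, sub_self])

lemma sym_outer (y z x : Fin k → F) : outer f y z *ᵥ x = f x z • y := by
  rw [outer, vecMulVec_mulVec, op_smul_eq_smul, sym_dot hf]

lemma sym_gram_mul_inv : gram f * (gram f)⁻¹ = 1 := by
  refine Matrix.mul_nonsing_inv _ ((Matrix.isUnit_iff_isUnit_det _).mp ?_)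
  rw [← Matrix.mulVec_injective_iff_isUnit]
  intro x y h
  refine sym_eq hf fun p => ?_
  rw [hf.symm x, hf.symm y, sym_dot hf, sym_dot hf, h]

lemma sym_repr (φ : Fin k → F) : ∃ z, ∀ x, f x z = φ ⬝ᵥ x :=
  ⟨(gram f)⁻¹ *ᵥ φ, fun x => by rw [sym_dot hf, mulVec_mulVec, sym_gram_mul_inv hf, one_mulVec]⟩

lemma sym_adj_spec (G : Matrix (Fin k) (Fin k) F) (x y : Fin k → F) : f (G *ᵥ x) y = f x (adj f G *ᵥ y) := by
  rw [sym_dot hf, sym_dot hf, adj, mul_assoc, ← mulVec_mulVec, mulVec_mulVec, sym_gram_mul_inv hf, one_mulVec,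
    ← mulVec_mulVec, dotProduct_mulVec, ← mulVec_transpose]

lemma sym_adj_spec' (G : Matrix (Fin k) (Fin k) F) (x y : Fin k → F) : f (adj f G *ᵥ x) y = f x (G *ᵥ y) := by
  rw [hf.symm, ← sym_adj_spec hf, hf.symm]

lemma sym_adj_eq {G K : Matrix (Fin k) (Fin k) F} (h : ∀ x y, f (G *ᵥ x) y = f x (K *ᵥ y)) : adj f G = K :=
  Matrix.ext_of_mulVec_single fun q => sym_eq hf fun p => by rw [hf.symm, ← sym_adj_spec hf, h, hf.symm]

lemma sym_adj_adj (G : Matrix (Fin k) (Fin k) F) : adj f (adj f G) = G := sym_adj_eq hf (sym_adj_spec' hf G)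

lemma sym_adj_scalar (c : F) : adj f (c • 1) = c • 1 :=
  sym_adj_eq hf fun x y => by simp [smul_mulVec, hf.bilinear.smul_left, hf.bilinear.smul_right]

lemma sym_adj_one : adj f (1 : Matrix (Fin k) (Fin k) F) = 1 := by simpa using sym_adj_scalar hf (1 : F)

lemma sym_adj_mul (G K : Matrix (Fin k) (Fin k) F) : adj f (G * K) = adj f K * adj f G :=
  sym_adj_eq hf fun x y => by rw [← mulVec_mulVec, ← mulVec_mulVec, sym_adj_spec hf, sym_adj_spec hf]

lemma sym_adj_add (G K : Matrix (Fin k) (Fin k) F) : adj f (G + K) = adj f G + adj f K :=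
  sym_adj_eq hf fun x y => by
    rw [add_mulVec, add_mulVec, hf.bilinear.add_left, hf.bilinear.add_right, sym_adj_spec hf, sym_adj_spec hf]

lemma sym_adj_sub (G K : Matrix (Fin k) (Fin k) F) : adj f (G - K) = adj f G - adj f K := by
  rw [eq_sub_iff_add_eq, ← sym_adj_add hf, sub_add_cancel]

lemma sym_adj_smul (c : F) (G : Matrix (Fin k) (Fin k) F) : adj f (c • G) = c • adj f G := by
  rw [adj, adj, transpose_smul, Matrix.mul_smul, Matrix.smul_mul]

/-- A matrix preserving the form has the inverse adjoint. -/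
lemma sym_adj_iso {G : Matrix (Fin k) (Fin k) F} (h : ∀ x y, f (G *ᵥ x) (G *ᵥ y) = f x y) : adj f G * G = 1 :=
  Matrix.ext_iff_mulVec.mpr fun x => sym_eq hf fun p => by
    rw [← mulVec_mulVec, sym_adj_spec' hf, h, one_mulVec]

/-- The reflection at an anisotropic vector. -/
noncomputable def refl (f : (Fin k → F) → (Fin k → F) → F) (z : Fin k → F) : Matrix (Fin k) (Fin k) F :=
  1 - (2 / f z z) • outer f z z

lemma refl_mulVec (z x : Fin k → F) : refl f z *ᵥ x = x - (2 / f z z * f x z) • z := by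
  rw [refl, sub_mulVec, one_mulVec, smul_mulVec, sym_outer hf, smul_smul]

lemma refl_mul_self {z : Fin k → F} (hz : f z z ≠ 0) : refl f z * refl f z = 1 :=
  Matrix.ext_iff_mulVec.mpr fun x => by
    rw [← mulVec_mulVec, refl_mulVec hf, refl_mulVec hf, one_mulVec, sym_sub_left hf, hf.bilinear.smul_left,
      sub_sub, ← add_smul]
    have : 2 / f z z * f x z + 2 / f z z * (f x z - 2 / f z z * f x z * f z z) = 0 := by field_simp; ring
    rw [this, zero_smul, sub_zero]

lemma refl_iso {z : Fin k → F} (hz : f z z ≠ 0) (x y : Fin k → F) :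
    f (refl f z *ᵥ x) (refl f z *ᵥ y) = f x y := by
  simp only [refl_mulVec hf, sym_sub_left hf, sym_sub_right hf, hf.bilinear.smul_left, hf.bilinear.smul_right,
    hf.symm z y]
  field_simp
  ring

lemma refl_fix {z x : Fin k → F} (h : f x z = 0) : refl f z *ᵥ x = x := by
  rw [refl_mulVec hf, h, mul_zero, zero_smul, sub_zero]

lemma adj_refl {z : Fin k → F} (hz : f z z ≠ 0) : adj f (refl f z) = refl f z :=
  sym_adj_eq hf fun x y => by
    conv_lhs => arg 2; rw [← one_mulVec y, ← refl_mul_self hf hz, ← mulVec_mulVec]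
    rw [refl_iso hf hz]

/-! ### perpendicular spaces -/

/-- Each non-zero vector of the subspace pairs non-trivially inside it. -/
def NdSub (f : (Fin k → F) → (Fin k → F) → F) (W : Submodule F (Fin k → F)) : Prop :=
  ∀ x ∈ W, x ≠ 0 → ∃ w ∈ W, f x w ≠ 0

/-- The vectors of `W` orthogonal to `z`. -/
noncomputable def perpIn (f : (Fin k → F) → (Fin k → F) → F) (W : Submodule F (Fin k → F)) (z : Fin k → F) :
    Submodule F (Fin k → F) :=
  W ⊓ LinearMap.ker
    ({ toFun := fun x => (gram f *ᵥ z) ⬝ᵥ x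
       map_add' := fun x y => dotProduct_add _ _ _
       map_smul' := fun c x => dotProduct_smul _ _ _ } : (Fin k → F) →ₗ[F] F)

lemma mem_perpIn {W : Submodule F (Fin k → F)} {z x : Fin k → F} : x ∈ perpIn f W z ↔ x ∈ W ∧ f x z = 0 := by
  rw [sym_dot hf]; rfl

lemma finrank_perpIn (W : Submodule F (Fin k → F)) (z : Fin k → F) :
    Module.finrank F W ≤ Module.finrank F (perpIn f W z) + 1 := by
  obtain ⟨φ, hφ⟩ : ∃ φ : W →ₗ[F] F, ∀ x : W, φ x = f x.1 z :=
    ⟨{ toFun := fun x => f x.1 z
       map_add' := fun x y => hf.bilinear.add_left _ _ _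
       map_smul' := fun c x => hf.bilinear.smul_left _ _ _ }, fun x => rfl⟩
  have h1 := LinearMap.finrank_range_add_finrank_ker φ
  have h2 := Submodule.finrank_le (LinearMap.range φ)
  rw [Module.finrank_self] at h2
  have h3 : Module.finrank F (LinearMap.ker φ) ≤ Module.finrank F (perpIn f W z) := by
    rw [← Submodule.finrank_map_subtype_eq W (LinearMap.ker φ)]
    refine Submodule.finrank_mono ?_
    rintro _ ⟨x, hx, rfl⟩
    exact (mem_perpIn hf).mpr ⟨x.2, (hφ x).symm.trans (LinearMap.mem_ker.mp hx)⟩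
  omega

lemma nd_top : NdSub f ⊤ := fun x _ hx => ((hf.nondegenerate x hx).2).imp fun _ h => ⟨trivial, h⟩

lemma nd_perpIn {W : Submodule F (Fin k → F)} (hW : NdSub f W) {z : Fin k → F} (hz : z ∈ W) (hq : f z z ≠ 0) :
    NdSub f (perpIn f W z) := fun x hx hx0 => by
  obtain ⟨hxW, hxz⟩ := (mem_perpIn hf).mp hx
  obtain ⟨w, hw, hxw⟩ := hW x hxW hx0
  refine ⟨w - (f w z / f z z) • z, (mem_perpIn hf).mpr ⟨sub_mem hw (Submodule.smul_mem _ _ hz), ?_⟩, ?_⟩
  · rw [sym_sub_left hf, hf.bilinear.smul_left, div_mul_cancel₀ _ hq, sub_self]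
  · rw [sym_sub_right hf, hf.bilinear.smul_right, hxz, mul_zero, sub_zero]
    exact hxw

/-- Removing a hyperbolic pair keeps non-degeneracy. -/
lemma nd_perpIn_pair {W : Submodule F (Fin k → F)} (hW : NdSub f W) {u v : Fin k → F} (hu : u ∈ W) (hv : v ∈ W)
    (huu : f u u = 0) (hvv : f v v = 0) (huv : f u v = 1) : NdSub f (perpIn f (perpIn f W u) v) := fun x hx hx0 => by
  obtain ⟨hx', hxv⟩ := (mem_perpIn hf).mp hx
  obtain ⟨hxW, hxu⟩ := (mem_perpIn hf).mp hx'
  obtain ⟨w, hw, hxw⟩ := hW x hxW hx0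
  refine ⟨w - f w v • u - f w u • v, (mem_perpIn hf).mpr ⟨(mem_perpIn hf).mpr
    ⟨sub_mem (sub_mem hw (Submodule.smul_mem _ _ hu)) (Submodule.smul_mem _ _ hv), ?_⟩, ?_⟩, ?_⟩
  · simp only [sym_sub_left hf, hf.bilinear.smul_left, huu, hf.symm v u, huv]; ring
  · simp only [sym_sub_left hf, hf.bilinear.smul_left, hvv, huv]; ring
  · simp only [sym_sub_right hf, hf.bilinear.smul_right, hxu, hxv, mul_zero, sub_zero]
    exact hxw

section Two
variable (h2 : (2 : F) ≠ 0)
include h2

lemma exists_aniso {W : Submodule F (Fin k → F)} (hW : NdSub f W) (hd : 0 < Module.finrank F W) :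
    ∃ z ∈ W, f z z ≠ 0 := by
  obtain ⟨x, hx, hx0⟩ := Submodule.exists_mem_ne_zero_of_ne_bot
    (show W ≠ ⊥ from fun h => by rw [h, finrank_bot] at hd; omega)
  by_cases hq : f x x = 0
  · obtain ⟨w, hw, hxw⟩ := hW x hx hx0
    by_cases hqw : f w w = 0
    · exact ⟨x + w, add_mem hx hw, by rw [sym_quad_add hf, hq, hqw, zero_add, add_zero]; exact mul_ne_zero h2 hxw⟩
    · exact ⟨w, hw, hqw⟩
  · exact ⟨x, hx, hq⟩

/-- A singular vector is a combination of two anisotropic ones, given one anisotropic vector. -/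
lemma aniso_span {S : Submodule F (Fin k → F)} {W : Submodule F (Fin k → F)} {w : Fin k → F} (hw : w ∈ W)
    (hqw : f w w ≠ 0) (h : ∀ z ∈ W, f z z ≠ 0 → z ∈ S) : W ≤ S := fun x hx => by
  by_cases hq : f x x = 0
  · by_cases hp : f (x + w) (x + w) = 0
    · have hm : f (x - w) (x - w) ≠ 0 := fun hm => by
        rw [sub_eq_add_neg, sym_quad_add hf, ← neg_one_smul F w, sym_quad_smul hf, hf.bilinear.smul_right] at hm
        rw [sym_quad_add hf] at hp
        have : 2 * f w w = 0 := by linear_combination hp + hm - 2 * hq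
        rcases mul_eq_zero.mp this with h0 | h0
        · exact h2 h0
        · exact hqw h0
      simpa using S.add_mem (h _ (sub_mem hx hw) hm) (h w hw hqw)
    · simpa using S.sub_mem (h _ (add_mem hx hw) hp) (h w hw hqw)
  · exact h x hx hq

/-- A non-degenerate space is spanned by its anisotropic vectors. -/
lemma nd_span {S W : Submodule F (Fin k → F)} (hW : NdSub f W) (h : ∀ z ∈ W, f z z ≠ 0 → z ∈ S) : W ≤ S := by
  rcases Nat.eq_zero_or_pos (Module.finrank F W) with hd | hd
  · rw [Submodule.finrank_eq_zero] at hd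
    rw [hd]; exact bot_le
  · obtain ⟨w, hw, hqw⟩ := exists_aniso hf h2 hW hd
    exact aniso_span hf h2 hw hqw h

/-- A subspace closed under anisotropic vectors non-perpendicular to its members is everything. -/
lemma closed_top {Y W : Submodule F (Fin k → F)} (hW : NdSub f W) {y : Fin k → F} (hy : y ∈ W)
    (hyY : y ∈ Y) (hqy : f y y ≠ 0) (hcl : ∀ x ∈ Y, x ∈ W → ∀ v ∈ W, f v v ≠ 0 → f x v ≠ 0 → v ∈ Y)
    (hd : (∃ t : F, t ≠ 0 ∧ t ≠ 1 ∧ t ≠ -1) ∨ 3 ≤ Module.finrank F W) : W ≤ Y := by
  have hperp : perpIn f W y ≤ Y := by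
    refine nd_span hf h2 (nd_perpIn hf hW hy hqy) fun c hc hqc => ?_
    obtain ⟨hcW, hcy⟩ := (mem_perpIn hf).mp hc
    have hyc : f y c = 0 := by rw [hf.symm, hcy]
    by_cases hsum : f y y + f c c = 0
    · rcases hd with ⟨t, ht0, ht1, ht2⟩ | hd
      · have hq : f (y + t • c) (y + t • c) ≠ 0 := by
          rw [sym_quad_add hf, sym_quad_smul hf, hf.bilinear.smul_right, hyc]
          intro h0
          have : (t * t - 1) * f c c = 0 := by linear_combination h0 - hsum
          rcases mul_eq_zero.mp this with h | h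
          · rcases mul_eq_zero.mp (show (t - 1) * (t + 1) = 0 by linear_combination h) with h | h
            · exact ht1 (sub_eq_zero.mp h)
            · exact ht2 (eq_neg_of_add_eq_zero_left h)
          · exact hqc h
        have := hcl y hyY hy (y + t • c) (W.add_mem hy (W.smul_mem t hcW)) hq (by
          rw [hf.bilinear.add_right, hf.bilinear.smul_right, hyc]; simpa using hqy)
        simpa [smul_smul, inv_mul_cancel₀ ht0] using Y.smul_mem t⁻¹ (Y.sub_mem this hyY)
      · have hnd := nd_perpIn hf (nd_perpIn hf hW hy hqy) ((mem_perpIn hf).mpr ⟨hcW, hcy⟩) hqc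
        have h1 := finrank_perpIn hf W y
        have h2' := finrank_perpIn hf (perpIn f W y) c
        obtain ⟨d, hd', hqd⟩ := exists_aniso hf h2 hnd (by omega)
        obtain ⟨hd'', hdc⟩ := (mem_perpIn hf).mp hd'
        obtain ⟨hdW, hdy⟩ := (mem_perpIn hf).mp hd''
        have hq : f (y + (c + d)) (y + (c + d)) ≠ 0 := by
          rw [sym_quad_add hf, sym_quad_add hf, hf.bilinear.add_right, hyc, hf.symm y d, hdy, hf.symm c d, hdc]
          intro h0
          exact hqd (by linear_combination h0 - hsum)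
        have h3 := hcl y hyY hy _ (W.add_mem hy (W.add_mem hcW hdW)) hq (by
          rw [hf.bilinear.add_right, hf.bilinear.add_right, hyc, hf.symm y d, hdy]; simpa using hqy)
        have h4 : c + d ∈ Y := by simpa using Y.sub_mem h3 hyY
        exact hcl _ h4 (W.add_mem hcW hdW) c hcW hqc (by
          rw [hf.bilinear.add_left, hdc, add_zero]; exact hqc)
    · have hq : f (y + c) (y + c) ≠ 0 := by
        rw [sym_quad_add hf, hyc, mul_zero, add_zero]; exact hsum
      simpa using Y.sub_mem (hcl y hyY hy _ (W.add_mem hy hcW) hq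
        (by rw [hf.bilinear.add_right, hyc, add_zero]; exact hqy)) hyY
  intro x hx
  have h1 : x - (f x y / f y y) • y ∈ Y := hperp ((mem_perpIn hf).mpr ⟨sub_mem hx (W.smul_mem _ hy), by
    rw [sym_sub_left hf, hf.bilinear.smul_left, div_mul_cancel₀ _ hqy, sub_self]⟩)
  simpa using Y.add_mem h1 (Y.smul_mem (f x y / f y y) hyY)

/-- A non-degenerate space of dimension at least two takes every value. -/
lemma exists_value [Fintype F] {W : Submodule F (Fin k → F)} (hW : NdSub f W) (hd : 2 ≤ Module.finrank F W) (r : F) :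
    ∃ c ∈ W, f c c = r := by
  obtain ⟨c₁, hc₁, hq₁⟩ := exists_aniso hf h2 hW (by omega)
  have := finrank_perpIn hf W c₁
  obtain ⟨c₂, hc₂, hq₂⟩ := exists_aniso hf h2 (nd_perpIn hf hW hc₁ hq₁) (by omega)
  obtain ⟨hc₂W, h21⟩ := (mem_perpIn hf).mp hc₂
  have hodd : Fintype.card F % 2 = 1 := by
    refine FiniteField.odd_card_of_char_ne_two fun h => h2 ?_
    haveI := ringChar.of_eq h
    exact CharTwo.two_eq_zero
  obtain ⟨s, t, hst⟩ := FiniteField.exists_root_sum_quadratic
    (f := Polynomial.C (f c₁ c₁) * Polynomial.X ^ 2) (g := Polynomial.C (f c₂ c₂) * Polynomial.X ^ 2 - Polynomial.C r)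
    (Polynomial.degree_C_mul_X_pow 2 hq₁)
    (by rw [Polynomial.degree_sub_C (by rw [Polynomial.degree_C_mul_X_pow 2 hq₂]; decide),
      Polynomial.degree_C_mul_X_pow 2 hq₂]; rfl) hodd
  simp only [Polynomial.eval_mul, Polynomial.eval_C, Polynomial.eval_pow, Polynomial.eval_X, Polynomial.eval_sub] at hst
  have hval : f (s • c₁ + t • c₂) (s • c₁ + t • c₂) = r := by
    rw [sym_quad_add hf, sym_quad_smul hf, sym_quad_smul hf, hf.bilinear.smul_left, hf.bilinear.smul_right,
      show f c₁ c₂ = 0 by rw [hf.symm, h21]]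
    linear_combination hst
  exact ⟨_, W.add_mem (W.smul_mem s hc₁) (W.smul_mem t hc₂W), hval⟩

end Two

omit hf in
/-- Totally singular subspaces have at most half the dimension. -/
lemma two_mul_finrank_le (hf : Cfsg.Geo.IsSymmetricForm f) {S : Submodule F (Fin k → F)}
    (h : ∀ x ∈ S, ∀ y ∈ S, f x y = 0) : 2 * Module.finrank F S ≤ k := by
  obtain ⟨L, hL⟩ : ∃ L : (Fin k → F) →ₗ[F] Module.Dual F S, ∀ x (s : S), L x s = f x s.1 :=
    ⟨{ toFun := fun x =>
        { toFun := fun s => f x s.1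
          map_add' := fun s t => hf.bilinear.add_right _ _ _
          map_smul' := fun c s => hf.bilinear.smul_right _ _ _ }
       map_add' := fun x y => LinearMap.ext fun s => hf.bilinear.add_left _ _ _
       map_smul' := fun c x => LinearMap.ext fun s => hf.bilinear.smul_left _ _ _ }, fun x s => rfl⟩
  have hsur : LinearMap.range L = ⊤ := by
    refine LinearMap.range_eq_top.mpr fun φ => ?_
    obtain ⟨ψ, hψ⟩ := LinearMap.exists_extend φ
    obtain ⟨z, hz⟩ := sym_repr hf (fun i => ψ (Pi.single i 1))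
    refine ⟨z, LinearMap.ext fun s => ?_⟩
    rw [hL, hf.symm, hz, ← hψ, LinearMap.comp_apply, Submodule.subtype_apply]
    conv_rhs => rw [pi_eq_sum_univ' s.1, map_sum]
    exact Finset.sum_congr rfl fun i _ => by rw [map_smul, smul_eq_mul, mul_comm]
  have hker : S ≤ LinearMap.ker L := fun x hx => LinearMap.mem_ker.mpr (LinearMap.ext fun s => by
    rw [hL, h x hx s.1 s.2]; rfl)
  have h1 := LinearMap.finrank_range_add_finrank_ker L
  have h2 := Submodule.finrank_mono hker
  rw [hsur, finrank_top, Subspace.dual_finrank_eq, Module.finrank_fin_fun] at h1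
  omega

end CfsgLib.Classical22.TensorMax.SpO
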