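/-
A space of self-adjoint matrices invariant under reflections contains a rank-one element at a singular vector,
unless it consists of scalars.
-/
import Cfsg.Agent.Lib.Classical22.SpOrthTensor.Sym
import Cfsg.Agent.Lib.Classical22.OrthMaxLemmas

set_option autoImplicit false

namespace CfsgLib.Classical22.TensorMax.SpO

open Matrix CfsgLib.Transvec CfsgLib.Classical22.TensorMax.SympO
open scoped MatrixGroups

variable {F : Type*} [Field F] {k : ℕ} {f : (Fin k → F) → (Fin k → F) → F} (hf : Cfsg.Geo.IsSymmetricForm f)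

/-- The symmetrised matrix of two vectors. -/
def cr (f : (Fin k → F) → (Fin k → F) → F) (z y : Fin k → F) : Matrix (Fin k) (Fin k) F :=
  outer f z y + outer f y z

include hf

lemma cr_mulVec (z y x : Fin k → F) : cr f z y *ᵥ x = f x y • z + f x z • y := by
  rw [cr, add_mulVec, sym_outer hf, sym_outer hf]

lemma exists_singular_sym [Fintype F] (h2 : (2 : F) ≠ 0) (hk : 3 ≤ k) : ∃ x, x ≠ 0 ∧ f x x = 0 := by
  have hd : 3 ≤ Module.finrank F (⊤ : Submodule F (Fin k → F)) := by rwa [finrank_top, Module.finrank_fin_fun]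
  obtain ⟨z, -, hz⟩ := exists_aniso hf h2 (nd_top hf) (by omega)
  have h1 := finrank_perpIn hf ⊤ z
  obtain ⟨c, hc, hcv⟩ := exists_value hf h2 (nd_perpIn hf (nd_top hf) Submodule.mem_top hz) (by omega) (-(f z z))
  obtain ⟨-, hcz⟩ := (mem_perpIn hf).mp hc
  refine ⟨z + c, fun h => hz ?_, ?_⟩
  · have : f (z + c) z = 0 := by rw [h, sym_zero_left hf]
    rwa [hf.bilinear.add_left, hcz, add_zero] at this
  · rw [sym_quad_add hf, show f z c = 0 by rw [hf.symm, hcz], hcv]; ring

lemma exists_not_eigen (h2 : (2 : F) ≠ 0) (hk : 3 ≤ k) {G : Matrix (Fin k) (Fin k) F}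
    (hG : ¬ ∃ c : F, G = c • 1) : ∃ z, f z z ≠ 0 ∧ ∀ l : F, G *ᵥ z ≠ l • z := by
  by_contra hc
  push Not at hc
  obtain ⟨z₀, -, hz₀⟩ := exists_aniso hf h2 (nd_top hf) (by rw [finrank_top, Module.finrank_fin_fun]; omega)
  obtain ⟨l, hl⟩ := hc z₀ hz₀
  have key : ∀ c, f c z₀ = 0 → f c c ≠ 0 → G *ᵥ c = l • c := fun c hcz hqc => by
    obtain ⟨m, hm⟩ := hc c hqc
    have hzc : f z₀ c = 0 := by rw [hf.symm, hcz]
    by_cases hsum : f z₀ z₀ + f c c = 0
    · have h1 := finrank_perpIn hf ⊤ z₀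
      have h1' := finrank_perpIn hf (perpIn f ⊤ z₀) c
      rw [finrank_top, Module.finrank_fin_fun] at h1
      obtain ⟨d, hd, hqd⟩ := exists_aniso hf h2 (nd_perpIn hf (nd_perpIn hf (nd_top hf) Submodule.mem_top hz₀)
        ((mem_perpIn hf).mpr ⟨Submodule.mem_top, hcz⟩) hqc) (by omega)
      obtain ⟨hd', hdc⟩ := (mem_perpIn hf).mp hd
      obtain ⟨-, hdz⟩ := (mem_perpIn hf).mp hd'
      obtain ⟨p, hp⟩ := hc d hqd
      obtain ⟨r, hr⟩ := hc (z₀ + (c + d)) (by
        rw [sym_quad_add hf, sym_quad_add hf, hf.bilinear.add_right, hzc, hf.symm z₀ d, hdz, hf.symm c d, hdc]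
        intro h0; exact hqd (by linear_combination h0 - hsum))
      rw [mulVec_add, mulVec_add, hl, hm, hp] at hr
      have e1 := congrArg (fun v => f v z₀) hr
      have e2 := congrArg (fun v => f v c) hr
      simp only [hf.bilinear.add_left, hf.bilinear.smul_left, hcz, hdz, hdc, hzc, mul_zero, add_zero, zero_add] at e1 e2
      rw [hm, mul_right_cancel₀ hqc e2, ← mul_right_cancel₀ hz₀ e1]
    · obtain ⟨r, hr⟩ := hc (z₀ + c) (by rw [sym_quad_add hf, hzc, mul_zero, add_zero]; exact hsum)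
      rw [mulVec_add, hl, hm] at hr
      have e1 := congrArg (fun v => f v z₀) hr
      have e2 := congrArg (fun v => f v c) hr
      simp only [hf.bilinear.add_left, hf.bilinear.smul_left, hcz, hzc, mul_zero, add_zero, zero_add] at e1 e2
      rw [hm, mul_right_cancel₀ hqc e2, ← mul_right_cancel₀ hz₀ e1]
  obtain ⟨S, hS⟩ : ∃ S : Submodule F (Fin k → F), ∀ x, x ∈ S ↔ G *ᵥ x = l • x :=
    ⟨LinearMap.ker (Matrix.mulVecLin G - l • LinearMap.id), fun x => by simp [sub_eq_zero]⟩
  have hperp : perpIn f ⊤ z₀ ≤ S := nd_span hf h2 (nd_perpIn hf (nd_top hf) Submodule.mem_top hz₀)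
    fun c hc' hqc => (hS c).mpr (key c ((mem_perpIn hf).mp hc').2 hqc)
  refine hG ⟨l, Matrix.ext_iff_mulVec.mpr fun x => ?_⟩
  rw [smul_mulVec, one_mulVec, ← hS]
  have h1 : x - (f x z₀ / f z₀ z₀) • z₀ ∈ S := hperp ((mem_perpIn hf).mpr ⟨Submodule.mem_top, by
    rw [sym_sub_left hf, hf.bilinear.smul_left, div_mul_cancel₀ _ hz₀, sub_self]⟩)
  simpa using S.add_mem h1 (S.smul_mem (f x z₀ / f z₀ z₀) ((hS z₀).mpr hl))

/-- Invariant self-adjoint sets with a non-scalar member contain `x ⊗ x` for a singular `x`. -/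
theorem exists_outer_singular [Fintype F] (h2 : (2 : F) ≠ 0) (hk : 3 ≤ k)
    (hd : (∃ t : F, t ≠ 0 ∧ t ≠ 1 ∧ t ≠ -1) ∨ 4 ≤ k) {P : Matrix (Fin k) (Fin k) F → Prop}
    (hadd : ∀ G K, P G → P K → P (G + K)) (hsmul : ∀ (c : F) G, P G → P (c • G))
    (hconj : ∀ z, f z z ≠ 0 → ∀ G, P G → P (refl f z * G * refl f z))
    (hG : ∃ G, P G ∧ adj f G = G ∧ ¬ ∃ c : F, G = c • 1) :
    ∃ x, x ≠ 0 ∧ f x x = 0 ∧ P (outer f x x) := by
  have hsub : ∀ G K, P G → P K → P (G - K) := fun G K hG' hK => by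
    simpa [sub_eq_add_neg] using hadd _ _ hG' (hsmul (-1) _ hK)
  -- the basic rule
  have hrule : ∀ G, P G → adj f G = G → ∀ v, f v v ≠ 0 →
      P (cr f v (G *ᵥ v) - (2 * f (G *ᵥ v) v / f v v) • outer f v v) := fun G hP hA v hv => by
    have h := hsmul (f v v / 2) _ (hsub _ _ hP (hconj v hv G hP))
    refine cast (congrArg P ?_) h
    refine Matrix.ext_iff_mulVec.mpr fun x => ?_
    rw [smul_mulVec, sub_mulVec, ← mulVec_mulVec, ← mulVec_mulVec, sub_mulVec, cr_mulVec hf, smul_mulVec,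
      sym_outer hf, refl_mulVec hf v x, mulVec_sub, mulVec_smul, refl_mulVec hf v, sym_sub_left hf,
      hf.bilinear.smul_left,
      show f (G *ᵥ x) v = f x (G *ᵥ v) by rw [sym_adj_spec hf, hA]]
    match_scalars <;> field_simp <;> ring
  have hadjcr : ∀ z y, adj f (cr f z y) = cr f z y := fun z y => sym_adj_eq hf fun x w => by
    simp only [cr_mulVec hf, hf.bilinear.add_left, hf.bilinear.add_right, hf.bilinear.smul_left,
      hf.bilinear.smul_right, hf.symm w]
    ring
  have hsing : ∀ z y, f z z ≠ 0 → f y z = 0 → f y y = 0 → P (cr f z y) → P (outer f y y) := fun z y hz hyz hy h => by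
    have hzy : f z y = 0 := by rw [hf.symm, hyz]
    have hv : f (z + y) (z + y) ≠ 0 := by rw [sym_quad_add hf, hzy, hy]; simpa using hz
    have h' := hrule _ h (hadjcr z y) _ hv
    refine cast (congrArg P ?_) (hsmul (f z z * 2)⁻¹ _ (hsub _ _ h' (hsmul (f z z) _ h)))
    refine Matrix.ext_iff_mulVec.mpr fun x => ?_
    simp only [smul_mulVec, sub_mulVec, cr_mulVec hf, sym_outer hf, hf.bilinear.add_left, hf.bilinear.add_right,
      hf.bilinear.smul_left, hf.bilinear.smul_right, hzy, hyz, hy, add_zero, zero_add, mul_zero, zero_smul]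
    match_scalars <;> field_simp <;> ring
  obtain ⟨G, hP, hA, hns⟩ := hG
  obtain ⟨z, hz, hne⟩ := exists_not_eigen hf h2 hk hns
  obtain ⟨y, hy⟩ : ∃ y, y = G *ᵥ z - (f (G *ᵥ z) z / f z z) • z := ⟨_, rfl⟩
  have hyz : f y z = 0 := by rw [hy, sym_sub_left hf, hf.bilinear.smul_left, div_mul_cancel₀ _ hz, sub_self]
  have hy0 : y ≠ 0 := fun h => hne _ (sub_eq_zero.mp (hy ▸ h))
  have hPy : P (cr f z y) := by
    refine cast (congrArg P ?_) (hrule G hP hA z hz)
    refine Matrix.ext_iff_mulVec.mpr fun x => ?_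
    simp only [sub_mulVec, smul_mulVec, cr_mulVec hf, sym_outer hf, hy, sym_sub_right hf, hf.bilinear.smul_right]
    match_scalars <;> field_simp <;> ring
  by_cases hqy : f y y = 0
  · exact ⟨y, hy0, hqy, hsing z y hz hyz hqy hPy⟩
  -- the whole perpendicular space pairs
  have hfull : ∀ z y, f z z ≠ 0 → f y z = 0 → f y y ≠ 0 → P (cr f z y) → ∀ v, f v z = 0 → P (cr f z v) := by
    intro z y hz hyz hqy hPy v hvz
    obtain ⟨Y, hY⟩ : ∃ Y : Submodule F (Fin k → F), ∀ v, v ∈ Y ↔ P (cr f z v) :=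
      ⟨{ carrier := {v | P (cr f z v)}
         add_mem' := fun {u w} hu hw => by
           refine cast (congrArg P ?_) (hadd _ _ hu hw)
           exact Matrix.ext_iff_mulVec.mpr fun x => by
             simp only [add_mulVec, cr_mulVec hf, hf.bilinear.add_right]; module
         zero_mem' := by
           refine cast (congrArg P ?_) (hsmul 0 _ hPy)
           exact Matrix.ext_iff_mulVec.mpr fun x => by simp [cr_mulVec hf, sym_zero_right hf]
         smul_mem' := fun c u hu => by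
           refine cast (congrArg P ?_) (hsmul c _ hu)
           exact Matrix.ext_iff_mulVec.mpr fun x => by
             simp only [smul_mulVec, cr_mulVec hf, hf.bilinear.smul_right]; module }, fun v => Iff.rfl⟩
    have htop : perpIn f ⊤ z ≤ Y := by
      refine closed_top hf h2 (nd_perpIn hf (nd_top hf) Submodule.mem_top hz)
        ((mem_perpIn hf).mpr ⟨Submodule.mem_top, hyz⟩) ((hY y).mpr hPy) hqy (fun u hu hu' w hw hqw huw => ?_) ?_
      · obtain ⟨-, hwz⟩ := (mem_perpIn hf).mp hw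
        obtain ⟨-, huz⟩ := (mem_perpIn hf).mp hu'
        rw [hY] at hu ⊢
        have hzw : f z w = 0 := by rw [hf.symm, hwz]
        refine cast (congrArg P ?_) (hsmul (f u w)⁻¹ _ (hrule _ hu (hadjcr z u) w hqw))
        refine Matrix.ext_iff_mulVec.mpr fun x => ?_
        simp only [smul_mulVec, sub_mulVec, cr_mulVec hf, sym_outer hf, hf.bilinear.add_left, hf.bilinear.add_right,
          hf.bilinear.smul_left, hf.bilinear.smul_right, hzw, hwz, hf.symm w u, mul_zero, zero_mul, add_zero,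
          zero_add, zero_smul, zero_div, sub_zero]
        match_scalars <;> field_simp
      · refine hd.imp_right fun h4 => ?_
        have h1 := finrank_perpIn hf ⊤ z
        rw [finrank_top, Module.finrank_fin_fun] at h1
        omega
    exact (hY v).mp (htop ((mem_perpIn hf).mpr ⟨Submodule.mem_top, hvz⟩))
  have hsymm : ∀ z y, P (cr f z y) → P (cr f y z) := fun z y h => by rwa [cr, add_comm, ← cr] at h
  obtain ⟨x, hx0, hx⟩ := exists_singular_sym hf h2 hk
  obtain ⟨v, hv, hvx⟩ : ∃ v, f v v ≠ 0 ∧ f v x = 0 := by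
    by_contra hc
    push Not at hc
    have := two_mul_finrank_le hf (S := perpIn f ⊤ x) fun p hp r hr => by
      obtain ⟨-, hpx⟩ := (mem_perpIn hf).mp hp
      obtain ⟨-, hrx⟩ := (mem_perpIn hf).mp hr
      have e : ∀ w, f w x = 0 → f w w = 0 := fun w hw => by
        by_contra h; exact hc w h hw
      have := e (p + r) (by rw [hf.bilinear.add_left, hpx, hrx, add_zero])
      rw [sym_quad_add hf, e p hpx, e r hrx, zero_add, add_zero] at this
      exact (mul_eq_zero.mp this).resolve_left h2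
    have h1 := finrank_perpIn hf ⊤ x
    rw [finrank_top, Module.finrank_fin_fun] at h1
    omega
  obtain ⟨m, hm, hm0⟩ := Submodule.exists_mem_ne_zero_of_ne_bot
    (show perpIn f (perpIn f ⊤ v) y ≠ ⊥ from fun h => by
      have h1 := finrank_perpIn hf ⊤ v
      have h1' := finrank_perpIn hf (perpIn f ⊤ v) y
      rw [finrank_top, Module.finrank_fin_fun] at h1
      rw [h, finrank_bot] at h1'
      omega)
  obtain ⟨hm', hmy⟩ := (mem_perpIn hf).mp hm
  obtain ⟨-, hmv⟩ := (mem_perpIn hf).mp hm'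
  have hym := hfull y z hqy (by rw [hf.symm, hyz]) hz (hsymm _ _ hPy) m hmy
  by_cases hqm : f m m = 0
  · exact ⟨m, hm0, hqm, hsing y m hqy hmy hqm hym⟩
  have hmv' := hfull m y hqm (by rw [hf.symm, hmy]) hqy (hsymm _ _ hym) v (by rw [hf.symm, hmv])
  exact ⟨x, hx0, hx, hsing v x hv (by rw [hf.symm, hvx]) hx
    (hfull v m hv hmv hqm (hsymm _ _ hmv') x (by rw [hf.symm, hvx]))⟩

end CfsgLib.Classical22.TensorMax.SpO
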