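/-
The alternating form on a tensor product of a symmetric and an alternating space; Kronecker elements and roots.
-/
import Cfsg.Agent.Lib.Classical22.SpOrthTensor.Sym
import Cfsg.Agent.Lib.Classical22.SympTensorBase
import Cfsg.Agent.Lib.Classical22.TensorMaxFinal

set_option autoImplicit false

namespace CfsgLib.Classical22.TensorMax.SpO

open Matrix Kronecker CfsgLib.Transvec CfsgLib.Classical22.TensorMax.SympO
open scoped MatrixGroups

variable {F : Type*} [Field F] {a b : ℕ} {f₁ : (Fin a → F) → (Fin a → F) → F}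
  {f₂ : (Fin b → F) → (Fin b → F) → F}

/-- The tensor product form. -/
noncomputable def bform (f₁ : (Fin a → F) → (Fin a → F) → F) (f₂ : (Fin b → F) → (Fin b → F) → F)
    (v w : Fin a × Fin b → F) : F :=
  ∑ j, f₁ (s2 f₂ (Pi.single j 1) v) (fun i => w (i, j))

/-- The isometries of the tensor product form. -/
def Iso (f₁ : (Fin a → F) → (Fin a → F) → F) (f₂ : (Fin b → F) → (Fin b → F) → F) (g : GL (Fin a × Fin b) F) :
    Prop :=
  ∀ v w, bform f₁ f₂ (g.val *ᵥ v) (g.val *ᵥ w) = bform f₁ f₂ v w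

variable (hl : Cfsg.Geo.IsSymmetricForm f₁) (hr : Cfsg.Geo.IsSymplecticForm f₂)

section Form
include hr

lemma s2p (u : Fin b → F) (x : Fin a → F) (z : Fin b → F) : s2 f₂ u (pt x z) = f₂ z u • x := by
  rw [s2, sl_pt, form_eq_dot hr]

/-- A vector is determined by its contractions. -/
lemma eq_of_s2 {v w : Fin a × Fin b → F} (h : ∀ u, s2 f₂ u v = s2 f₂ u w) : v = w := by
  rw [eq_sum_pt v, eq_sum_pt w]
  refine Finset.sum_congr rfl fun j _ => ?_
  congr 1
  obtain ⟨z, hz⟩ := exists_repr hr (Pi.single j (1 : F) : Fin b → F)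
  have := h z
  rwa [s2, hz, sl_single, sl_single] at this

lemma mem_pure_of_s2 {e φ₀ : Fin b → F} (hφ : φ₀ ⬝ᵥ e = 1) {v : Fin a × Fin b → F}
    (h : ∀ w, f₂ e w = 0 → s2 f₂ w v = 0) : v = pt (sl φ₀ v) e := by
  refine eq_of_s2 hr fun u => ?_
  obtain ⟨z, hz⟩ := exists_repr hr φ₀
  have hez : f₂ e z = 1 := by rw [form_eq_dot hr, hz, hφ]
  have h0 := h (u - f₂ e u • z) (by
    have h' := hr.bilinear.add_right e (u - f₂ e u • z) (f₂ e u • z)
    rw [sub_add_cancel, hr.bilinear.smul_right, hez, mul_one] at h'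
    exact left_eq_add.mp (h'.trans (add_comm _ _)))
  have e1 : s2 f₂ u v = f₂ e u • s2 f₂ z v := by
    conv_lhs => rw [← sub_add_cancel u (f₂ e u • z), s2_add, h0, zero_add, s2_smul]
  rw [e1, s2p hr, show s2 f₂ z v = sl φ₀ v by rw [s2, hz]]

lemma r_zero_left (x : Fin b → F) : f₂ 0 x = 0 := by rw [form_eq_dot hr, dotProduct_zero]

lemma r_zero_right (x : Fin b → F) : f₂ x 0 = 0 := by rw [form_eq_dot hr, mulVec_zero, zero_dotProduct]

lemma r_sub_left (x y z : Fin b → F) : f₂ (x - y) z = f₂ x z - f₂ y z := by simp only [form_eq_dot hr, dotProduct_sub]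

lemma r_sub_right (x y z : Fin b → F) : f₂ x (y - z) = f₂ x y - f₂ x z := by
  rw [hr.skew, r_sub_left hr, hr.skew x y, hr.skew x z]; ring

include hl

lemma bform_pt (v : Fin a × Fin b → F) (p : Fin a → F) (u : Fin b → F) :
    bform f₁ f₂ v (pt p u) = f₁ (s2 f₂ u v) p := by
  obtain ⟨L, hL⟩ : ∃ L : (Fin b → F) →ₗ[F] F, ∀ z, L z = f₁ (s2 f₂ z v) p :=
    ⟨{ toFun := fun z => f₁ (s2 f₂ z v) p
       map_add' := fun x y => by rw [s2_add, hl.bilinear.add_left]
       map_smul' := fun c x => by rw [s2_smul, hl.bilinear.smul_left]; rfl }, fun z => rfl⟩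
  rw [← hL]
  conv_rhs => rw [pi_eq_sum_univ' u, map_sum]
  refine Finset.sum_congr rfl fun j _ => ?_
  rw [map_smul, hL, smul_eq_mul, show (fun i => pt p u (i, j)) = u j • p from funext fun i => by simp [pt, mul_comm],
    hl.bilinear.smul_right]

lemma bform_pt_pt (x y : Fin a → F) (u w : Fin b → F) : bform f₁ f₂ (pt x u) (pt y w) = f₁ x y * f₂ u w := by
  rw [bform_pt hl hr, s2p hr, hl.bilinear.smul_left, mul_comm]

omit hr in
lemma bform_add_left (v v' w : Fin a × Fin b → F) :
    bform f₁ f₂ (v + v') w = bform f₁ f₂ v w + bform f₁ f₂ v' w := by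
  simp only [bform, map_add, hl.bilinear.add_left, Finset.sum_add_distrib]

omit hr in
lemma bform_smul_left (c : F) (v w : Fin a × Fin b → F) : bform f₁ f₂ (c • v) w = c * bform f₁ f₂ v w := by
  simp only [bform, map_smul, hl.bilinear.smul_left, Finset.mul_sum]

omit hr in
lemma bform_add_right (v w w' : Fin a × Fin b → F) :
    bform f₁ f₂ v (w + w') = bform f₁ f₂ v w + bform f₁ f₂ v w' := by
  simp only [bform, ← Finset.sum_add_distrib, ← hl.bilinear.add_right]
  rfl

omit hr in
lemma bform_smul_right (c : F) (v w : Fin a × Fin b → F) : bform f₁ f₂ v (c • w) = c * bform f₁ f₂ v w := by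
  simp only [bform, Finset.mul_sum, ← hl.bilinear.smul_right]
  rfl

omit hr in
lemma bform_zero_left (w : Fin a × Fin b → F) : bform f₁ f₂ 0 w = 0 := by
  simp [bform, sym_zero_left hl]

omit hr in
lemma bform_sum_left {ι : Type*} (s : Finset ι) (v : ι → Fin a × Fin b → F) (w : Fin a × Fin b → F) :
    bform f₁ f₂ (∑ i ∈ s, v i) w = ∑ i ∈ s, bform f₁ f₂ (v i) w := by
  induction s using Finset.cons_induction with
  | empty => simp [bform_zero_left hl]
  | cons i s hi ih => rw [Finset.sum_cons, Finset.sum_cons, bform_add_left hl, ih]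

omit hr in
lemma bform_sum_right {ι : Type*} (s : Finset ι) (v : Fin a × Fin b → F) (w : ι → Fin a × Fin b → F) :
    bform f₁ f₂ v (∑ i ∈ s, w i) = ∑ i ∈ s, bform f₁ f₂ v (w i) := by
  induction s using Finset.cons_induction with
  | empty => simp [bform, sym_zero_right hl, Pi.zero_def]; simp [← Pi.zero_def, sym_zero_right hl]
  | cons i s hi ih => rw [Finset.sum_cons, Finset.sum_cons, bform_add_right hl, ih]

lemma bform_skew (v w : Fin a × Fin b → F) : bform f₁ f₂ w v = - bform f₁ f₂ v w := by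
  rw [eq_sum_pt v, eq_sum_pt w]
  simp only [bform_sum_left hl, bform_sum_right hl, bform_pt_pt hl hr, ← Finset.sum_neg_distrib]
  rw [Finset.sum_comm]
  refine Finset.sum_congr rfl fun i _ => Finset.sum_congr rfl fun j _ => ?_
  rw [hl.symm, hr.skew]; ring

lemma bform_self (h2 : (2 : F) ≠ 0) (v : Fin a × Fin b → F) : bform f₁ f₂ v v = 0 := by
  have h := bform_skew hl hr v v
  exact (mul_eq_zero.mp (show 2 * bform f₁ f₂ v v = 0 by linear_combination h)).resolve_left h2

lemma bform_nondeg {v : Fin a × Fin b → F} (h : ∀ w, bform f₁ f₂ v w = 0) : v = 0 :=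
  eq_of_s2 hr fun u => sym_eq hl fun p => by
    rw [← bform_pt hl hr, h, map_zero, sym_zero_left hl]

/-- An element preserving the form on pure vectors is an isometry. -/
lemma iso_of_pure {g : GL (Fin a × Fin b) F}
    (h : ∀ x u y w, bform f₁ f₂ (g.val *ᵥ pt x u) (g.val *ᵥ pt y w) = f₁ x y * f₂ u w) : Iso f₁ f₂ g := fun v w => by
  rw [eq_sum_pt v, eq_sum_pt w]
  simp only [Matrix.mulVec_sum, bform_sum_left hl, bform_sum_right hl, h, bform_pt_pt hl hr]

/-- Contractions of an image. -/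
lemma s2_image {g : GL (Fin a × Fin b) F} (hg : Iso f₁ f₂ g) {u w : Fin b → F} {x y : Fin a → F}
    (h : g.val *ᵥ pt x u = pt y w) (v : Fin a × Fin b → F) :
    f₁ (s2 f₂ w (g.val *ᵥ v)) y = f₁ (s2 f₂ u v) x := by
  rw [← bform_pt hl hr, ← h, hg, bform_pt hl hr]

end Form

omit hl hr in
lemma iso_one : Iso f₁ f₂ 1 := fun v w => by rw [Units.val_one, one_mulVec, one_mulVec]

lemma iso_mul {g h : GL (Fin a × Fin b) F} (hg : Iso f₁ f₂ g) (hh : Iso f₁ f₂ h) : Iso f₁ f₂ (g * h) := fun v w => by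
  rw [Units.val_mul, ← mulVec_mulVec, ← mulVec_mulVec, hg, hh]

lemma iso_inv {g : GL (Fin a × Fin b) F} (hg : Iso f₁ f₂ g) : Iso f₁ f₂ g⁻¹ := fun v w => by
  rw [← hg, Transvec.mulVec_inv_cancel, Transvec.mulVec_inv_cancel]

/-- A matrix with a one-sided inverse as a group element. -/
def unitOf {k : ℕ} (A A' : Matrix (Fin k) (Fin k) F) (h : A * A' = 1) : GL (Fin k) F :=
  ⟨A, A', h, mul_eq_one_comm.mp h⟩

/-- An injective endomorphism as a group element. -/
noncomputable def glOfLin {k : ℕ} (L : (Fin k → F) →ₗ[F] (Fin k → F)) (h : Function.Injective L) : GL (Fin k) F :=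
  have hu : IsUnit (LinearMap.toMatrix' L) := Matrix.mulVec_injective_iff_isUnit.mp fun x y hxy => by
    simp only [LinearMap.toMatrix'_mulVec] at hxy
    exact h hxy
  hu.unit

lemma glOfLin_mulVec {k : ℕ} (L : (Fin k → F) →ₗ[F] (Fin k → F)) (h : Function.Injective L) (x : Fin k → F) :
    (glOfLin L h).val *ᵥ x = L x := by
  rw [glOfLin, IsUnit.unit_spec, LinearMap.toMatrix'_mulVec]

/-- The Kronecker product of two group elements. -/
def kr (A : GL (Fin a) F) (B : GL (Fin b) F) : GL (Fin a × Fin b) F where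
  val := A.val ⊗ₖ B.val
  inv := A⁻¹.val ⊗ₖ B⁻¹.val
  val_inv := by rw [← Matrix.mul_kronecker_mul, A.mul_inv, B.mul_inv, one_kronecker_one]
  inv_val := by rw [← Matrix.mul_kronecker_mul, A.inv_mul, B.inv_mul, one_kronecker_one]

lemma kr_apply (A : GL (Fin a) F) (B : GL (Fin b) F) (x : Fin a → F) (u : Fin b → F) :
    (kr A B).val *ᵥ pt x u = pt (A.val *ᵥ x) (B.val *ᵥ u) :=
  TensorRefine.kronecker_mulVec _ _ x u

lemma isKron_kr (A : GL (Fin a) F) (B : GL (Fin b) F) : IsKron (kr A B) := ⟨A, B, rfl⟩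

/-- The root element at `u`. -/
noncomputable def root (a : ℕ) (hr : Cfsg.Geo.IsSymplecticForm f₂) (u : Fin b → F) (s : F) : GL (Fin a × Fin b) F :=
  rootB a u (s • (gram f₂ *ᵥ u))
    (by rw [smul_dotProduct, ← form_eq_dot hr, hr.alternating, smul_zero])

lemma root_apply (u : Fin b → F) (s : F) (v : Fin a × Fin b → F) :
    (root a hr u s).val *ᵥ v = v + s • pt (s2 f₂ u v) u := by
  rw [root, rootB_mulVec, sl_smul_left, pt_smul_left, s2]

lemma isKron_root (u : Fin b → F) (s : F) : IsKron (root a hr u s) := isKron_rootB _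

section
include hl hr

lemma iso_root (u : Fin b → F) (s : F) : Iso f₁ f₂ (root a hr u s) := iso_of_pure hl hr fun x p y q => by
  rw [root_apply hr, root_apply hr, s2p hr, s2p hr, pt_smul_left, pt_smul_left, smul_smul, smul_smul]
  simp only [bform_add_left hl, bform_add_right hl, bform_smul_left hl, bform_smul_right hl, bform_pt_pt hl hr,
    hr.alternating, hr.skew u q]
  ring

/-- Kronecker products of similitudes with inverse multipliers are isometries. -/
lemma iso_kr {A : GL (Fin a) F} {B : GL (Fin b) F} {m n : F} (hA : ∀ x y, f₁ (A.val *ᵥ x) (A.val *ᵥ y) = m * f₁ x y)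
    (hB : ∀ x y, f₂ (B.val *ᵥ x) (B.val *ᵥ y) = n * f₂ x y) (hmn : m * n = 1) : Iso f₁ f₂ (kr A B) :=
  iso_of_pure hl hr fun x p y q => by
    rw [kr_apply, kr_apply, bform_pt_pt hl hr, hA, hB]
    linear_combination (f₁ x y * f₂ p q) * hmn

end

/-- The transvection at `z` for the tensor product form. -/
noncomputable def bTrans (h2 : (2 : F) ≠ 0) (hl : Cfsg.Geo.IsSymmetricForm f₁) (hr : Cfsg.Geo.IsSymplecticForm f₂)
    (z : Fin a × Fin b → F) (c : F) : GL (Fin a × Fin b) F :=
  have key : ∀ (c : F) (L : (Fin a × Fin b → F) →ₗ[F] (Fin a × Fin b → F)), (∀ v, L v = (c * bform f₁ f₂ v z) • z) →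
      L * L = 0 := fun c L hL => LinearMap.ext fun v => by
    rw [Module.End.mul_apply, hL, hL, bform_smul_left hl, bform_self hl hr h2]; simp
  let L : (Fin a × Fin b → F) →ₗ[F] (Fin a × Fin b → F) :=
    { toFun := fun v => (c * bform f₁ f₂ v z) • z
      map_add' := fun v w => by simp only [bform_add_left hl, mul_add, add_smul]
      map_smul' := fun t v => by rw [bform_smul_left hl, RingHom.id_apply, smul_smul]; ring_nf }
  { val := LinearMap.toMatrix' (1 + L)
    inv := LinearMap.toMatrix' (1 - L)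
    val_inv := by
      rw [← LinearMap.toMatrix'_mul, mul_sub, mul_one, add_mul, one_mul, key c L fun v => rfl, add_zero,
        add_sub_cancel_right, Module.End.one_eq_id, LinearMap.toMatrix'_id]
    inv_val := by
      rw [← LinearMap.toMatrix'_mul, sub_mul, one_mul, mul_add, mul_one, key c L fun v => rfl, add_zero,
        add_sub_cancel_right, Module.End.one_eq_id, LinearMap.toMatrix'_id] }

lemma bTrans_apply (h2 : (2 : F) ≠ 0) (z : Fin a × Fin b → F) (c : F) (v : Fin a × Fin b → F) :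
    (bTrans h2 hl hr z c).val *ᵥ v = v + (c * bform f₁ f₂ v z) • z := by
  simp [bTrans, add_mulVec, LinearMap.toMatrix'_mulVec]

include hl hr in
lemma iso_bTrans (h2 : (2 : F) ≠ 0) (z : Fin a × Fin b → F) (c : F) : Iso f₁ f₂ (bTrans h2 hl hr z c) := fun v w => by
  rw [bTrans_apply, bTrans_apply]
  simp only [bform_add_left hl, bform_add_right hl, bform_smul_left hl, bform_smul_right hl, bform_self hl hr h2,
    bform_skew hl hr w z]
  ring

/-- A group between the tensor stabiliser and the isometry group, missing some transvection. -/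
structure Ctx [Fintype F] (f₁ : (Fin a → F) → (Fin a → F) → F) (f₂ : (Fin b → F) → (Fin b → F) → F)
    (M : Subgroup (GL (Fin a × Fin b) F)) : Prop where
  left : Cfsg.Geo.IsSymmetricForm f₁
  right : Cfsg.Geo.IsSymplecticForm f₂
  two : (2 : F) ≠ 0
  dim : 3 ≤ a
  dim' : 2 ≤ b
  hyp : (∃ t : F, t ≠ 0 ∧ t ≠ 1 ∧ t ≠ -1) ∨ 4 ≤ a
  le : ∀ g, IsKron g → Iso f₁ f₂ g → g ∈ M
  sub : ∀ g ∈ M, Iso f₁ f₂ g
  ne : ¬ ∀ z c, bTrans two left right z c ∈ M

variable [Fintype F] {M : Subgroup (GL (Fin a × Fin b) F)} (C : Ctx f₁ f₂ M)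
include C

theorem root_mem (u : Fin b → F) (s : F) : root a C.right u s ∈ M :=
  C.le _ (isKron_root C.right u s) (iso_root C.left C.right u s)

theorem kr_mem {A : GL (Fin a) F} {B : GL (Fin b) F} {m n : F}
    (hA : ∀ x y, f₁ (A.val *ᵥ x) (A.val *ᵥ y) = m * f₁ x y)
    (hB : ∀ x y, f₂ (B.val *ᵥ x) (B.val *ᵥ y) = n * f₂ x y) (hmn : m * n = 1) : kr A B ∈ M :=
  C.le _ (isKron_kr A B) (iso_kr C.left C.right hA hB hmn)

/-- The reflection of the first factor at `z`, tensored with the identity. -/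
noncomputable def krRefl {z : Fin a → F} (hz : f₁ z z ≠ 0) : GL (Fin a × Fin b) F :=
  kr (unitOf (refl f₁ z) (refl f₁ z) (refl_mul_self C.left hz)) 1

theorem krRefl_mem {z : Fin a → F} (hz : f₁ z z ≠ 0) : krRefl C hz ∈ M :=
  kr_mem C (m := 1) (n := 1) (fun x y => by rw [one_mul]; exact refl_iso C.left hz x y)
    (fun x y => by rw [Units.val_one, one_mulVec, one_mulVec, one_mul]) (one_mul 1)

theorem krRefl_apply {z : Fin a → F} (hz : f₁ z z ≠ 0) (x : Fin a → F) (u : Fin b → F) :
    (krRefl C hz).val *ᵥ pt x u = pt (refl f₁ z *ᵥ x) u := by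
  rw [krRefl, kr_apply, Units.val_one, one_mulVec]
  rfl

end CfsgLib.Classical22.TensorMax.SpO
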