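/-
An element of the group fixing the perpendicular of a pure subspace pointwise is given by a scalar.
-/
import Cfsg.Agent.Lib.Classical22.SpOrthTensor.Base
import Cfsg.Agent.Lib.Classical22.SpOrthTensor.Alg

set_option autoImplicit false
set_option maxHeartbeats 800000

namespace CfsgLib.Classical22.TensorMax.SpO

open Matrix Kronecker CfsgLib.Transvec CfsgLib.Classical22.TensorMax.SympO
open scoped MatrixGroups

variable {F : Type*} [Field F] {a b : ℕ} {f₁ : (Fin a → F) → (Fin a → F) → F}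
  {f₂ : (Fin b → F) → (Fin b → F) → F}

/-- Three linear maps without a common avoidance obstruction. -/
lemma exists_three (h2 : (2 : F) ≠ 0) {U W : Type*} [AddCommGroup U] [Module F U] [AddCommGroup W] [Module F W]
    (L₁ L₂ : U →ₗ[F] W) (h₁ : L₁ ≠ 0) (h₂ : L₂ ≠ 0) (h₃ : L₁ + L₂ ≠ 0) :
    ∃ x, L₁ x ≠ 0 ∧ L₂ x ≠ 0 ∧ L₁ x + L₂ x ≠ 0 := by
  obtain ⟨p, hp1, hp2⟩ : ∃ p, L₁ p ≠ 0 ∧ L₂ p ≠ 0 := by
    obtain ⟨u, hu⟩ := DFunLike.ne_iff.mp h₁
    obtain ⟨v, hv⟩ := DFunLike.ne_iff.mp h₂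
    by_cases h : L₂ u = 0
    · by_cases h' : L₁ v = 0
      · exact ⟨u + v, by simpa [h'] using hu, by simpa [h] using hv⟩
      · exact ⟨v, h', hv⟩
    · exact ⟨u, hu, h⟩
  by_cases hp : L₁ p + L₂ p = 0
  swap
  · exact ⟨p, hp1, hp2, hp⟩
  obtain ⟨r, hr⟩ := DFunLike.ne_iff.mp h₃
  simp only [LinearMap.add_apply, LinearMap.zero_apply] at hr
  have huniq : ∀ (L : U →ₗ[F] W), L p ≠ 0 → ∀ s t : F, L (r + s • p) = 0 → L (r + t • p) = 0 → s = t :=
    fun L hL s t h h' => by
      have e : (s - t) • L p = 0 := by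
        rw [sub_smul, ← map_smul, ← map_smul, ← map_sub, show s • p - t • p = r + s • p - (r + t • p) by abel,
          map_sub, h, h', sub_zero]
      exact sub_eq_zero.mp ((smul_eq_zero.mp e).resolve_right hL)
  have h01 : (0 : F) ≠ 1 := zero_ne_one
  have h0m : (0 : F) ≠ -1 := fun h => one_ne_zero (neg_eq_zero.mp h.symm)
  have h1m : (1 : F) ≠ -1 := fun h => h2 (by linear_combination h)
  obtain ⟨t, ht1, ht2⟩ : ∃ t : F, L₁ (r + t • p) ≠ 0 ∧ L₂ (r + t • p) ≠ 0 := by
    by_contra hc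
    push Not at hc
    by_cases e0 : L₁ (r + (0 : F) • p) = 0
    · have e1 : L₁ (r + (1 : F) • p) ≠ 0 := fun h => h01 (huniq L₁ hp1 _ _ e0 h)
      have e2 : L₁ (r + (-1 : F) • p) ≠ 0 := fun h => h0m (huniq L₁ hp1 _ _ e0 h)
      exact h1m (huniq L₂ hp2 _ _ (hc _ e1) (hc _ e2))
    · by_cases e1 : L₁ (r + (1 : F) • p) = 0
      · have e2 : L₁ (r + (-1 : F) • p) ≠ 0 := fun h => h1m (huniq L₁ hp1 _ _ e1 h)
        exact h0m (huniq L₂ hp2 _ _ (hc _ e0) (hc _ e2))
      · exact h01 (huniq L₂ hp2 _ _ (hc _ e0) (hc _ e1))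
  refine ⟨_, ht1, ht2, ?_⟩
  rw [map_add, map_add, map_smul, map_smul, add_add_add_comm, ← smul_add, hp, smul_zero, add_zero]
  exact hr

section Hyp

variable (hr : Cfsg.Geo.IsSymplecticForm f₂)
include hr

/-- The map acting by scalars on a hyperbolic pair and by `Bu` on its perpendicular. -/
def hypLin (e e' : Fin b → F) (α β : F) (Bu : (Fin b → F) →ₗ[F] (Fin b → F)) : (Fin b → F) →ₗ[F] (Fin b → F) where
  toFun z := (α * f₂ z e) • e' - (β * f₂ z e') • e + Bu (z - f₂ z e • e' + f₂ z e' • e)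
  map_add' z w := by
    simp only [hr.bilinear.add_left, mul_add, add_smul, map_add, map_sub]; abel
  map_smul' c z := by
    simp only [hr.bilinear.smul_left, RingHom.id_apply, map_add, map_sub, map_smul, smul_add, smul_sub, smul_smul,
      mul_left_comm c]

variable {e e' : Fin b → F} (he : f₂ e' e = 1)
include he

lemma hyp_proj (z : Fin b → F) :
    f₂ (z - f₂ z e • e' + f₂ z e' • e) e = 0 ∧ f₂ (z - f₂ z e • e' + f₂ z e' • e) e' = 0 := by
  constructor <;>
    simp only [hr.bilinear.add_left, r_sub_left hr, hr.bilinear.smul_left, hr.alternating, he, hr.skew e e'] <;> ring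

lemma hypLin_form {α β n : F} (hαβ : α * β = n) {Bu : (Fin b → F) →ₗ[F] (Fin b → F)}
    (hperp : ∀ u, f₂ u e = 0 → f₂ u e' = 0 → f₂ (Bu u) e = 0 ∧ f₂ (Bu u) e' = 0)
    (hform : ∀ u v, f₂ u e = 0 → f₂ u e' = 0 → f₂ v e = 0 → f₂ v e' = 0 → f₂ (Bu u) (Bu v) = n * f₂ u v)
    (z w : Fin b → F) : f₂ (hypLin hr e e' α β Bu z) (hypLin hr e e' α β Bu w) = n * f₂ z w := by
  obtain ⟨u, hu⟩ : ∃ u, u = z - f₂ z e • e' + f₂ z e' • e := ⟨_, rfl⟩
  obtain ⟨v, hv⟩ : ∃ v, v = w - f₂ w e • e' + f₂ w e' • e := ⟨_, rfl⟩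
  obtain ⟨hue, hue'⟩ := hu ▸ hyp_proj hr he z
  obtain ⟨hve, hve'⟩ := hv ▸ hyp_proj hr he w
  obtain ⟨h1, h2⟩ := hperp u hue hue'
  obtain ⟨h3, h4⟩ := hperp v hve hve'
  have hz : z = f₂ z e • e' - f₂ z e' • e + u := by rw [hu]; abel
  have hw : w = f₂ w e • e' - f₂ w e' • e + v := by rw [hv]; abel
  simp only [hypLin, LinearMap.coe_mk, AddHom.coe_mk, ← hu, ← hv]
  conv_rhs => arg 2; rw [hz, hw]
  simp only [hr.bilinear.add_left, hr.bilinear.add_right, r_sub_left hr, r_sub_right hr, hr.bilinear.smul_left,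
    hr.bilinear.smul_right, hr.alternating, he, hr.skew e e', h1, h2, hue, hue', hr.skew e' v, hr.skew e v, hve, hve',
    hr.skew e' (Bu v), hr.skew e (Bu v), h3, h4, hform u v hue hue' hve hve']
  linear_combination (-f₂ z e * f₂ w e' + f₂ z e' * f₂ w e) * hαβ

lemma hypLin_injective {α β n : F} (hn : n ≠ 0) (hαβ : α * β = n) {Bu : (Fin b → F) →ₗ[F] (Fin b → F)}
    (hperp : ∀ u, f₂ u e = 0 → f₂ u e' = 0 → f₂ (Bu u) e = 0 ∧ f₂ (Bu u) e' = 0)
    (hform : ∀ u v, f₂ u e = 0 → f₂ u e' = 0 → f₂ v e = 0 → f₂ v e' = 0 → f₂ (Bu u) (Bu v) = n * f₂ u v) :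
    Function.Injective (hypLin hr e e' α β Bu) := fun z w h => SympO.eq_of_form hr fun p =>
  mul_left_cancel₀ hn (by rw [← hypLin_form hr he hαβ hperp hform, h, hypLin_form hr he hαβ hperp hform])

lemma hypLin_e (α β : F) (Bu : (Fin b → F) →ₗ[F] (Fin b → F)) : hypLin hr e e' α β Bu e = β • e := by
  simp [hypLin, hr.alternating, hr.skew e e', he]

end Hyp

lemma exists_partner_alt (hr : Cfsg.Geo.IsSymplecticForm f₂) {e : Fin b → F} (he : e ≠ 0) :
    ∃ e', f₂ e' e = 1 := by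
  obtain ⟨z, hz⟩ := (hr.nondegenerate e he).1
  exact ⟨(f₂ z e)⁻¹ • z, by rw [hr.bilinear.smul_left, inv_mul_cancel₀ hz]⟩

variable [Fintype F] {M : Subgroup (GL (Fin a × Fin b) F)} (C : Ctx f₁ f₂ M)
include C

/-- An element moving only along the pure subspace at `e` is given by a self-adjoint matrix. -/
theorem adj_of_shear {g : GL (Fin a × Fin b) F} (hg : g ∈ M) {e : Fin b → F} (he : e ≠ 0)
    {S : Matrix (Fin a) (Fin a) F} (hgS : ∀ v, g.val *ᵥ v = v + pt (S *ᵥ s2 f₂ e v) e) : adj f₁ S = S := by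
  obtain ⟨e', he'⟩ := exists_partner_alt C.right he
  refine sym_adj_eq C.left fun x y => ?_
  have h := C.sub g hg (pt x e') (pt y e')
  rw [hgS, hgS, s2p C.right, s2p C.right, he', one_smul, one_smul] at h
  simp only [bform_add_left C.left, bform_add_right C.left, bform_pt_pt C.left C.right, C.right.alternating,
    C.right.skew e e', he'] at h
  linear_combination -h

/-- Such an element is given by a scalar. -/
theorem scalar_of_shear {g : GL (Fin a × Fin b) F} (hg : g ∈ M) {e : Fin b → F} (he : e ≠ 0)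
    {S : Matrix (Fin a) (Fin a) F} (hgS : ∀ v, g.val *ᵥ v = v + pt (S *ᵥ s2 f₂ e v) e) : ∃ c : F, S = c • 1 := by
  classical
  have hl := C.left
  have hr := C.right
  have h2 := C.two
  obtain ⟨P, hP⟩ : ∃ P : Matrix (Fin a) (Fin a) F → Prop, ∀ S, P S ↔
      ∃ g ∈ M, ∀ v, g.val *ᵥ v = v + pt (S *ᵥ s2 f₂ e v) e := ⟨_, fun S => Iff.rfl⟩
  by_contra hns
  obtain ⟨e', he'⟩ := exists_partner_alt hr he
  have hee : ∀ x, s2 f₂ e (pt x e) = (0 : Fin a → F) := fun x => by rw [s2p hr, hr.alternating, zero_smul]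
  have hadd : ∀ G K, P G → P K → P (G + K) := fun G K hG hK => by
    obtain ⟨g, hg, hgv⟩ := (hP G).mp hG
    obtain ⟨g₂, hg₂, hg₂v⟩ := (hP K).mp hK
    refine (hP _).mpr ⟨g * g₂, mul_mem hg hg₂, fun v => ?_⟩
    rw [Units.val_mul, ← mulVec_mulVec, hg₂v, hgv, map_add, hee, add_zero, add_mulVec, pt_add_left]
    abel
  have hzero : P 0 := (hP 0).mpr ⟨1, one_mem M, fun v => by rw [Units.val_one, one_mulVec, zero_mulVec, pt_zero_left, add_zero]⟩
  have hsq : ∀ (s : F) G, P G → P ((s * s) • G) := fun s G hG => by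
    by_cases hs : s = 0
    · rw [hs, zero_mul, zero_smul]; exact hzero
    obtain ⟨g, hg, hgv⟩ := (hP G).mp hG
    have hperp : ∀ u, f₂ u e = 0 → f₂ u e' = 0 → f₂ ((LinearMap.id : (Fin b → F) →ₗ[F] _) u) e = 0 ∧
        f₂ ((LinearMap.id : (Fin b → F) →ₗ[F] _) u) e' = 0 := fun u h h' => ⟨h, h'⟩
    have hform : ∀ u v, f₂ u e = 0 → f₂ u e' = 0 → f₂ v e = 0 → f₂ v e' = 0 →
        f₂ ((LinearMap.id : (Fin b → F) →ₗ[F] _) u) ((LinearMap.id : (Fin b → F) →ₗ[F] _) v) = 1 * f₂ u v :=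
      fun u v _ _ _ _ => (one_mul _).symm
    have hinj := hypLin_injective hr he' one_ne_zero (inv_mul_cancel₀ hs) hperp hform
    obtain ⟨t, ht⟩ : ∃ t, t = kr (a := a) 1 (glOfLin _ hinj) := ⟨_, rfl⟩
    have htM : t ∈ M := ht ▸ kr_mem C (m := 1) (n := 1) (fun x y => by rw [Units.val_one, one_mulVec, one_mulVec, one_mul])
      (fun x y => by
        rw [glOfLin_mulVec, glOfLin_mulVec, hypLin_form hr he' (inv_mul_cancel₀ hs) hperp hform]) (one_mul 1)
    have hte : ∀ x, t.val *ᵥ pt x e = pt (s • x) e := fun x => by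
      rw [ht, kr_apply, Units.val_one, one_mulVec, glOfLin_mulVec, hypLin_e hr he', pt_smul_right, pt_smul_left]
    have hs2 : ∀ v, s • s2 f₂ e (t.val *ᵥ v) = s2 f₂ e v := fun v => sym_eq hl fun p => by
      rw [hl.bilinear.smul_left, ← s2_image hl hr (C.sub t htM) (hte p) v, hl.bilinear.smul_right]
    refine (hP _).mpr ⟨t * g * t⁻¹, mul_mem (mul_mem htM hg) (inv_mem htM), fun v => ?_⟩
    obtain ⟨y, rfl⟩ : ∃ y, v = t.val *ᵥ y := ⟨_, (Transvec.mulVec_inv_cancel t v).symm⟩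
    rw [Units.val_mul, Units.val_mul, ← mulVec_mulVec, ← mulVec_mulVec, Transvec.inv_mulVec_cancel, hgv, mulVec_add,
      hte, ← hs2, mulVec_smul, smul_smul, smul_mulVec]
  have hsmul : ∀ (c : F) G, P G → P (c • G) := fun c G hG => by
    have hodd : Fintype.card F % 2 = 1 := by
      refine FiniteField.odd_card_of_char_ne_two fun h => h2 ?_
      haveI := ringChar.of_eq h
      exact CharTwo.two_eq_zero
    obtain ⟨s, r, hsr⟩ := FiniteField.exists_root_sum_quadratic (f := Polynomial.X ^ 2)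
      (g := Polynomial.X ^ 2 - Polynomial.C c) (Polynomial.degree_X_pow 2)
      (by rw [Polynomial.degree_sub_C (by rw [Polynomial.degree_X_pow]; decide), Polynomial.degree_X_pow]; rfl) hodd
    simp only [Polynomial.eval_pow, Polynomial.eval_X, Polynomial.eval_sub, Polynomial.eval_C] at hsr
    rw [show c = s * s + r * r by linear_combination -hsr, add_smul]
    exact hadd _ _ (hsq s G hG) (hsq r G hG)
  have hconj : ∀ z, f₁ z z ≠ 0 → ∀ G, P G → P (refl f₁ z * G * refl f₁ z) := fun z hz G hG => by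
    obtain ⟨g, hg, hgv⟩ := (hP G).mp hG
    have hh := krRefl_mem C hz
    refine (hP _).mpr ⟨krRefl C hz * g * (krRefl C hz)⁻¹, mul_mem (mul_mem hh hg) (inv_mem hh), fun v => ?_⟩
    obtain ⟨y, rfl⟩ : ∃ y, v = (krRefl C hz).val *ᵥ y := ⟨_, (Transvec.mulVec_inv_cancel _ v).symm⟩
    have hs2 : s2 f₂ e ((krRefl C hz).val *ᵥ y) = refl f₁ z *ᵥ s2 f₂ e y := sym_eq hl fun p => by
      conv_lhs => arg 2; rw [show p = refl f₁ z *ᵥ (refl f₁ z *ᵥ p) by rw [mulVec_mulVec, refl_mul_self hl hz, one_mulVec]]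
      rw [s2_image hl hr (C.sub _ hh) (krRefl_apply C hz _ e), ← sym_adj_spec' hl, adj_refl hl hz]
    rw [Units.val_mul, Units.val_mul, ← mulVec_mulVec, ← mulVec_mulVec, Transvec.inv_mulVec_cancel, hgv, mulVec_add,
      krRefl_apply, hs2, ← mulVec_mulVec, ← mulVec_mulVec, mulVec_mulVec (s2 f₂ e y) (refl f₁ z) (refl f₁ z),
      refl_mul_self hl hz, one_mulVec]
  obtain ⟨x, hx0, hx, hxP⟩ := exists_outer_singular hl h2 C.dim C.hyp hadd hsmul hconj
    ⟨S, (hP S).mpr ⟨g, hg, hgS⟩, adj_of_shear C hg he hgS, hns⟩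
  -- closure of the transvection centres
  obtain ⟨Cl, hCl⟩ : ∃ Cl : (Fin a × Fin b → F) → Prop, ∀ z, Cl z ↔ ∀ c, bTrans h2 hl hr z c ∈ M :=
    ⟨_, fun z => Iff.rfl⟩
  have hmove : ∀ h ∈ M, ∀ z, Cl z → Cl (h.val *ᵥ z) := fun h hh z hz => (hCl _).mpr fun c => by
    have key : bTrans h2 hl hr (h.val *ᵥ z) c = h * bTrans h2 hl hr z c * h⁻¹ := Transvec.gl_ext fun v => by
      obtain ⟨y, rfl⟩ : ∃ y, v = h.val *ᵥ y := ⟨_, (Transvec.mulVec_inv_cancel _ v).symm⟩
      rw [Units.val_mul, Units.val_mul, ← mulVec_mulVec, ← mulVec_mulVec, Transvec.inv_mulVec_cancel, bTrans_apply,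
        bTrans_apply, C.sub h hh, mulVec_add, mulVec_smul]
    exact key ▸ mul_mem (mul_mem hh ((hCl z).mp hz c)) (inv_mem hh)
  have hClsmul : ∀ (t : F) z, Cl z → Cl (t • z) := fun t z hz => (hCl _).mpr fun c => by
    have key : bTrans h2 hl hr (t • z) c = bTrans h2 hl hr z (c * t * t) := Transvec.gl_ext fun v => by
      rw [bTrans_apply, bTrans_apply, bform_smul_right hl, smul_smul]
      ring_nf
    exact key ▸ (hCl z).mp hz _
  have hpair : ∀ z w, Cl z → Cl w → bform f₁ f₂ z w ≠ 0 → Cl (z + w) := fun z w hz hw hzw => by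
    have h := hmove _ ((hCl w).mp hw (bform f₁ f₂ z w)⁻¹) z hz
    rwa [bTrans_apply, inv_mul_cancel₀ hzw, one_smul] at h
  have hmerge : ∀ z w d, Cl z → Cl w → Cl d → bform f₁ f₂ z d ≠ 0 → bform f₁ f₂ w d ≠ 0 →
      bform f₁ f₂ z d + bform f₁ f₂ w d ≠ 0 → Cl (z + w) := fun z w d hz hw hd h1 h1' h3 => by
    by_cases h : bform f₁ f₂ z w = 0
    swap
    · exact hpair z w hz hw h
    have e2 : Cl (w + (-1 : F) • d) := hpair w _ hw (hClsmul _ d hd) (by
      rw [bform_smul_right hl]; simpa using h1')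
    have e := hpair _ _ (hpair z d hz hd h1) e2 (by
      rw [bform_add_left hl, bform_add_right hl, bform_add_right hl, bform_smul_right hl, bform_smul_right hl, h,
        bform_self hl hr h2, bform_skew hl hr w d]
      intro h0; exact h3 (by linear_combination -h0))
    rwa [show z + d + (w + (-1 : F) • d) = z + w by module] at e
  have hfirst : Cl (pt x e) := (hCl _).mpr fun c => by
    obtain ⟨g', hg', hg'v⟩ := (hP _).mp (hsmul c _ hxP)
    convert hg'
    refine Transvec.gl_ext fun v => ?_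
    rw [bTrans_apply, hg'v, bform_pt hl hr, smul_mulVec, sym_outer hl, smul_smul, pt_smul_left]
  -- all pure vectors
  have hall : ∀ y u, Cl (pt y u) := by
    have hzero' : Cl 0 := by simpa using hClsmul 0 _ hfirst
    have hu : ∀ y, Cl (pt y e) → ∀ u, Cl (pt y u) := by
      intro y hy u
      by_cases hu0 : u = 0
      · rw [hu0, pt_zero_right]; exact hzero'
      have step : ∀ u u', Cl (pt y u) → f₂ u u' ≠ 0 → Cl (pt y u') := fun u u' h huu => by
        have h' := hmove _ (root_mem C (u' - u) (f₂ u u')⁻¹) _ h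
        rwa [root_apply hr, s2p hr, r_sub_right hr, hr.alternating, sub_zero, pt_smul_left, smul_smul,
          inv_mul_cancel₀ huu, one_smul, ← pt_add_right, add_sub_cancel] at h'
      obtain ⟨m, -, hm1, hm2⟩ := exists_ne_ne (P := fun _ => True) (fun _ _ _ _ => trivial)
        (φ := fun z => f₂ e z) (ψ := fun z => f₂ z u) (hr.bilinear.add_right e)
        (fun p q => hr.bilinear.add_left p q u) (((hr.nondegenerate e he).2).imp fun _ h => ⟨trivial, h⟩)
        (((hr.nondegenerate u hu0).1).imp fun _ h => ⟨trivial, h⟩)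
      exact step m u (step e m hy hm1) hm2
    -- vectors not orthogonal to a singular good one
    have hnear : ∀ s, f₁ s s = 0 → Cl (pt s e) → ∀ z, f₁ z s ≠ 0 →
        Cl (pt z e) ∧ Cl (pt (z - (f₁ z z / (2 * f₁ z s)) • s) e) ∧
          f₁ (z - (f₁ z z / (2 * f₁ z s)) • s) (z - (f₁ z z / (2 * f₁ z s)) • s) = 0 := by
      intro s hs hsC z hzs
      obtain ⟨α, hα⟩ : ∃ α, α = f₁ z z / (2 * f₁ z s) := ⟨_, rfl⟩
      rw [← hα]
      obtain ⟨s', hs'⟩ : ∃ s', s' = z - α • s := ⟨_, rfl⟩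
      rw [← hs']
      have hsz : f₁ s z = f₁ z s := hl.symm _ _
      have hs's : f₁ s' s' = 0 := by
        rw [hs', sym_sub_left hl, sym_sub_right hl, sym_sub_right hl, sym_quad_smul hl, hl.bilinear.smul_left,
          hl.bilinear.smul_right, hs, hsz, hα]
        field_simp
        ring
      have hss' : f₁ s s' = f₁ z s := by rw [hs', sym_sub_right hl, hl.bilinear.smul_right, hs, hsz]; ring
      have hs'C : Cl (pt s' e) := by
        have hq : f₁ (s - s') (s - s') ≠ 0 := by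
          rw [sym_sub_left hl, sym_sub_right hl, sym_sub_right hl, hs, hs's, hl.symm s' s, hss']
          intro h0; exact mul_ne_zero h2 hzs (by linear_combination -h0)
        have h := hmove _ (krRefl_mem C hq) _ hsC
        rwa [krRefl_apply, refl_mulVec hl,
          show 2 / f₁ (s - s') (s - s') * f₁ s (s - s') = 1 from ?_, one_smul, sub_sub_cancel] at h
        rw [div_mul_eq_mul_div, div_eq_one_iff_eq hq]
        simp only [sym_sub_left hl, sym_sub_right hl, hs, hs's, hl.symm s' s]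
        ring
      refine ⟨?_, hs'C, hs's⟩
      by_cases hz0 : α = 0
      · rwa [show z = s' by rw [hs', hz0, zero_smul, sub_zero]]
      have hzdec : pt z e = α • pt s e + pt s' e := by rw [hs', ← pt_smul_left, ← pt_add_left, add_sub_cancel]
      rw [hzdec]
      obtain ⟨μ, hμ, hμ'⟩ : ∃ μ : F, μ ≠ 0 ∧ α * μ + 1 ≠ 0 := by
        by_cases h : α * 1 + 1 = 0
        · exact ⟨-1, neg_ne_zero.mpr one_ne_zero, fun h' => h2 (by linear_combination h + h')⟩
        · exact ⟨1, one_ne_zero, h⟩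
      have hee' : f₂ e e' = -1 := by rw [hr.skew, he']
      refine hmerge _ _ (pt s (-e') + pt s' (e - μ • e')) (hClsmul _ _ hsC) hs'C
        (hpair _ _ (hu _ hsC _) (hu _ hs'C _) ?_) ?_ ?_ ?_
      all_goals
        simp only [bform_add_right hl, bform_smul_left hl, bform_pt_pt hl hr, hs, hs's, hss', hl.symm s' s,
          r_sub_right hr, hr.bilinear.smul_right, ← neg_one_smul F e', hr.bilinear.smul_left, hr.alternating, hee',
          he', zero_mul, add_zero, zero_add]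
      · intro h0; exact hzs ((mul_eq_zero.mp h0).resolve_right (by ring_nf; norm_num))
      · intro h0
        exact mul_ne_zero (mul_ne_zero hz0 hzs) hμ (by linear_combination h0)
      · intro h0; exact hzs (by linear_combination h0)
      · intro h0
        exact mul_ne_zero hzs hμ' (by linear_combination h0)
    intro z u
    refine hu z ?_ u
    by_cases hz0 : z = 0
    · rw [hz0, pt_zero_left]; exact hzero'
    by_cases hzx : f₁ z x = 0
    swap
    · exact (hnear x hx hfirst z hzx).1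
    obtain ⟨v, -, hv1, hv2⟩ := exists_ne_ne (P := fun _ => True) (fun _ _ _ _ => trivial)
      (φ := fun v => f₁ v x) (ψ := fun v => f₁ v z) (fun p q => hl.bilinear.add_left p q x)
      (fun p q => hl.bilinear.add_left p q z) (((hl.nondegenerate x hx0).1).imp fun _ h => ⟨trivial, h⟩)
      (((hl.nondegenerate z hz0).1).imp fun _ h => ⟨trivial, h⟩)
    obtain ⟨-, hs'C, hs's⟩ := hnear x hx hfirst v hv1
    refine (hnear _ hs's hs'C z ?_).1
    rw [sym_sub_right hl, hl.bilinear.smul_right, hzx, mul_zero, sub_zero, hl.symm]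
    exact hv2
  -- all vectors
  refine C.ne fun z => (hCl z).mp ?_
  rw [eq_sum_pt z]
  generalize (Finset.univ : Finset (Fin b)) = T
  induction T using Finset.cons_induction with
  | empty =>
    rw [Finset.sum_empty]
    simpa using hClsmul 0 _ hfirst
  | cons j T hj ih =>
    rw [Finset.sum_cons]
    obtain ⟨v, hv⟩ : ∃ v, v = pt (fun i => z (i, j)) (Pi.single j 1 : Fin b → F) := ⟨_, rfl⟩
    obtain ⟨w, hw⟩ : ∃ w, w = ∑ l ∈ T, pt (fun i => z (i, l)) (Pi.single l 1 : Fin b → F) := ⟨_, rfl⟩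
    rw [← hw] at ih
    rw [← hv, ← hw]
    by_cases hv0 : v = 0
    · rwa [hv0, zero_add]
    by_cases hw0 : w = 0
    · rw [hw0, add_zero, hv]; exact hall _ _
    by_cases hvw : v + w = 0
    · rw [hvw]; simpa using hClsmul 0 _ hfirst
    obtain ⟨L, hL⟩ : ∃ L : (Fin a × Fin b → F) → (Fin b → F) →ₗ[F] (Fin a → F), ∀ v u, L v u = s2 f₂ u v :=
      ⟨fun v => { toFun := fun u => s2 f₂ u v
                  map_add' := fun p q => s2_add p q v
                  map_smul' := fun c p => s2_smul c p v }, fun v u => rfl⟩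
    have hLne : ∀ v, v ≠ 0 → L v ≠ 0 := fun v hv h => hv (eq_of_s2 hr fun u => by
      rw [← hL, h, map_zero]; rfl)
    obtain ⟨m, hm1, hm2, hm3⟩ := exists_three h2 (L v) (L w) (hLne v hv0) (hLne w hw0) fun h => hLne _ hvw (by
      refine LinearMap.ext fun u => ?_
      have := LinearMap.congr_fun h u
      rw [LinearMap.add_apply, hL, hL] at this
      rw [hL, map_add]; exact this)
    obtain ⟨φ, hφ⟩ : ∃ φ : (Fin a → F) → (Fin a → F) →ₗ[F] F, ∀ y p, φ y p = f₁ y p :=
      ⟨fun y => { toFun := fun p => f₁ y p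
                  map_add' := fun p q => hl.bilinear.add_right y p q
                  map_smul' := fun c p => hl.bilinear.smul_right c y p }, fun y p => rfl⟩
    have hφne : ∀ y, y ≠ 0 → φ y ≠ 0 := fun y hy h => hy (sym_eq hl fun p => by
      rw [← hφ, h, sym_zero_left hl]; rfl)
    obtain ⟨p, hp1, hp2, hp3⟩ := exists_three h2 (φ (L v m)) (φ (L w m)) (hφne _ hm1) (hφne _ hm2) fun h =>
      hφne _ hm3 (LinearMap.ext fun p => by
        have := LinearMap.congr_fun h p
        rw [LinearMap.add_apply, hφ, hφ] at this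
        rw [hφ, hl.bilinear.add_left]; exact this)
    rw [hφ, hL] at hp1 hp2
    rw [hφ, hφ, hL, hL] at hp3
    exact hmerge v w (pt p m) (by rw [hv]; exact hall _ _) ih (hall p m) (by rwa [bform_pt hl hr]) (by rwa [bform_pt hl hr])
      (by rwa [bform_pt hl hr, bform_pt hl hr])

end CfsgLib.Classical22.TensorMax.SpO
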