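/-
Every element of the group fixing a pure subspace is a tensor product.
-/
import Cfsg.Agent.Lib.Classical22.SpOrthTensor.Scalar

set_option autoImplicit false
set_option maxHeartbeats 800000

namespace CfsgLib.Classical22.TensorMax.SpO

open Matrix Kronecker CfsgLib.Transvec CfsgLib.Classical22.TensorMax.SympO
open scoped MatrixGroups

variable {F : Type*} [Field F] {a b : ℕ} {f₁ : (Fin a → F) → (Fin a → F) → F}
  {f₂ : (Fin b → F) → (Fin b → F) → F}

lemma isKron_mul {g h : GL (Fin a × Fin b) F} (hg : IsKron g) (hh : IsKron h) : IsKron (g * h) :=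
  (Cfsg.Geo.kroneckerSubgroup a b F).mul_mem hg hh

lemma isKron_inv {g : GL (Fin a × Fin b) F} (hg : IsKron g) : IsKron g⁻¹ :=
  (Cfsg.Geo.kroneckerSubgroup a b F).inv_mem hg

variable [Fintype F] {M : Subgroup (GL (Fin a × Fin b) F)} (C : Ctx f₁ f₂ M)
include C

/-- The scalar element moving along `e` and `d`. -/
theorem exists_scalarT {e d : Fin b → F} (hde : f₂ d e = 0) (c : F) :
    ∃ g ∈ M, IsKron g ∧ ∀ v, g.val *ᵥ v = v + pt (c • s2 f₂ e v) d + pt (c • s2 f₂ d v) e := by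
  have hr := C.right
  have hed : f₂ e d = 0 := by rw [hr.skew, hde, neg_zero]
  refine ⟨root a hr (e + d) c * root a hr e (-c) * root a hr d (-c),
    mul_mem (mul_mem (root_mem C _ _) (root_mem C _ _)) (root_mem C _ _),
    isKron_mul (isKron_mul (isKron_root hr _ _) (isKron_root hr _ _)) (isKron_root hr _ _), fun v => ?_⟩
  rw [Units.val_mul, Units.val_mul, ← mulVec_mulVec, ← mulVec_mulVec, root_apply hr, root_apply hr, root_apply hr]
  simp only [map_add, map_smul, s2p hr, s2_add, hr.bilinear.add_right, hed, hde, hr.alternating, zero_smul,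
    smul_zero, add_zero, pt_add_right, pt_add_left, pt_smul_left]
  module

/-- Shears along a pure subspace are tensor products. -/
theorem kron_of_shear {g : GL (Fin a × Fin b) F} (hg : g ∈ M) {e : Fin b → F} (he : e ≠ 0)
    (hfix : ∀ x, g.val *ᵥ pt x e = pt x e)
    (hsh : ∀ u, f₂ u e = 0 → ∀ x, ∃ y, g.val *ᵥ pt x u = pt x u + pt y e) :
    IsKron g ∧ ∀ u, f₂ u e = 0 → ∃ κ : F, ∀ x, g.val *ᵥ pt x u = pt x u + κ • pt x e := by
  classical
  have hl := C.left
  have hr := C.right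
  have h2 := C.two
  obtain ⟨φ₀, -, hφ₀⟩ := exists_functional (E := (⊥ : Submodule F (Fin b → F))) (u := e) (by simpa using he)
  obtain ⟨e', he'⟩ := exists_partner_alt hr he
  obtain ⟨R, hR⟩ : ∃ R : (Fin b → F) → Matrix (Fin a) (Fin a) F → Prop, ∀ d K, R d K ↔
      ∃ h ∈ M, ∃ L : Matrix (Fin a) (Fin a) F, ∀ v, h.val *ᵥ v =
        v + pt (adj f₁ K *ᵥ s2 f₂ e v) d + pt (K *ᵥ s2 f₂ d v + L *ᵥ s2 f₂ e v) e := ⟨_, fun d K => Iff.rfl⟩
  have hee : ∀ x, s2 f₂ e (pt x e) = (0 : Fin a → F) := fun x => by rw [s2p hr, hr.alternating, zero_smul]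
  -- scalar elements
  have hRone : ∀ d, f₂ d e = 0 → R d 1 := fun d hd => by
    obtain ⟨t, ht, -, htv⟩ := exists_scalarT C hd 1
    exact (hR d 1).mpr ⟨t, ht, 0, fun v => by
      rw [htv, sym_adj_one hl, one_mulVec, one_mulVec, zero_mulVec, add_zero, one_smul, one_smul]⟩
  -- pairing of two such elements
  have hpairR : ∀ d d' K K', f₂ d e = 0 → f₂ d' e = 0 → f₂ d' d = 1 → R d K → R d' K' →
      ∃ c : F, K * adj f₁ K' + K' * adj f₁ K = c • 1 := by
    intro d d' K K' hd hd' hdd hK hK'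
    obtain ⟨g₁, hg₁, L, h₁⟩ := (hR d K).mp hK
    obtain ⟨g₂, hg₂, L', h₂⟩ := (hR d' K').mp hK'
    have hed : f₂ e d = 0 := by rw [hr.skew, hd, neg_zero]
    have hed' : f₂ e d' = 0 := by rw [hr.skew, hd', neg_zero]
    have hdd' : f₂ d d' = -1 := by rw [hr.skew, hdd]
    have hgfix : ∀ x, (g₁ * g₂).val *ᵥ pt x e = pt x e ∧ (g₂ * g₁).val *ᵥ pt x e = pt x e := fun x => by
      constructor <;>
        simp only [Units.val_mul, ← mulVec_mulVec, h₁, h₂, map_add, s2p hr, hr.alternating, hed, hed', zero_smul,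
          mulVec_zero, add_zero, pt_zero_left]
    obtain ⟨z, hz⟩ : ∃ z, z = (g₂ * g₁)⁻¹ * (g₁ * g₂) := ⟨_, rfl⟩
    refine scalar_of_shear C (g := z) (hz ▸ mul_mem (inv_mem (mul_mem hg₂ hg₁)) (mul_mem hg₁ hg₂)) he fun v => ?_
    refine mulVec_injective (g₂ * g₁) ?_
    simp only
    rw [mulVec_add (g₂ * g₁).val, (hgfix _).2, hz, Units.val_mul ((g₂ * g₁)⁻¹), ← mulVec_mulVec,
      Transvec.mulVec_inv_cancel]
    simp only [Units.val_mul, ← mulVec_mulVec, h₁, h₂, map_add, s2p hr, hr.alternating, hd, hd', hed, hed', hdd,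
      hdd', zero_smul, one_smul, neg_smul, mulVec_add, mulVec_zero, mulVec_neg, add_zero, zero_add, add_mulVec,
      pt_add_left, pt_zero_left]
    simp only [← mulVec_mulVec, show ∀ x : Fin a → F, pt (-x) e = - pt x e from fun x => (ptL e).map_neg x]
    abel
  -- moving such elements
  have hconjR : ∀ h ∈ M, ∀ (A A' : Matrix (Fin a) (Fin a) F), A' * A = 1 →
      (∀ x y, f₁ (A *ᵥ x) (A *ᵥ y) = f₁ x y) → (∀ x, h.val *ᵥ pt x e = pt (A *ᵥ x) e) →
      ∀ d d', (∀ x, h.val *ᵥ pt x d = pt (A *ᵥ x) d') → ∀ K, R d K → R d' (A * K * A') := by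
    intro h hh A A' hA hiso hhe d d' hhd K hK
    obtain ⟨t, ht, L, htv⟩ := (hR d K).mp hK
    have hAA : A * A' = 1 := mul_eq_one_comm.mp hA
    have hadjA : adj f₁ A = A' := by
      rw [← mul_one (adj f₁ A), ← hAA, ← mul_assoc, sym_adj_iso hl hiso, one_mul]
    have hs : ∀ (u u' : Fin b → F), (∀ x, h.val *ᵥ pt x u = pt (A *ᵥ x) u') → ∀ v,
        s2 f₂ u' (h.val *ᵥ v) = A *ᵥ s2 f₂ u v := fun u u' hu v => sym_eq hl fun p => by
      conv_lhs => arg 2; rw [show p = A *ᵥ (A' *ᵥ p) by rw [mulVec_mulVec, hAA, one_mulVec]]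
      rw [s2_image hl hr (C.sub h hh) (hu _), sym_adj_spec hl A, hadjA]
    refine (hR _ _).mpr ⟨h * t * h⁻¹, mul_mem (mul_mem hh ht) (inv_mem hh), A * L * A', fun v => ?_⟩
    obtain ⟨y, rfl⟩ : ∃ y, v = h.val *ᵥ y := ⟨_, (Transvec.mulVec_inv_cancel _ v).symm⟩
    rw [Units.val_mul, Units.val_mul, ← mulVec_mulVec, ← mulVec_mulVec, Transvec.inv_mulVec_cancel, htv, mulVec_add,
      mulVec_add, hhd, hhe, hs _ _ hhe, hs _ _ hhd, sym_adj_mul hl, sym_adj_mul hl, hadjA,
      show adj f₁ A' = A by rw [← hadjA, sym_adj_adj hl]]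
    simp only [mulVec_add, ← mulVec_mulVec]
    simp only [mulVec_mulVec _ A' A, hA, one_mulVec]
  -- a single component of g
  have hsingle : ∀ d, f₂ d e = 0 → ∀ K : Matrix (Fin a) (Fin a) F,
      (∀ x, g.val *ᵥ pt x d = pt x d + pt (K *ᵥ x) e) → R d K := by
    intro d hd K hK
    have hinv : ∀ v, s2 f₂ d (g⁻¹.val *ᵥ v) = s2 f₂ d v + adj f₁ K *ᵥ s2 f₂ e v := fun v => sym_eq hl fun p => by
      conv_lhs => rw [← bform_pt hl hr, ← C.sub g hg, Transvec.mulVec_inv_cancel, hK, bform_add_right hl,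
        bform_pt hl hr, bform_pt hl hr]
      rw [hl.bilinear.add_left, sym_adj_spec' hl]
    have hed : f₂ e d = 0 := by rw [hr.skew, hd, neg_zero]
    refine (hR d K).mpr ⟨root a hr d (-1) * (g * root a hr d 1 * g⁻¹),
      mul_mem (root_mem C _ _) (mul_mem (mul_mem hg (root_mem C _ _)) (inv_mem hg)), K * adj f₁ K, fun v => ?_⟩
    rw [Units.val_mul, Units.val_mul, Units.val_mul, ← mulVec_mulVec, ← mulVec_mulVec, ← mulVec_mulVec,
      root_apply hr (s := (1 : F)), mulVec_add, one_smul, Transvec.mulVec_inv_cancel, hK, hinv, root_apply hr]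
    simp only [map_add, s2p hr, hr.alternating, hed, zero_smul, add_zero, zero_add, mulVec_add, pt_add_left,
      ← mulVec_mulVec]
    module
  -- every component is scalar
  have hcomp : ∀ d, f₂ d e = 0 → ∃ κ : F, ∀ x, g.val *ᵥ pt x d = pt x d + κ • pt x e := by
    intro d hd
    by_cases hdsp : d ∈ Submodule.span F {e}
    · obtain ⟨t, rfl⟩ := Submodule.mem_span_singleton.mp hdsp
      exact ⟨0, fun x => by rw [zero_smul, add_zero, pt_smul_right, mulVec_smul, hfix]⟩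
    obtain ⟨K, hK⟩ : ∃ K : Matrix (Fin a) (Fin a) F, ∀ x, g.val *ᵥ pt x d = pt x d + pt (K *ᵥ x) e := by
      refine ⟨LinearMap.toMatrix' ((sl φ₀).comp ((Matrix.mulVecLin g.val - LinearMap.id).comp (ptL d))), fun x => ?_⟩
      obtain ⟨y, hy⟩ := hsh d hd x
      rw [LinearMap.toMatrix'_mulVec, LinearMap.comp_apply, LinearMap.comp_apply, LinearMap.sub_apply,
        LinearMap.id_apply, ptL_apply, Matrix.mulVecLin_apply, hy, add_sub_cancel_left, sl_pt, hφ₀, one_smul]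
    obtain ⟨d', hd'0, hd'1⟩ := SympO.exists_dual hr hdsp
    have hd'e := hd'0 e (Submodule.mem_span_singleton_self _)
    have hdK := hsingle d hd K hK
    -- moving to the partner
    have hmv : ∀ A A' : Matrix (Fin a) (Fin a) F, A' * A = 1 → (∀ x y, f₁ (A *ᵥ x) (A *ᵥ y) = f₁ x y) →
        ∀ h ∈ M, (∀ x u, h.val *ᵥ pt x u = pt (A *ᵥ x) u) → R d' (A * K * A') := by
      intro A A' hA hiso h hh hact
      refine hconjR (root a hr (d' - d) (-1) * h) (mul_mem (root_mem C _ _) hh) A A' hA hiso (fun x => ?_) d d'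
        (fun x => ?_) K hdK
      · rw [Units.val_mul, ← mulVec_mulVec, hact, root_apply hr, s2p hr, r_sub_right hr, hr.skew e d', hr.skew e d,
          hd'e, hd]
        simp [pt_zero_left]
      · rw [Units.val_mul, ← mulVec_mulVec, hact, root_apply hr, s2p hr, r_sub_right hr, hr.alternating,
          hr.skew d d', hd'1]
        simp only [pt_sub_right, pt_smul_left]
        module
    obtain ⟨σ, hσ⟩ := hpairR d d' K 1 hd hd'e hd'1 hdK (hRone d' hd'e)
    rw [sym_adj_one hl, mul_one, one_mul] at hσ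
    obtain ⟨s, hs⟩ : ∃ s : F, σ = s + s := ⟨σ / 2, by rw [← add_div, ← two_mul, mul_div_cancel_left₀ _ h2]⟩
    obtain ⟨G, hG⟩ : ∃ G, G = K - s • 1 := ⟨_, rfl⟩
    have hadjG : adj f₁ G = -G := by
      rw [hG, sym_adj_sub hl, sym_adj_scalar hl, eq_sub_of_add_eq' hσ, hs, add_smul]
      abel
    have hKG : K = s • 1 + G := by rw [hG]; abel
    have hadjK : adj f₁ K = s • 1 - G := by rw [hKG, sym_adj_add hl, sym_adj_scalar hl, hadjG, sub_eq_add_neg]
    have hkey : ∀ z, f₁ z z ≠ 0 → ∃ μ : F, (G - refl f₁ z * G * refl f₁ z) * (G - refl f₁ z * G * refl f₁ z) = μ • 1 := by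
      intro z hz
      obtain ⟨γ, hγ⟩ := hpairR d d' K K hd hd'e hd'1 hdK (by
        have := hmv 1 1 (one_mul 1) (fun x y => by rw [one_mulVec, one_mulVec]) 1 (one_mem M)
          (fun x u => by rw [Units.val_one, one_mulVec, one_mulVec])
        rwa [one_mul, mul_one] at this)
      obtain ⟨δ, hδ⟩ := hpairR d d' K (refl f₁ z * K * refl f₁ z) hd hd'e hd'1 hdK
        (hmv _ _ (refl_mul_self hl hz) (refl_iso hl hz) _ (krRefl_mem C hz) (krRefl_apply C hz))
      obtain ⟨G', hG'⟩ : ∃ G', G' = refl f₁ z * G * refl f₁ z := ⟨_, rfl⟩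
      have hK' : refl f₁ z * K * refl f₁ z = s • 1 + G' := by
        rw [hKG, mul_add, add_mul, mul_smul_comm, mul_one, smul_mul_assoc, refl_mul_self hl hz, hG']
      have hadjG' : adj f₁ G' = -G' := by
        rw [hG', sym_adj_mul hl, sym_adj_mul hl, adj_refl hl hz, hadjG, neg_mul, mul_neg, mul_assoc]
      rw [hK', sym_adj_add hl, sym_adj_scalar hl, hadjG', hadjK, hKG] at hδ
      rw [hadjK, hKG] at hγ
      obtain ⟨ν, hν⟩ : ∃ ν : F, G * G = ν • 1 := by
        refine ⟨s * s - γ / 2, ?_⟩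
        have e1 : (2 : F) • (G * G) = (2 * (s * s) - γ) • (1 : Matrix (Fin a) (Fin a) F) := by
          rw [sub_smul, ← hγ]
          simp only [mul_add, add_mul, mul_sub, smul_mul_assoc, mul_smul_comm, one_mul, mul_one]
          module
        rw [← inv_smul_smul₀ h2 (G * G), e1, smul_smul]
        congr 1
        field_simp
      refine ⟨ν + ν - (2 * (s * s) - δ), ?_⟩
      have hν' : G' * G' = ν • 1 := by
        rw [hG', show refl f₁ z * G * refl f₁ z * (refl f₁ z * G * refl f₁ z) =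
          refl f₁ z * G * (refl f₁ z * refl f₁ z) * G * refl f₁ z by noncomm_ring, refl_mul_self hl hz, mul_one,
          mul_assoc (refl f₁ z) G G, hν, mul_smul_comm, mul_one, smul_mul_assoc, refl_mul_self hl hz]
      rw [← hG', sub_smul, add_smul, sub_smul, ← hδ]
      conv_rhs => arg 1; rw [← hν]; arg 2; rw [hν, ← hν']
      simp only [mul_add, add_mul, mul_sub, sub_mul, neg_mul, mul_neg, smul_mul_assoc, mul_smul_comm, one_mul,
        mul_one, smul_add, smul_sub, smul_smul, smul_neg]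
      module
    have hG0 : ∀ z, f₁ z z ≠ 0 → G *ᵥ z = 0 := by
      intro z hz
      obtain ⟨μ, hμ⟩ := hkey z hz
      obtain ⟨D, hD⟩ : ∃ D, D = G - refl f₁ z * G * refl f₁ z := ⟨_, rfl⟩
      rw [← hD] at hμ
      have hGz : f₁ (G *ᵥ z) z = 0 := by
        have h := sym_adj_spec hl G z z
        rw [hadjG, neg_mulVec, hl.symm z, sym_neg_left hl] at h
        exact (mul_eq_zero.mp (show 2 * f₁ (G *ᵥ z) z = 0 by linear_combination h)).resolve_left h2
      have hGx : ∀ x, f₁ (G *ᵥ x) z = - f₁ x (G *ᵥ z) := fun x => by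
        rw [sym_adj_spec hl, hadjG, neg_mulVec, hl.symm, sym_neg_left hl, hl.symm]
      obtain ⟨k, hk⟩ : ∃ k, k = 2 / f₁ z z := ⟨_, rfl⟩
      have hDx : ∀ x, D *ᵥ x = k • (f₁ x z • (G *ᵥ z) - f₁ x (G *ᵥ z) • z) := fun x => by
        rw [hD, sub_mulVec, ← mulVec_mulVec, ← mulVec_mulVec, refl_mulVec hl, refl_mulVec hl z x, mulVec_sub,
          mulVec_smul, sym_sub_left hl, hl.bilinear.smul_left, hGz, hGx, hk]
        module
      have hμ0 : μ = 0 := by
        by_contra h0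
        have h1 := Submodule.finrank_mono (show (⊤ : Submodule F (Fin a → F)) ≤
            Submodule.span F ({z, G *ᵥ z} : Set (Fin a → F)) from fun y _ => by
          rw [show y = D *ᵥ (D *ᵥ (μ⁻¹ • y)) by rw [mulVec_mulVec, hμ, smul_mulVec, one_mulVec, smul_inv_smul₀ h0],
            hDx]
          exact Submodule.smul_mem _ _ (Submodule.sub_mem _ (Submodule.smul_mem _ _ (Submodule.subset_span (by simp)))
            (Submodule.smul_mem _ _ (Submodule.subset_span (by simp)))))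
        have h3 : Module.finrank F (Submodule.span F ({z, G *ᵥ z} : Set (Fin a → F))) ≤ 2 := by
          refine (finrank_span_le_card ({z, G *ᵥ z} : Set (Fin a → F))).trans ?_
          rw [Set.toFinset_insert, Set.toFinset_singleton]
          exact Finset.card_le_two
        rw [finrank_top, Module.finrank_fin_fun] at h1
        have := C.dim
        omega
      by_contra hne
      have hns : G *ᵥ z ∉ Submodule.span F {z} := fun hm => by
        obtain ⟨t, ht⟩ := Submodule.mem_span_singleton.mp hm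
        rw [← ht, hl.bilinear.smul_left, mul_eq_zero] at hGz
        rw [hGz.resolve_right hz, zero_smul] at ht
        exact hne ht.symm
      obtain ⟨ψ, hψ0, hψ1⟩ := exists_functional hns
      obtain ⟨y, hy⟩ := sym_repr hl ψ
      have hyz : f₁ y z = 0 := by rw [hl.symm, hy, hψ0 z (Submodule.mem_span_singleton_self _)]
      have hyG : f₁ y (G *ᵥ z) = 1 := by rw [hl.symm, hy, hψ1]
      have h := congrArg (fun N : Matrix (Fin a) (Fin a) F => N *ᵥ y) hμ
      simp only [← mulVec_mulVec, hμ0, zero_smul, zero_mulVec] at h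
      rw [hDx y, hyz, hyG, zero_smul, zero_sub, one_smul, mulVec_smul, mulVec_neg, hDx z,
        hl.symm z (G *ᵥ z), hGz, zero_smul, sub_zero, smul_neg, neg_eq_zero, smul_smul, smul_smul,
        smul_eq_zero] at h
      refine h.elim (fun h => ?_) hne
      rw [hk] at h
      exact mul_ne_zero (mul_ne_zero (div_ne_zero h2 hz) (div_ne_zero h2 hz)) hz (by linear_combination h)
    refine ⟨s, fun x => ?_⟩
    obtain ⟨Z, hZ⟩ : ∃ Z : Submodule F (Fin a → F), ∀ x, x ∈ Z ↔ G *ᵥ x = 0 :=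
      ⟨LinearMap.ker (Matrix.mulVecLin G), fun x => Iff.rfl⟩
    have hGx : G *ᵥ x = 0 := (hZ x).mp (nd_span hl h2 (nd_top hl) (fun z _ hz => (hZ z).mpr (hG0 z hz)) trivial)
    rw [hK, hKG, add_mulVec, hGx, add_zero, smul_mulVec, one_mulVec, pt_smul_left]
  refine ⟨?_, hcomp⟩
  -- remove the scalar part
  obtain ⟨x₁, ψ, hψ⟩ : ∃ (x₁ ψ : Fin a → F), ψ ⬝ᵥ x₁ = 1 :=
    ⟨Pi.single ⟨0, by have := C.dim; omega⟩ 1, Pi.single ⟨0, by have := C.dim; omega⟩ 1, by simp⟩
  obtain ⟨κ, hκ⟩ : ∃ κ : (Fin b → F) →ₗ[F] F, ∀ u, f₂ u e = 0 → ∀ x, g.val *ᵥ pt x u = pt x u + κ u • pt x e := by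
    refine ⟨{ toFun := fun u => ψ ⬝ᵥ sl φ₀ (g.val *ᵥ pt x₁ u - pt x₁ u)
              map_add' := fun u w => ?_
              map_smul' := fun c u => ?_ }, fun u hu x => ?_⟩
    · rw [pt_add_right, mulVec_add, add_sub_add_comm, map_add, dotProduct_add]
    · rw [pt_smul_right, mulVec_smul, ← smul_sub, map_smul, dotProduct_smul, RingHom.id_apply]
    · obtain ⟨k, hk'⟩ := hcomp u hu
      simp only [LinearMap.coe_mk, AddHom.coe_mk]
      rw [hk', hk', add_sub_cancel_left, map_smul, sl_pt, hφ₀, one_smul, dotProduct_smul, hψ, smul_eq_mul, mul_one]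
  obtain ⟨w, hw⟩ := exists_repr hr (fun j => κ (Pi.single j 1))
  have hκw : ∀ u, f₂ u w = κ u := fun u => by
    rw [form_eq_dot hr, hw]
    conv_rhs => rw [pi_eq_sum_univ' u, map_sum]
    exact Finset.sum_congr rfl fun j _ => by rw [map_smul, smul_eq_mul, mul_comm]
  have hwe : f₂ w e = 0 := by
    have h1 := hκ e (hr.alternating e) x₁
    rw [hfix, left_eq_add, smul_eq_zero] at h1
    rw [hr.skew, hκw, h1.resolve_right fun h0 => by
      have := pt_eq_zero he h0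
      rw [this, dotProduct_zero] at hψ
      exact zero_ne_one hψ, neg_zero]
  obtain ⟨T, hT, hTk, hT'⟩ := exists_scalarT C hwe (1 : F)
  obtain ⟨g₃, hg₃def⟩ : ∃ g₃, g₃ = T⁻¹ * g := ⟨_, rfl⟩
  have hg₃M : g₃ ∈ M := hg₃def ▸ mul_mem (inv_mem hT) hg
  have hg₃fix : ∀ u, f₂ u e = 0 → ∀ x, g₃.val *ᵥ pt x u = pt x u := fun u hu x => by
    have h1 : T.val *ᵥ pt x u = g.val *ᵥ pt x u := by
      rw [hT', s2p hr, s2p hr, hu, hκ u hu, hκw, zero_smul, smul_zero, pt_zero_left, add_zero, one_smul,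
        pt_smul_left]
    rw [hg₃def, Units.val_mul, ← mulVec_mulVec, ← h1, Transvec.inv_mulVec_cancel]
  obtain ⟨S, hS⟩ : ∃ S : Matrix (Fin a) (Fin a) F, ∀ x, g₃.val *ᵥ pt x e' = pt x e' + pt (S *ᵥ x) e := by
    refine ⟨LinearMap.toMatrix' ((sl φ₀).comp ((Matrix.mulVecLin g₃.val - LinearMap.id).comp (ptL e'))), fun x => ?_⟩
    rw [LinearMap.toMatrix'_mulVec, LinearMap.comp_apply, LinearMap.comp_apply, LinearMap.sub_apply,
      LinearMap.id_apply, ptL_apply, Matrix.mulVecLin_apply, ← mem_pure_of_s2 hr hφ₀ (fun u hu => ?_), add_sub_cancel]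
    refine sym_eq hl fun p => ?_
    have hu' : f₂ u e = 0 := by rw [hr.skew, hu, neg_zero]
    rw [map_sub, sym_sub_left hl, sym_zero_left hl, ← bform_pt hl hr, ← bform_pt hl hr]
    conv_lhs => arg 1; rw [← hg₃fix u hu' p, C.sub g₃ hg₃M]
    rw [sub_self]
  have hg₃v : ∀ v, g₃.val *ᵥ v = v + pt (S *ᵥ s2 f₂ e v) e := fun v => by
    have hj : ∀ j x, g₃.val *ᵥ pt x (Pi.single j 1) =
        pt x (Pi.single j 1) + pt (S *ᵥ s2 f₂ e (pt x (Pi.single j 1))) e := fun j x => by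
      obtain ⟨c, hc⟩ : ∃ c, c = f₂ (Pi.single j 1) e := ⟨_, rfl⟩
      have hz : f₂ (Pi.single j 1 - c • e') e = 0 := by
        rw [r_sub_left hr, hr.bilinear.smul_left, he', mul_one, hc, sub_self]
      rw [s2p hr, ← hc]
      conv_lhs => rw [← sub_add_cancel (Pi.single j 1 : Fin b → F) (c • e'), pt_add_right, mulVec_add, hg₃fix _ hz,
        pt_smul_right, mulVec_smul, hS]
      rw [mulVec_smul, pt_smul_left, pt_sub_right, pt_smul_right, smul_add]
      abel
    conv_rhs => rw [eq_sum_pt v]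
    conv_lhs => rw [eq_sum_pt v, Matrix.mulVec_sum]
    rw [map_sum, Matrix.mulVec_sum, ← ptL_apply, map_sum, ← Finset.sum_add_distrib]
    exact Finset.sum_congr rfl fun j _ => hj j _
  obtain ⟨c, rfl⟩ := scalar_of_shear C hg₃M he hg₃v
  have e1 : g₃ = root a hr e c := Transvec.gl_ext fun v => by
    rw [hg₃v, root_apply hr, smul_mulVec, one_mulVec, pt_smul_left]
  rw [show g = T * g₃ by rw [hg₃def, mul_inv_cancel_left], e1]
  exact isKron_mul hTk (isKron_root hr e c)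

/-- An element fixing a pure subspace is a tensor product. -/
theorem kron_of_fix {y : GL (Fin a × Fin b) F} (hy : y ∈ M) {e : Fin b → F} (he : e ≠ 0)
    (hW : ∀ x, ∃ z, y.val *ᵥ pt x e = pt z e) : IsKron y := by
  classical
  have hl := C.left
  have hr := C.right
  obtain ⟨φ₀, -, hφ₀⟩ := exists_functional (E := (⊥ : Submodule F (Fin b → F))) (u := e) (by simpa using he)
  obtain ⟨e', he'⟩ := exists_partner_alt hr he
  have hee' : f₂ e e' = -1 := by rw [hr.skew, he']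
  obtain ⟨A, hA⟩ : ∃ A : Matrix (Fin a) (Fin a) F, ∀ x, y.val *ᵥ pt x e = pt (A *ᵥ x) e := by
    refine ⟨LinearMap.toMatrix' ((sl φ₀).comp ((Matrix.mulVecLin y.val).comp (ptL e))), fun x => ?_⟩
    obtain ⟨z, hz⟩ := hW x
    rw [LinearMap.toMatrix'_mulVec, LinearMap.comp_apply, LinearMap.comp_apply, ptL_apply, Matrix.mulVecLin_apply, hz,
      sl_pt, hφ₀, one_smul]
  have hAu : IsUnit A := Matrix.mulVec_injective_iff_isUnit.mp fun x x' h => pt_injective he
    (mulVec_injective y (by simp only [ptL_apply]; rw [hA, hA]; exact congrArg (fun z => pt z e) h))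
  obtain ⟨Ag, hAg⟩ : ∃ Ag : GL (Fin a) F, Ag.val = A := ⟨hAu.unit, hAu.unit_spec⟩
  have hse : ∀ v, s2 f₂ e (y⁻¹.val *ᵥ v) = adj f₁ A *ᵥ s2 f₂ e v := fun v => sym_eq hl fun p => by
    have := s2_image hl hr (C.sub y hy) (hA p) (y⁻¹.val *ᵥ v)
    rw [Transvec.mulVec_inv_cancel] at this
    rw [sym_adj_spec' hl, this]
  have hse' : ∀ v, s2 f₂ e v = 0 → s2 f₂ e (y.val *ᵥ v) = 0 := fun v hv => sym_eq hl fun p => by
    rw [sym_zero_left hl, show p = A *ᵥ (Ag⁻¹.val *ᵥ p) by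
      rw [mulVec_mulVec, ← hAg, ← Units.val_mul, mul_inv_cancel, Units.val_one, one_mulVec],
      s2_image hl hr (C.sub y hy) (hA _), hv, sym_zero_left hl]
  -- the multiplier
  obtain ⟨μ, hμ⟩ : ∃ μ : F, A * adj f₁ A = μ • 1 := by
    refine scalar_of_shear C (g := y * root a hr e 1 * y⁻¹) (mul_mem (mul_mem hy (root_mem C _ _)) (inv_mem hy)) he
      fun v => ?_
    rw [Units.val_mul, Units.val_mul, ← mulVec_mulVec, ← mulVec_mulVec, root_apply hr, one_smul, mulVec_add,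
      Transvec.mulVec_inv_cancel, hA, hse, mulVec_mulVec]
  obtain ⟨x₁, hx₁⟩ : ∃ x₁ : Fin a → F, x₁ ≠ 0 := ⟨Pi.single ⟨0, by have := C.dim; omega⟩ 1, by simp⟩
  have hμ0 : μ ≠ 0 := fun h0 => by
    rw [h0, zero_smul] at hμ
    have e1 : adj f₁ A = 0 := by
      rw [← one_mul (adj f₁ A), show (1 : Matrix (Fin a) (Fin a) F) = Ag⁻¹.val * A by rw [← hAg, Units.inv_mul],
        mul_assoc, hμ, mul_zero]
    have e2 : A = 0 := by
      rw [← sym_adj_adj hl A, e1]
      simpa using sym_adj_scalar hl (0 : F)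
    have h3 := hA x₁
    rw [e2, zero_mulVec, pt_zero_left] at h3
    exact hx₁ (pt_eq_zero he (mulVec_injective y (by simpa using h3)))
  have hform : ∀ x x', f₁ (A *ᵥ x) (A *ᵥ x') = μ * f₁ x x' := fun x x' => by
    have e1 : adj f₁ A * A = μ • 1 := by
      rw [← one_mul (adj f₁ A), show (1 : Matrix (Fin a) (Fin a) F) = Ag⁻¹.val * A by rw [← hAg, Units.inv_mul],
        mul_assoc Ag⁻¹.val A, hμ, mul_smul_comm, mul_one, smul_mul_assoc, ← hAg, Units.inv_mul]
    rw [sym_adj_spec hl, mulVec_mulVec, e1, smul_mulVec, one_mulVec, hl.bilinear.smul_right]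
  obtain ⟨ψ, hψ⟩ : ∃ ψ : Fin a → F, ψ ⬝ᵥ (A *ᵥ x₁) = 1 := by
    have hne : A *ᵥ x₁ ≠ 0 := hAg ▸ mulVec_ne_zero Ag hx₁
    obtain ⟨ψ, -, h⟩ := exists_functional (E := (⊥ : Submodule F (Fin a → F))) (u := A *ᵥ x₁) (by simpa using hne)
    exact ⟨ψ, h⟩
  obtain ⟨t, ht⟩ : ∃ t : (Fin b → F) →ₗ[F] (Fin b → F), ∀ u, t u = slA ψ (y.val *ᵥ pt x₁ u) :=
    ⟨(slA ψ).comp ((Matrix.mulVecLin y.val).comp (ptR x₁)), fun u => rfl⟩
  -- the Levi component
  have hlevi : ∀ w, f₂ w e = 0 → ∀ u, f₂ u e = 0 → ∀ x, s2 f₂ w (y.val *ᵥ pt x u) = f₂ (t u) w • (A *ᵥ x) := by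
    intro w hw u hu
    have hew : f₂ e w = 0 := by rw [hr.skew, hw, neg_zero]
    obtain ⟨T, hT, -, hT'⟩ := exists_scalarT C hw (1 : F)
    obtain ⟨g, hgdef⟩ : ∃ g, g = y⁻¹ * T * y := ⟨_, rfl⟩
    have hpre : ∀ z, y⁻¹.val *ᵥ pt z e = pt (Ag⁻¹.val *ᵥ z) e := fun z => by
      conv_lhs => rw [show z = A *ᵥ (Ag⁻¹.val *ᵥ z) by
        rw [mulVec_mulVec, ← hAg, ← Units.val_mul, mul_inv_cancel, Units.val_one, one_mulVec], ← hA,
        Transvec.inv_mulVec_cancel]
    have hgv : ∀ v, s2 f₂ e v = 0 → g.val *ᵥ v = v + pt (Ag⁻¹.val *ᵥ s2 f₂ w (y.val *ᵥ v)) e := fun v hv => by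
      rw [hgdef, Units.val_mul, Units.val_mul, ← mulVec_mulVec, ← mulVec_mulVec, hT', hse' v hv, smul_zero,
        pt_zero_left, add_zero, one_smul, mulVec_add, Transvec.inv_mulVec_cancel, hpre]
    obtain ⟨-, hs⟩ := kron_of_shear C (g := g) (hgdef ▸ mul_mem (mul_mem (inv_mem hy) hT) hy) he (fun x => by
        rw [hgv _ (by rw [s2p hr, hr.alternating, zero_smul]), hA, s2p hr, hew, zero_smul, mulVec_zero, pt_zero_left,
          add_zero])
      (fun u hu x => ⟨_, hgv (pt x u) (by rw [s2p hr, hu, zero_smul])⟩)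
    obtain ⟨κ, hκ⟩ := hs u hu
    have hK : ∀ x, s2 f₂ w (y.val *ᵥ pt x u) = κ • (A *ᵥ x) := fun x => by
      have h := (hgv (pt x u) (by rw [s2p hr, hu, zero_smul])).symm.trans (hκ x)
      rw [add_right_inj, ← pt_smul_left] at h
      have h' := congrArg (fun z => A *ᵥ z) (pt_injective he h :
        Ag⁻¹.val *ᵥ s2 f₂ w (y.val *ᵥ pt x u) = κ • x)
      simp only [mulVec_smul] at h'
      rwa [mulVec_mulVec, ← hAg, ← Units.val_mul, mul_inv_cancel, Units.val_one, one_mulVec, hAg] at h'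
    intro x
    rw [hK]
    congr 1
    rw [form_eq_dot hr, ht, ← dot_sl_slA, show sl (gram f₂ *ᵥ w) (y.val *ᵥ pt x₁ u) = s2 f₂ w (y.val *ᵥ pt x₁ u) from rfl,
      hK, dotProduct_smul, hψ, smul_eq_mul, mul_one]
  have hte : ∀ u, f₂ u e = 0 → f₂ (t u) e = 0 := fun u hu => by
    rw [form_eq_dot hr, ht, ← dot_sl_slA]
    change ψ ⬝ᵥ s2 f₂ e (y.val *ᵥ pt x₁ u) = 0
    rw [hse' _ (by rw [s2p hr, hu, zero_smul]), dotProduct_zero]
  have htP : ∀ u, f₂ u e = 0 → ∀ x, y.val *ᵥ pt x u =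
      pt (A *ᵥ x) (t u) + pt (sl φ₀ (y.val *ᵥ pt x u - pt (A *ᵥ x) (t u))) e := fun u hu x => by
    rw [← mem_pure_of_s2 hr hφ₀ fun w hw => ?_, add_sub_cancel]
    rw [map_sub, hlevi w (by rw [hr.skew, hw, neg_zero]) u hu, s2p hr, sub_self]
  have htform : ∀ u v, f₂ u e = 0 → f₂ v e = 0 → f₂ (t u) (t v) = μ⁻¹ * f₂ u v := fun u v hu hv => by
    obtain ⟨z, hz⟩ := hl.nondegenerate x₁ hx₁ |>.2
    have h := C.sub y hy (pt x₁ u) (pt z v)
    rw [htP u hu, htP v hv] at h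
    simp only [bform_add_left hl, bform_add_right hl, bform_pt_pt hl hr, hr.alternating, hte u hu,
      hr.skew e (t v), hte v hv, hform] at h
    have e1 : f₁ x₁ z * (μ * f₂ (t u) (t v) - f₂ u v) = 0 := by linear_combination h
    rw [eq_inv_mul_iff_mul_eq₀ hμ0]
    exact sub_eq_zero.mp ((mul_eq_zero.mp e1).resolve_left hz)
  -- the factor B
  obtain ⟨Bu, hBu⟩ : ∃ Bu : (Fin b → F) →ₗ[F] (Fin b → F), ∀ u, Bu u = t u + f₂ (t u) e' • e :=
    ⟨{ toFun := fun u => t u + f₂ (t u) e' • e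
       map_add' := fun p q => by rw [map_add, hr.bilinear.add_left, add_smul]; abel
       map_smul' := fun c p => by rw [map_smul, hr.bilinear.smul_left, RingHom.id_apply, smul_add, smul_smul] },
      fun u => rfl⟩
  have hperp : ∀ u, f₂ u e = 0 → f₂ u e' = 0 → f₂ (Bu u) e = 0 ∧ f₂ (Bu u) e' = 0 := fun u hu _ => by
    rw [hBu]
    simp only [hr.bilinear.add_left, hr.bilinear.smul_left, hr.alternating, hte u hu, hee']
    constructor <;> ring
  have hBform : ∀ u v, f₂ u e = 0 → f₂ u e' = 0 → f₂ v e = 0 → f₂ v e' = 0 → f₂ (Bu u) (Bu v) = μ⁻¹ * f₂ u v :=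
    fun u v hu _ hv _ => by
    rw [hBu, hBu]
    simp only [hr.bilinear.add_left, hr.bilinear.add_right, hr.bilinear.smul_left, hr.bilinear.smul_right,
      hr.alternating, hte u hu, hr.skew e (t v), hte v hv, htform u v hu hv]
    ring
  have hαβ : μ⁻¹ * 1 = μ⁻¹ := mul_one _
  have hinj := hypLin_injective hr he' (inv_ne_zero hμ0) hαβ hperp hBform
  obtain ⟨h, hhdef⟩ : ∃ h, h = kr Ag (glOfLin _ hinj) := ⟨_, rfl⟩
  have hhM : h ∈ M := hhdef ▸ kr_mem C (m := μ) (n := μ⁻¹) (fun x x' => by rw [hAg]; exact hform x x')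
    (fun u v => by rw [glOfLin_mulVec, glOfLin_mulVec, hypLin_form hr he' hαβ hperp hBform]) (mul_inv_cancel₀ hμ0)
  have hact : ∀ x u, h.val *ᵥ pt x u = pt (A *ᵥ x) (hypLin hr e e' μ⁻¹ 1 Bu u) := fun x u => by
    rw [hhdef, kr_apply, hAg, glOfLin_mulVec]
  have hhe : ∀ x, h.val *ᵥ pt x e = pt (A *ᵥ x) e := fun x => by rw [hact, hypLin_e hr he', one_smul]
  have hte1 : t e = e := by
    rw [ht, hA, slA_pt, hψ, one_smul]
  obtain ⟨g, hgdef⟩ : ∃ g, g = h⁻¹ * y := ⟨_, rfl⟩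
  have hkg : IsKron g := by
    refine (kron_of_shear C (g := g) (hgdef ▸ mul_mem (inv_mem hhM) hy) he (fun x => ?_) fun u hu x => ?_).1
    · rw [hgdef, Units.val_mul, ← mulVec_mulVec, hA, ← hhe, Transvec.inv_mulVec_cancel]
    · have hdiff : hypLin hr e e' μ⁻¹ 1 Bu u =
          t u + (f₂ (t (u - f₂ u e • e' + f₂ u e' • e)) e') • e := by
        simp only [hypLin, LinearMap.coe_mk, AddHom.coe_mk, hu, mul_zero, zero_smul, zero_sub, one_mul, sub_zero,
          hBu, map_add, map_smul, hte1]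
        abel
      obtain ⟨z, hz⟩ : ∃ z, y.val *ᵥ pt x u = h.val *ᵥ pt x u + pt z e := by
        refine ⟨sl φ₀ (y.val *ᵥ pt x u - pt (A *ᵥ x) (t u)) -
          (f₂ (t (u - f₂ u e • e' + f₂ u e' • e)) e') • (A *ᵥ x), ?_⟩
        rw [hact, hdiff, pt_add_right, pt_smul_right, ← ptL_apply (u := e) (x := _ - _), map_sub, map_smul, ptL_apply,
          ptL_apply]
        conv_lhs => rw [htP u hu]
        abel
      refine ⟨Ag⁻¹.val *ᵥ z, ?_⟩
      rw [hgdef, Units.val_mul, ← mulVec_mulVec, hz, mulVec_add, Transvec.inv_mulVec_cancel]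
      congr 1
      conv_lhs => rw [show z = A *ᵥ (Ag⁻¹.val *ᵥ z) by
        rw [mulVec_mulVec, ← hAg, ← Units.val_mul, mul_inv_cancel, Units.val_one, one_mulVec], ← hhe,
        Transvec.inv_mulVec_cancel]
  rw [show y = h * g by rw [hgdef, mul_inv_cancel_left]]
  exact isKron_mul (hhdef ▸ isKron_kr _ _) hkg

end CfsgLib.Classical22.TensorMax.SpO
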