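/-
A group generated by two opposite shears over a commutative algebra contains a central involution.
-/
import Cfsg.Agent.Lib.Classical.Dickson.PGLClassify
import Mathlib.LinearAlgebra.Eigenspace.Minpoly

set_option autoImplicit false
set_option maxHeartbeats 800000

namespace CfsgLib.Classical22.TensorMax.SpO

open Matrix Polynomial
open scoped MatrixGroups

variable {F : Type*} [Field F] {U : Type*} [AddCommGroup U] [Module F U]

/-- Evaluation of a 2×2 polynomial matrix at an endomorphism. -/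
noncomputable def evalPair (T : Module.End F U) : SL(2, F[X]) →* Module.End F (U × U) where
  toFun M := ((aeval T (M.1 0 0)).comp (LinearMap.fst F U U) + (aeval T (M.1 0 1)).comp (LinearMap.snd F U U)).prod
    ((aeval T (M.1 1 0)).comp (LinearMap.fst F U U) + (aeval T (M.1 1 1)).comp (LinearMap.snd F U U))
  map_one' := LinearMap.ext fun v => by simp
  map_mul' M N := LinearMap.ext fun v => by
    simp [Matrix.mul_apply, Fin.sum_univ_two, add_add_add_comm]

lemma evalPair_apply (T : Module.End F U) (M : SL(2, F[X])) (p q : U) :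
    evalPair T M (p, q) = (aeval T (M.1 0 0) p + aeval T (M.1 0 1) q, aeval T (M.1 1 0) p + aeval T (M.1 1 1) q) := rfl

/-- The group generated by the two shears contains an element acting as a non-trivial scalar involution. -/
theorem exists_scalar_involution [Fintype F] [FiniteDimensional F U] [Nontrivial U] (h2 : (2 : F) ≠ 0)
    (T : Module.End F U) (hT : Function.Injective T) {Rep : Module.End F (U × U) → Prop} (hone : Rep 1)
    (hmul : ∀ m m', Rep m → Rep m' → Rep (m * m'))
    (hinv : ∀ m m', m * m' = 1 → m' * m = 1 → Rep m → Rep m')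
    (hX : ∀ X : Module.End F (U × U), (∀ p q, X (p, q) = (p + q, q)) → Rep X)
    (hY : ∀ Y : Module.End F (U × U), (∀ p q, Y (p, q) = (p, q + T p)) → Rep Y) :
    ∃ a : Module.End F U, a * a = 1 ∧ a ≠ 1 ∧ ∃ m, Rep m ∧ ∀ p q, m (p, q) = (a p, a q) := by
  classical
  -- an eigenvalue
  obtain ⟨p, hp⟩ := CharP.exists F
  haveI : Fact p.Prime := ⟨CharP.char_is_prime F p⟩
  have hp2 : p ≠ 2 := by
    rintro rfl
    exact h2 (by simpa using CharP.cast_eq_zero F 2)
  obtain ⟨K, hKdef⟩ : ∃ K, K = AlgebraicClosure F := ⟨_, rfl⟩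
  haveI : CharP (AlgebraicClosure F) p := charP_of_injective_algebraMap (algebraMap F _).injective p
  obtain ⟨l, hl⟩ : ∃ l : AlgebraicClosure F, aeval l (minpoly F T) = 0 :=
    IsAlgClosed.exists_aeval_eq_zero _ _ (minpoly.degree_pos (Algebra.IsIntegral.isIntegral T)).ne'
  have hl0 : l ≠ 0 := by
    rintro rfl
    have h0 : (minpoly F T).IsRoot 0 := by
      rw [IsRoot, ← coeff_zero_eq_eval_zero]
      rw [aeval_def, eval₂_at_zero] at hl
      exact (map_eq_zero _).mp hl
    rw [← Module.End.hasEigenvalue_iff_isRoot] at h0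
    obtain ⟨v, hv⟩ := h0.exists_hasEigenvector
    exact hv.2 (hT (by rw [hv.apply_eq_smul, zero_smul, map_zero]))
  have hkill : ∀ P : F[X], aeval T P = 0 → aeval l P = 0 := fun P hP => by
    obtain ⟨R, rfl⟩ := minpoly.dvd F T hP
    rw [map_mul, hl, zero_mul]
  obtain ⟨x₀, hx₀⟩ : ∃ x : SL(2, F[X]), x.1 = !![1, 1; 0, 1] := ⟨⟨!![1, 1; 0, 1], by simp [Matrix.det_fin_two]⟩, rfl⟩
  obtain ⟨y₀, hy₀⟩ : ∃ y : SL(2, F[X]), y.1 = !![1, 0; X, 1] := ⟨⟨!![1, 0; X, 1], by simp [Matrix.det_fin_two]⟩, rfl⟩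
  obtain ⟨Γ, hΓ⟩ : ∃ Γ, Γ = Subgroup.closure ({x₀, y₀} : Set (SL(2, F[X]))) := ⟨_, rfl⟩
  have hrep : ∀ γ ∈ Γ, Rep (evalPair T γ) := by
    rw [hΓ]
    intro γ hγ
    induction hγ using Subgroup.closure_induction with
    | mem x hx =>
      rcases hx with rfl | rfl
      · exact hX _ fun p q => by simp [evalPair_apply, hx₀]
      · exact hY _ fun p q => by simp [evalPair_apply, hy₀, add_comm]
    | one => rw [map_one]; exact hone
    | mul x y _ _ h h' => rw [map_mul]; exact hmul _ _ h h'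
    | inv x _ h => exact hinv _ _ (by rw [← map_mul, mul_inv_cancel, map_one]) (by rw [← map_mul, inv_mul_cancel, map_one]) h
  -- the two images
  obtain ⟨φ, hφ⟩ : ∃ φ : Γ →* (Module.End F (U × U))ˣ, ∀ γ, (φ γ).1 = evalPair T γ.1 :=
    ⟨((evalPair T).toHomUnits).comp Γ.subtype, fun γ => rfl⟩
  obtain ⟨ψ, hψ⟩ : ∃ ψ : Γ →* Matrix.ProjGenLinGroup (Fin 2) (AlgebraicClosure F),
      ∀ γ, ψ γ = Matrix.ProjGenLinGroup.mk (Matrix.SpecialLinearGroup.toGL
        (Matrix.SpecialLinearGroup.map (aeval l).toRingHom γ.1)) :=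
    ⟨(Matrix.ProjGenLinGroup.mk).comp ((Matrix.SpecialLinearGroup.toGL).comp
      ((Matrix.SpecialLinearGroup.map (aeval l).toRingHom).comp Γ.subtype)), fun γ => rfl⟩
  have hker : φ.ker ≤ ψ.ker := fun γ hγ => by
    rw [MonoidHom.mem_ker] at hγ ⊢
    have h1 : evalPair T γ.1 = 1 := by rw [← hφ, hγ]; rfl
    have hp' : ∀ p q, evalPair T γ.1 (p, q) = (p, q) := fun p q => by rw [h1]; rfl
    have e00 : aeval T (γ.1.1 0 0 - 1) = 0 := LinearMap.ext fun p => by
      have := congrArg Prod.fst (hp' p 0)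
      simpa [evalPair_apply, sub_eq_zero] using this
    have e10 : aeval T (γ.1.1 1 0) = 0 := LinearMap.ext fun p => by
      have := congrArg Prod.snd (hp' p 0)
      simpa [evalPair_apply] using this
    have e01 : aeval T (γ.1.1 0 1) = 0 := LinearMap.ext fun q => by
      have := congrArg Prod.fst (hp' 0 q)
      simpa [evalPair_apply] using this
    have e11 : aeval T (γ.1.1 1 1 - 1) = 0 := LinearMap.ext fun q => by
      have := congrArg Prod.snd (hp' 0 q)
      simpa [evalPair_apply, sub_eq_zero] using this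
    rw [hψ, show Matrix.SpecialLinearGroup.map (aeval l).toRingHom γ.1 = 1 from ?_, map_one, map_one]
    ext i j
    have f00 := hkill _ e00
    have f10 := hkill _ e10
    have f01 := hkill _ e01
    have f11 := hkill _ e11
    rw [map_sub, map_one, sub_eq_zero] at f00 f11
    fin_cases i <;> fin_cases j <;> simp [f00, f10, f01, f11]
  haveI : Finite U := Module.finite_of_finite F
  haveI : Finite (Module.End F (U × U)) := Finite.of_injective (fun L : Module.End F (U × U) => (L : U × U → U × U))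
    DFunLike.coe_injective
  have hdvd : Nat.card ψ.range ∣ Nat.card φ.range := by
    rw [← Nat.card_congr (QuotientGroup.quotientKerEquivRange φ).toEquiv,
      ← Nat.card_congr (QuotientGroup.quotientKerEquivRange ψ).toEquiv]
    exact Subgroup.index_dvd_of_le hker
  haveI : Finite ψ.range := Nat.finite_of_card_ne_zero fun h => by
    rw [h, zero_dvd_iff] at hdvd
    exact Nat.card_pos.ne' hdvd
  -- the projective image has even order
  have hxm : x₀ ∈ Γ := hΓ ▸ Subgroup.subset_closure (by simp)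
  have hym : y₀ ∈ Γ := hΓ ▸ Subgroup.subset_closure (by simp)
  obtain ⟨xb, hxb⟩ : ∃ xb : ψ.range, xb.1 = CfsgLib.Classical.Dickson.aff 1 1 := by
    refine ⟨⟨ψ ⟨x₀, hxm⟩, ⟨_, rfl⟩⟩, ?_⟩
    refine (hψ _).trans ?_
    rw [CfsgLib.Classical.Dickson.aff]
    congr 1
    refine Units.ext ?_
    ext i j
    fin_cases i <;> fin_cases j <;> simp [hx₀, Matrix.GeneralLinearGroup.mkOfDetNeZero]
  have hord : p ∣ Nat.card ψ.range := by
    have : orderOf xb = p := by
      refine orderOf_eq_prime (Subtype.ext ?_) fun h => ?_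
      · rw [SubmonoidClass.coe_pow, hxb, CfsgLib.Classical.Dickson.aff_one_pow, CharP.cast_eq_zero, zero_mul,
          CfsgLib.Classical.Dickson.aff_one]
        rfl
      · rw [h] at hxb
        exact one_ne_zero (CfsgLib.Classical.Dickson.aff_eq_one.mp hxb.symm).2
    exact this ▸ orderOf_dvd_natCard xb
  have heven : 2 ∣ Nat.card ψ.range := by
    have hnc : ¬ (Nat.card ψ.range).Coprime p := fun h =>
      (Fact.out : p.Prime).coprime_iff_not_dvd.mp (Nat.coprime_comm.mp h) hord
    rcases CfsgLib.Classical.Dickson.classify p ψ.range with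
      ⟨-, h⟩ | ⟨n, -, hn, ⟨e⟩⟩ | ⟨z, hz, -⟩ | ⟨⟨e⟩⟩ | ⟨⟨e⟩⟩ | ⟨⟨e⟩⟩ | ⟨Q, k, -, -, -, hc, -⟩
    · exact absurd h hnc
    · rw [Nat.card_congr e.toEquiv, DihedralGroup.nat_card]; exact dvd_mul_right 2 n
    · exfalso
      have hzx := hz xb
      change xb.1 • z = z at hzx
      rw [hxb] at hzx
      have hzi : z ∈ ({Transfer.lineInf} : Set _) := CfsgLib.Classical.Dickson.fixSet_aff_one
        (K := AlgebraicClosure F) one_ne_zero ▸ hzx
      rw [Set.mem_singleton_iff] at hzi
      subst hzi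
      have hzy := hz ⟨ψ ⟨y₀, hym⟩, ⟨_, rfl⟩⟩
      replace hzy : ψ ⟨y₀, hym⟩ • (Transfer.lineInf : Projectivization (AlgebraicClosure F) (Fin 2 → AlgebraicClosure F)) = Transfer.lineInf := hzy
      obtain ⟨c, d, he⟩ := CfsgLib.Classical.Dickson.exists_aff_of_fix_inf hzy
      rw [hψ, CfsgLib.Classical.Dickson.aff] at he
      obtain ⟨u, hu⟩ := Matrix.ProjGenLinGroup.mk_eq_mk_iff.1 he
      have h10 := congrArg (fun M : GL (Fin 2) (AlgebraicClosure F) => M.val 1 0) hu
      simp [hy₀, Matrix.GeneralLinearGroup.mkOfDetNeZero, Matrix.mul_apply, Fin.sum_univ_two,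
        Matrix.scalar_apply, hl0] at h10
    · rw [Nat.card_congr e.toEquiv, nat_card_alternatingGroup, Nat.card_fin]; decide
    · rw [Nat.card_congr e.toEquiv, Nat.card_perm, Nat.card_fin]; decide
    · rw [Nat.card_congr e.toEquiv, nat_card_alternatingGroup, Nat.card_fin]; decide
    · rw [hc]; exact (Nat.even_mul_succ_self Q).two_dvd.mul_right k
  -- an involution
  obtain ⟨g, hg⟩ := exists_prime_orderOf_dvd_card' 2 (heven.trans hdvd)
  obtain ⟨γ, hγ⟩ := g.2
  have hsq : φ γ * φ γ = 1 := by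
    have := congrArg Subtype.val (pow_orderOf_eq_one g)
    rw [hg, SubmonoidClass.coe_pow, ← hγ, pow_two] at this
    exact this
  have hne : φ γ ≠ 1 := fun h => by
    have : g = 1 := Subtype.ext (hγ.symm.trans h)
    rw [this, orderOf_one] at hg
    exact absurd hg (by norm_num)
  have hinveq : evalPair T γ.1⁻¹ = evalPair T γ.1 := by
    rw [← hφ γ, show evalPair T γ.1⁻¹ = (φ γ⁻¹).1 from (hφ γ⁻¹).symm, map_inv, inv_eq_of_mul_eq_one_right hsq]
  have hcoe : (γ.1⁻¹).1 = !![γ.1.1 1 1, -γ.1.1 0 1; -γ.1.1 1 0, γ.1.1 0 0] := by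
    rw [Matrix.SpecialLinearGroup.coe_inv, Matrix.adjugate_fin_two]
  have h2' : ∀ v : U, v + v = 0 → v = 0 := fun v hv => by
    have : (2 : F) • v = 0 := by rw [two_smul, hv]
    exact (smul_eq_zero.mp this).resolve_left h2
  have hpq : ∀ p q, evalPair T γ.1⁻¹ (p, q) = evalPair T γ.1 (p, q) := fun p q => by rw [hinveq]
  have h00 : aeval T (γ.1.1 1 1) = aeval T (γ.1.1 0 0) := LinearMap.ext fun v => by
    have := congrArg Prod.fst (hpq v 0)
    simpa [evalPair_apply, hcoe] using this
  have h10 : aeval T (γ.1.1 1 0) = 0 := LinearMap.ext fun v => h2' _ (by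
    have := congrArg Prod.snd (hpq v 0)
    simp [evalPair_apply, hcoe] at this
    conv_lhs => arg 1; rw [← this]
    simp)
  have h01 : aeval T (γ.1.1 0 1) = 0 := LinearMap.ext fun v => h2' _ (by
    have := congrArg Prod.fst (hpq 0 v)
    simp [evalPair_apply, hcoe] at this
    conv_lhs => arg 1; rw [← this]
    simp)
  have hact : ∀ p q, evalPair T γ.1 (p, q) = (aeval T (γ.1.1 0 0) p, aeval T (γ.1.1 0 0) q) := fun p q => by
    rw [evalPair_apply, h10, h01, h00]; simp
  refine ⟨aeval T (γ.1.1 0 0), LinearMap.ext fun v => ?_, fun h => hne (Units.ext (LinearMap.ext fun v => ?_)),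
    _, hrep _ γ.2, hact⟩
  · have h := congrArg Units.val hsq
    rw [Units.val_mul, hφ, Units.val_one] at h
    have h' := congrArg Prod.fst (LinearMap.congr_fun h (v, 0))
    rw [Module.End.mul_apply, hact, hact] at h'
    simpa using h'
  · obtain ⟨p, q⟩ := v
    rw [hφ, hact, h]
    rfl

end CfsgLib.Classical22.TensorMax.SpO
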