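/-
With an alternating factor of dimension at least four the group maps every pure subspace to a pure subspace.
-/
import Cfsg.Agent.Lib.Classical22.SpOrthTensor.Flag
import Cfsg.Agent.Lib.Classical22.SpOrthTensor.Inv

set_option autoImplicit false
set_option maxHeartbeats 800000

namespace CfsgLib.Classical22.TensorMax.SpO

open Matrix Kronecker CfsgLib.Transvec CfsgLib.Classical22.TensorMax.SympO
open scoped MatrixGroups

variable {F : Type*} [Field F] {a b : ℕ} {f₁ : (Fin a → F) → (Fin a → F) → F}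
  {f₂ : (Fin b → F) → (Fin b → F) → F}

/-- Proportionality from equality of pure vectors. -/
lemma pt_prop {x y : Fin a → F} {u c : Fin b → F} (h : pt x u = pt y c) (hx : x ≠ 0) :
    u ∈ Submodule.span F {c} := by
  obtain ⟨i, hi⟩ := Function.ne_iff.mp hx
  refine Submodule.mem_span_singleton.mpr ⟨y i / x i, funext fun j => ?_⟩
  have := congrFun h (i, j)
  simp only [pt] at this
  rw [Pi.smul_apply, smul_eq_mul, div_mul_eq_mul_div, ← this, mul_div_cancel_left₀ _ hi]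

/-- A tensor product fixing a pure subspace, normalised there. -/
lemma kron_normal {g : GL (Fin a × Fin b) F} (hg : IsKron g) {c : Fin b → F} (ha : 0 < a)
    (hfix : ∀ x, ∃ z, g.val *ᵥ pt x c = pt z c) (hc : c ≠ 0) :
    ∃ (A : Matrix (Fin a) (Fin a) F) (B : Matrix (Fin b) (Fin b) F),
      (∀ x u, g.val *ᵥ pt x u = pt (A *ᵥ x) (B *ᵥ u)) ∧ B *ᵥ c = c := by
  obtain ⟨A, B, hAB⟩ := isKron_apply hg
  obtain ⟨x, hx⟩ : ∃ x : Fin a → F, x ≠ 0 := ⟨Pi.single ⟨0, ha⟩ 1, by simp⟩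
  obtain ⟨z, hz⟩ := hfix x
  rw [hAB] at hz
  obtain ⟨β, hβ⟩ := Submodule.mem_span_singleton.mp (pt_prop hz (mulVec_ne_zero A hx))
  have hβ0 : β ≠ 0 := fun h => mulVec_ne_zero B hc (by rw [← hβ, h, zero_smul])
  refine ⟨β • A.val, β⁻¹ • B.val, fun y u => ?_, ?_⟩
  · rw [hAB, smul_mulVec, smul_mulVec, pt_smul_left, pt_smul_right, smul_smul, mul_inv_cancel₀ hβ0, one_smul]
  · rw [smul_mulVec, ← hβ, smul_smul, inv_mul_cancel₀ hβ0, one_smul]

/-- Contractions commute with a factor acting on the second space. -/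
lemma slA_one_act {g : GL (Fin a × Fin b) F} {B : Matrix (Fin b) (Fin b) F}
    (h : ∀ x u, g.val *ᵥ pt x u = pt x (B *ᵥ u)) (ψ : Fin a → F) (v : Fin a × Fin b → F) :
    slA ψ (g.val *ᵥ v) = B *ᵥ slA ψ v := by
  rw [eq_sum_pt v, Matrix.mulVec_sum, map_sum, map_sum, Matrix.mulVec_sum]
  exact Finset.sum_congr rfl fun j _ => by rw [h, slA_pt, slA_pt, mulVec_smul]

/-- A family of pure vectors with independent second components. -/
lemma card_mul_finrank_le {D : Submodule F (Fin a → F)} {W : Submodule F (Fin a × Fin b → F)}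
    (h : ∀ d ∈ D, ∀ j : Fin b, pt d (Pi.single j 1) ∈ W) : b * Module.finrank F D ≤ Module.finrank F W := by
  obtain ⟨L, hL⟩ : ∃ L : (Fin b → D) →ₗ[F] W, ∀ d p, (L d).1 p = (d p.2).1 p.1 := by
    refine ⟨{ toFun := fun d => ⟨fun p => (d p.2).1 p.1, ?_⟩
              map_add' := fun d d' => rfl
              map_smul' := fun c d => rfl }, fun d p => rfl⟩
    rw [eq_sum_pt (fun p : Fin a × Fin b => (d p.2).1 p.1)]
    exact sum_mem fun j _ => h _ (d j).2 j
  have hinj : Function.Injective L := fun d d' he => funext fun j => Subtype.ext (funext fun i => by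
    rw [← hL d (i, j), he, hL])
  have := LinearMap.finrank_le_finrank_of_injective hinj
  rwa [Module.finrank_pi_fintype, Finset.sum_const, Finset.card_univ, Fintype.card_fin, smul_eq_mul] at this

/-- The same with independent first components. -/
lemma card_mul_finrank_le' {L : Submodule F (Fin b → F)} {W : Submodule F (Fin a × Fin b → F)}
    (h : ∀ l ∈ L, ∀ i : Fin a, pt (Pi.single i 1) l ∈ W) : a * Module.finrank F L ≤ Module.finrank F W := by
  obtain ⟨Φ, hΦ⟩ : ∃ Φ : (Fin a → L) →ₗ[F] W, ∀ d p, (Φ d).1 p = (d p.1).1 p.2 := by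
    refine ⟨{ toFun := fun d => ⟨fun p => (d p.1).1 p.2, ?_⟩
              map_add' := fun d d' => rfl
              map_smul' := fun c d => rfl }, fun d p => rfl⟩
    rw [show (fun p : Fin a × Fin b => (d p.1).1 p.2) = ∑ i, pt (Pi.single i 1) (d i).1 from funext fun p => by
      simp [pt, Finset.sum_apply, Pi.single_apply]]
    exact sum_mem fun i _ => h _ (d i).2 i
  have hinj : Function.Injective Φ := fun d d' he => funext fun i => Subtype.ext (funext fun j => by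
    rw [← hΦ d (i, j), he, hΦ])
  have := LinearMap.finrank_le_finrank_of_injective hinj
  rwa [Module.finrank_pi_fintype, Finset.sum_const, Finset.card_univ, Fintype.card_fin, smul_eq_mul] at this

variable [Fintype F] {M : Subgroup (GL (Fin a × Fin b) F)} (C : Ctx f₁ f₂ M)
include C

lemma krRefl_vec {z : Fin a → F} (hz : f₁ z z ≠ 0) (v : Fin a × Fin b → F) :
    (krRefl C hz).val *ᵥ v = v - (2 / f₁ z z) • pt z (slA (gram f₁ *ᵥ z) v) := by
  conv_rhs => rw [eq_sum_pt v, map_sum, ← show ∀ w, ptR (b := b) z w = pt z w from fun w => rfl, map_sum,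
    Finset.smul_sum, ← Finset.sum_sub_distrib]
  conv_lhs => rw [eq_sum_pt v, Matrix.mulVec_sum]
  refine Finset.sum_congr rfl fun j _ => ?_
  rw [krRefl_apply, refl_mulVec C.left, slA_pt, ← sym_dot C.left, map_smul, smul_smul]
  rw [show ptR (b := b) z (Pi.single j 1) = pt z (Pi.single j 1) from rfl, ← pt_smul_left, ← ptL_apply, map_sub,
    ptL_apply, ptL_apply]

/-- If the conjugate of a root fixes a pure subspace then its centre is a pure subspace. -/
theorem pure_of_fix_pure (hb : 4 ≤ b) {g : GL (Fin a × Fin b) F} (hg : g ∈ M) {u c : Fin b → F} (hu : u ≠ 0)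
    (hc : c ≠ 0) (hfix : img (g * root a C.right u 1 * g⁻¹) (pureW a c) = pureW a c) :
    ∃ d, d ≠ 0 ∧ img g (pureW a u) = pureW a d := by
  classical
  have hl := C.left
  have hr := C.right
  have h2 := C.two
  have ha := C.dim
  obtain ⟨y, hy⟩ : ∃ y, y = g * root a hr u 1 * g⁻¹ := ⟨_, rfl⟩
  rw [← hy] at hfix
  have hyM : y ∈ M := hy ▸ mul_mem (mul_mem hg (root_mem C _ _)) (inv_mem hg)
  have hyv : ∀ v, y.val *ᵥ v - v = g.val *ᵥ pt (s2 f₂ u (g⁻¹.val *ᵥ v)) u := fun v => by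
    rw [hy, Units.val_mul, Units.val_mul, ← mulVec_mulVec, ← mulVec_mulVec, root_apply hr, one_smul, mulVec_add,
      Transvec.mulVec_inv_cancel, add_sub_cancel_left]
  have hysq : ∀ v, y.val *ᵥ (y.val *ᵥ v - v) = y.val *ᵥ v - v := fun v => by
    rw [← sub_eq_zero, hyv (v := v), hyv (v := g.val *ᵥ _), Transvec.inv_mulVec_cancel, s2p hr, hr.alternating,
      zero_smul, pt_zero_left, mulVec_zero]
  obtain ⟨u', hu'⟩ := exists_partner_alt hr hu
  obtain ⟨R, hR⟩ : ∃ R, R = img g (pureW a u) := ⟨_, rfl⟩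
  rw [← hR]
  have hRmem : ∀ w, w ∈ R ↔ ∃ v, y.val *ᵥ v - v = w := fun w => by
    rw [hR, mem_img]
    constructor
    · rintro ⟨_, ⟨x, rfl⟩, rfl⟩
      refine ⟨g.val *ᵥ pt x u', ?_⟩
      rw [hyv, Transvec.inv_mulVec_cancel, s2p hr, hu', one_smul, ptL_apply]
    · rintro ⟨v, rfl⟩
      exact ⟨_, pt_mem_pureW _ _, (hyv v).symm⟩
  have hRdim : Module.finrank F R = a := by rw [hR, finrank_img, finrank_pureW hu]
  have hPfix : ∀ x, ∃ z, y.val *ᵥ pt x c = pt z c := fun x => by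
    have : y.val *ᵥ pt x c ∈ pureW a c := hfix ▸ mem_img.mpr ⟨_, pt_mem_pureW x c, rfl⟩
    obtain ⟨z, hz⟩ := this
    exact ⟨z, hz.symm⟩
  obtain ⟨A, B, hAB, hBc⟩ := kron_normal (kron_of_fix C hyM hc hPfix) (by omega) hPfix hc
  -- quadratic relations
  have hA2 : ∀ x, A *ᵥ (A *ᵥ x - x) = A *ᵥ x - x := fun x => by
    have h := hysq (pt x c)
    rw [hAB, hBc, mulVec_sub, hAB, hBc, hAB, hBc] at h
    have h' : ptL c (A *ᵥ (A *ᵥ x) - A *ᵥ x) = ptL c (A *ᵥ x - x) := by simpa only [map_sub, ptL_apply] using h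
    rw [mulVec_sub]
    exact pt_injective hc h'
  obtain ⟨x₀, hx₀, hAx₀⟩ : ∃ x, x ≠ 0 ∧ A *ᵥ x = x := by
    by_cases h : ∀ x, A *ᵥ x = x
    · exact ⟨Pi.single ⟨0, by omega⟩ 1, by simp, h _⟩
    · push Not at h
      obtain ⟨x, hx⟩ := h
      exact ⟨_, sub_ne_zero.mpr hx, hA2 x⟩
  have hB2 : ∀ z, B *ᵥ (B *ᵥ z - z) = B *ᵥ z - z := fun z => by
    have h := hysq (pt x₀ z)
    rw [hAB, hAx₀, mulVec_sub, hAB, hAx₀, hAB, hAx₀, ← pt_sub_right, ← pt_sub_right] at h
    rw [mulVec_sub]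
    by_contra hne
    exact hx₀ (pt_eq_zero (sub_ne_zero.mpr hne) (by rw [pt_sub_right, h, sub_self]))
  have hcross : ∀ x z, A *ᵥ x = x ∨ B *ᵥ z = z := fun x z => by
    have h := hysq (pt x z)
    rw [hAB, mulVec_sub, hAB, hAB] at h
    have eA : A *ᵥ (A *ᵥ x) = (2 : F) • (A *ᵥ x) - x := by
      have := hA2 x
      rw [mulVec_sub, sub_eq_iff_eq_add] at this
      rw [this, two_smul]; abel
    have eB : B *ᵥ (B *ᵥ z) = (2 : F) • (B *ᵥ z) - z := by
      have := hB2 z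
      rw [mulVec_sub, sub_eq_iff_eq_add] at this
      rw [this, two_smul]; abel
    have e : (2 : F) • pt (A *ᵥ x - x) (B *ᵥ z - z) = 0 := by
      rw [← sub_eq_zero.mpr h, eA, eB]
      funext p
      simp only [pt, Pi.smul_apply, Pi.sub_apply, smul_eq_mul]
      ring
    by_contra hne
    push Not at hne
    exact sub_ne_zero.mpr hne.1 (pt_eq_zero (sub_ne_zero.mpr hne.2) ((smul_eq_zero.mp e).resolve_left h2))
  by_cases hA1 : ∀ x, A *ᵥ x = x
  · -- the centre is pure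
    obtain ⟨z, hz⟩ : ∃ z, B *ᵥ z ≠ z := by
      by_contra hall
      push Not at hall
      have : R = ⊥ := (Submodule.eq_bot_iff _).mpr fun w hw => by
        obtain ⟨v, rfl⟩ := (hRmem w).mp hw
        rw [eq_sum_pt v, Matrix.mulVec_sum, ← Finset.sum_sub_distrib]
        exact Finset.sum_eq_zero fun j _ => by rw [hAB, hA1, hall, sub_self]
      rw [this, finrank_bot] at hRdim
      omega
    refine ⟨B *ᵥ z - z, sub_ne_zero.mpr hz, (Submodule.eq_of_le_of_finrank_eq ?_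
      (by rw [hRdim, finrank_pureW (sub_ne_zero.mpr hz)])).symm⟩
    rintro _ ⟨x, rfl⟩
    exact (hRmem _).mpr ⟨pt x z, by rw [hAB, hA1, ptL_apply, pt_sub_right]⟩
  -- the other type is impossible
  exfalso
  push Not at hA1
  obtain ⟨x₁, hx₁⟩ := hA1
  have hB1 : ∀ z, B *ᵥ z = z := fun z => (hcross x₁ z).resolve_left hx₁
  obtain ⟨L, hL⟩ : ∃ L : (Fin a → F) →ₗ[F] (Fin a → F), ∀ x, L x = A *ᵥ x - x :=
    ⟨Matrix.mulVecLin A - LinearMap.id, fun x => rfl⟩
  have hbρ : b * Module.finrank F (LinearMap.range L) ≤ a := by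
    refine (card_mul_finrank_le ?_).trans hRdim.le
    rintro _ ⟨x, rfl⟩ j
    exact (hRmem _).mpr ⟨pt x (Pi.single j 1), by rw [hAB, hB1, hL, ← ptL_apply, ← ptL_apply, ← map_sub, ptL_apply]⟩
  obtain ⟨c', hc'⟩ := exists_partner_alt hr hc
  have hAiso : ∀ x x', f₁ (A *ᵥ x) (A *ᵥ x') = f₁ x x' := fun x x' => by
    have h := C.sub y hyM (pt x c') (pt x' c)
    rw [hAB, hAB, hB1, hB1, bform_pt_pt hl hr, bform_pt_pt hl hr, hc', mul_one, mul_one] at h
    exact h
  have hρ2 : 2 ≤ Module.finrank F (LinearMap.range L) := by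
    by_contra hlt
    have hne : LinearMap.range L ≠ ⊥ := fun h => hx₁ (sub_eq_zero.mp (by
      rw [← hL]; exact (Submodule.eq_bot_iff _).mp h _ ⟨x₁, rfl⟩))
    have h1 : Module.finrank F (LinearMap.range L) = 1 := by
      have : Module.finrank F (LinearMap.range L) ≠ 0 := fun h => hne (Submodule.finrank_eq_zero.mp h)
      omega
    obtain ⟨d, hd, hd0⟩ := Submodule.exists_mem_ne_zero_of_ne_bot hne
    have hAd : A *ᵥ d = d := by
      obtain ⟨x, rfl⟩ := hd
      rw [hL, hA2]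
    have hspan : ∀ x, ∃ t : F, A *ᵥ x = x + t • d := fun x => by
      obtain ⟨t, ht⟩ := (finrank_eq_one_iff_of_nonzero' (⟨d, hd⟩ : LinearMap.range L) (by simpa using hd0)).mp h1
        ⟨L x, x, rfl⟩
      refine ⟨t, ?_⟩
      have := congrArg Subtype.val ht
      simp only [SetLike.val_smul] at this
      rw [this, hL, add_sub_cancel]
    choose φ hφ using hspan
    have hφadd : ∀ x x', φ (x + x') = φ x + φ x' := fun x x' => smul_left_injective F hd0 (by
      have := hφ (x + x')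
      rw [mulVec_add, hφ, hφ] at this
      simp only [add_smul]
      exact add_left_cancel (a := x + x') (by rw [← this]; abel))
    have hprod : ∀ x, φ x * f₁ x d = 0 := fun x => by
      have hxd := hAiso x d
      rw [hAd, hφ, hl.bilinear.add_left, hl.bilinear.smul_left, add_eq_left] at hxd
      have h := hAiso x x
      rw [hφ, sym_quad_add hl, sym_quad_smul hl, hl.bilinear.smul_right] at h
      exact (mul_eq_zero.mp (show 2 * (φ x * f₁ x d) = 0 by linear_combination h - φ x * hxd)).resolve_left h2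
    obtain ⟨w, hw⟩ := (hl.nondegenerate d hd0).1
    have hφw : φ w = 0 := (mul_eq_zero.mp (hprod w)).resolve_right hw
    have hφx : φ x₁ ≠ 0 := fun h => hx₁ (by rw [hφ, h, zero_smul, add_zero])
    have hx₁d : f₁ x₁ d = 0 := (mul_eq_zero.mp (hprod x₁)).resolve_left hφx
    have := hprod (x₁ + w)
    rw [hφadd, hφw, add_zero, hl.bilinear.add_left, hx₁d, zero_add] at this
    exact mul_ne_zero hφx hw this
  obtain ⟨z, hzA, hz⟩ : ∃ z, A *ᵥ z = z ∧ f₁ z z ≠ 0 := by
    by_contra hall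
    push Not at hall
    have h1 := two_mul_finrank_le hl (S := LinearMap.ker L) fun p hp r hr' => by
      rw [LinearMap.mem_ker, hL, sub_eq_zero] at hp hr'
      have h := hall (p + r) (by rw [mulVec_add, hp, hr'])
      rw [sym_quad_add hl, hall p hp, hall r hr', zero_add, add_zero] at h
      exact (mul_eq_zero.mp h).resolve_left h2
    have h2' := LinearMap.finrank_range_add_finrank_ker L
    rw [Module.finrank_fin_fun] at h2'
    nlinarith
  have hzd : ∀ x, f₁ (A *ᵥ x - x) z = 0 := fun x => by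
    rw [sym_sub_left hl]
    conv_lhs => arg 1; rw [← hzA, hAiso]
    exact sub_self _
  obtain ⟨j, hj⟩ : ∃ j, j = g⁻¹ * krRefl C hz * g := ⟨_, rfl⟩
  have hjM : j ∈ M := hj ▸ mul_mem (mul_mem (inv_mem hg) (krRefl_mem C hz)) hg
  have hjfix : ∀ x, j.val *ᵥ pt x u = pt x u := fun x => by
    obtain ⟨v, hv⟩ := (hRmem (g.val *ᵥ pt x u)).mp (hR ▸ mem_img.mpr ⟨_, pt_mem_pureW x u, rfl⟩)
    have hh : (krRefl C hz).val *ᵥ (g.val *ᵥ pt x u) = g.val *ᵥ pt x u := by
      rw [← hv, eq_sum_pt v, Matrix.mulVec_sum, ← Finset.sum_sub_distrib, Matrix.mulVec_sum]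
      refine Finset.sum_congr rfl fun k _ => ?_
      rw [hAB, hB1, ← ptL_apply, ← ptL_apply, ← map_sub, ptL_apply, krRefl_apply, refl_fix hl (hzd _)]
    rw [hj, Units.val_mul, Units.val_mul, ← mulVec_mulVec, ← mulVec_mulVec, hh, Transvec.inv_mulVec_cancel]
  obtain ⟨A', B', hAB', hBu⟩ := kron_normal (kron_of_fix C hjM hu fun x => ⟨x, hjfix x⟩) (by omega)
    (fun x => ⟨x, hjfix x⟩) hu
  have hA' : ∀ x, A' *ᵥ x = x := fun x => pt_injective hu (by
    have := hjfix x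
    rwa [hAB', hBu] at this)
  have hj2 : j * j = 1 := by
    rw [hj, show g⁻¹ * krRefl C hz * g * (g⁻¹ * krRefl C hz * g) = g⁻¹ * (krRefl C hz * krRefl C hz) * g by group,
      show krRefl C hz * krRefl C hz = 1 from ext_pt fun x k => by
        rw [Units.val_mul, ← mulVec_mulVec, krRefl_apply, krRefl_apply, Units.val_one, one_mulVec, mulVec_mulVec,
          refl_mul_self hl hz, one_mulVec], mul_one, inv_mul_cancel]
  obtain ⟨w₀, hw₀⟩ : ∃ w, B' *ᵥ w ≠ w := by
    by_contra hall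
    push Not at hall
    have hj1 : j = 1 := ext_pt fun x k => by rw [hAB', hA', hall, Units.val_one, one_mulVec]
    rw [hj, mul_eq_one_iff_eq_inv, mul_eq_left] at hj1
    have h := krRefl_apply C hz z c
    rw [hj1, Units.val_one, one_mulVec, refl_mulVec hl, div_mul_cancel₀ _ hz, two_smul] at h
    refine hz ?_
    have := pt_injective hc (h : ptL c z = ptL c _)
    rw [show z - (z + z) = -z by abel, eq_neg_iff_add_eq_zero, ← two_smul F, smul_eq_zero] at this
    rw [this.resolve_left h2, sym_zero_left hl]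
  have hw1 : ∀ x, j.val *ᵥ pt x (B' *ᵥ w₀ - w₀) = - pt x (B' *ᵥ w₀ - w₀) := fun x => by
    have e : j.val *ᵥ (j.val *ᵥ pt x w₀) = pt x w₀ := by
      rw [mulVec_mulVec, ← Units.val_mul, hj2, Units.val_one, one_mulVec]
    have e1 : j.val *ᵥ pt x w₀ = pt x (B' *ᵥ w₀) := by rw [hAB', hA']
    rw [pt_sub_right, mulVec_sub, e1, neg_sub, ← e1, e]
  -- its moved space is small
  obtain ⟨Ψ, hΨ⟩ : ∃ Ψ : (Fin a → F) →ₗ[F] (Fin b → F),
      ∀ x, Ψ x = slA (gram f₁ *ᵥ z) (g.val *ᵥ pt x (B' *ᵥ w₀ - w₀)) :=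
    ⟨(slA _).comp ((Matrix.mulVecLin g.val).comp (ptL _)), fun x => rfl⟩
  have hinj : Function.Injective Ψ := by
    rw [← LinearMap.ker_eq_bot, LinearMap.ker_eq_bot']
    intro x hx
    rw [hΨ] at hx
    have h1 := krRefl_vec C hz (g.val *ᵥ pt x (B' *ᵥ w₀ - w₀))
    rw [hx, pt_zero_right, smul_zero, sub_zero] at h1
    have h2' := hw1 x
    rw [hj, Units.val_mul, Units.val_mul, ← mulVec_mulVec, ← mulVec_mulVec, h1, Transvec.inv_mulVec_cancel,
      eq_neg_iff_add_eq_zero, ← two_smul F, smul_eq_zero] at h2'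
    exact pt_eq_zero (sub_ne_zero.mpr hw₀) (h2'.resolve_left h2)
  have := LinearMap.finrank_le_finrank_of_injective hinj
  rw [Module.finrank_fin_fun, Module.finrank_fin_fun] at this
  nlinarith

/-- A root fixing the image of a pure subspace forces it to be pure. -/
theorem pure_of_root_fix (hb : 4 ≤ b) {g : GL (Fin a × Fin b) F} (hg : g ∈ M) {u c : Fin b → F} (hu : u ≠ 0)
    (hc : c ≠ 0) (hfix : img (root a C.right c 1) (img g (pureW a u)) = img g (pureW a u)) :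
    ∃ d, d ≠ 0 ∧ img g (pureW a u) = pureW a d := by
  have hl := C.left
  have hr := C.right
  obtain ⟨u₂, hu₂, hW⟩ := pure_of_fix_pure C hb (inv_mem hg) hc hu
    (by rw [inv_inv, img_mul, img_mul, hfix, img_inv_img])
  have hgW : img g (pureW a u₂) = pureW a c := by rw [← hW, ← img_mul, mul_inv_cancel, img_one]
  by_cases hp : f₂ u₂ u = 0
  · refine pure_of_fix_pure C hb hg hu hc ?_
    have hcW : img g⁻¹ (pureW a c) = pureW a u₂ := hW
    rw [img_mul, img_mul, hcW, show img (root a hr u 1) (pureW a u₂) = pureW a u₂ from ?_, hgW]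
    refine Submodule.eq_of_le_of_finrank_eq (fun v hv => ?_) (finrank_img _ _)
    obtain ⟨_, ⟨x, rfl⟩, rfl⟩ := mem_img.mp hv
    rw [ptL_apply, root_apply hr, s2p hr, hp, zero_smul, pt_zero_left, smul_zero, add_zero]
    exact pt_mem_pureW _ _
  exfalso
  have hs : ∀ x, s2 f₂ c (g.val *ᵥ pt x u) = 0 := fun x => by
    have hmem : g.val *ᵥ pt x u ∈ img g (pureW a u) := mem_img.mpr ⟨_, pt_mem_pureW x u, rfl⟩
    have h1 : (root a hr c 1).val *ᵥ (g.val *ᵥ pt x u) ∈ img g (pureW a u) := hfix ▸ mem_img.mpr ⟨_, hmem, rfl⟩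
    rw [root_apply hr, one_smul] at h1
    have h2 := Submodule.sub_mem _ h1 hmem
    rw [add_sub_cancel_left] at h2
    obtain ⟨_, ⟨y, rfl⟩, hy⟩ := mem_img.mp h2
    obtain ⟨_, ⟨y', rfl⟩, hy'⟩ := mem_img.mp
      (show pt (s2 f₂ c (g.val *ᵥ pt x u)) c ∈ img g (pureW a u₂) by rw [hgW]; exact pt_mem_pureW _ _)
    have he : pt y u = pt y' u₂ := mulVec_injective g (hy.trans hy'.symm)
    by_cases hy0 : y = 0
    · rw [ptL_apply, hy0, pt_zero_left, mulVec_zero] at hy
      exact pt_eq_zero hc hy.symm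
    · obtain ⟨t, ht⟩ := Submodule.mem_span_singleton.mp (pt_prop he hy0)
      exact absurd (by rw [← ht, hr.bilinear.smul_right, hr.alternating, mul_zero]) hp
  obtain ⟨x, hx⟩ : ∃ x : Fin a → F, x ≠ 0 := ⟨Pi.single ⟨0, by have := C.dim; omega⟩ 1, by simp⟩
  obtain ⟨y, hy⟩ := (hl.nondegenerate x hx).2
  obtain ⟨y', hy'⟩ : g.val *ᵥ pt y u₂ ∈ pureW a c := hgW ▸ mem_img.mpr ⟨_, pt_mem_pureW y u₂, rfl⟩
  have h := C.sub g hg (pt x u) (pt y u₂)
  rw [← hy', ptL_apply, bform_pt hl hr, hs, sym_zero_left hl, bform_pt_pt hl hr] at h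
  rcases mul_eq_zero.mp h.symm with h0 | h0
  · exact hy h0
  · exact hp (by rw [hr.skew, h0, neg_zero])

/-- All images of pure subspaces are pure. -/
theorem all_pure (hb : 4 ≤ b) {g : GL (Fin a × Fin b) F} (hg : g ∈ M) {u : Fin b → F} (hu : u ≠ 0) :
    ∃ d, d ≠ 0 ∧ img g (pureW a u) = pureW a d := by
  classical
  have hl := C.left
  have hr := C.right
  have h2 := C.two
  have ha := C.dim
  by_contra hnp
  obtain ⟨Pk, hPk⟩ : ∃ Pk : ℕ → Prop, ∀ k, Pk k ↔ ∃ g' ∈ M, ∃ u' c' : Fin b → F, u' ≠ 0 ∧ c' ≠ 0 ∧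
      (¬ ∃ d, d ≠ 0 ∧ img g' (pureW a u') = pureW a d) ∧
      Module.finrank F ↥(img g' (pureW a u') ⊓ pureW a c') = k := ⟨_, fun k => Iff.rfl⟩
  obtain ⟨K, hK⟩ : ∃ K, K = Nat.findGreatest Pk a := ⟨_, rfl⟩
  have hle : ∀ g' ∈ M, ∀ u' c' : Fin b → F, u' ≠ 0 → c' ≠ 0 → (¬ ∃ d, d ≠ 0 ∧ img g' (pureW a u') = pureW a d) →
      Module.finrank F ↥(img g' (pureW a u') ⊓ pureW a c') ≤ K := fun g' hg' u' c' hu' hc' hn => by
    rw [hK]
    exact Nat.le_findGreatest ((Submodule.finrank_mono inf_le_right).trans (finrank_pureW hc').le)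
      ((hPk _).mpr ⟨g', hg', u', c', hu', hc', hn, rfl⟩)
  have hKspec : Pk K := hK ▸ Nat.findGreatest_spec (P := Pk)
    ((Submodule.finrank_mono inf_le_right).trans (finrank_pureW hu).le)
    ((hPk _).mpr ⟨g, hg, u, u, hu, hu, hnp, rfl⟩)
  clear hnp hu hg u g
  obtain ⟨g, hg, u, c, hu, hc, hnp, hk⟩ := (hPk K).mp hKspec
  -- moving a member within the bound
  have htrans : ∀ h ∈ M, ∀ g' ∈ M, ∀ u' : Fin b → F, u' ≠ 0 → img h (img g' (pureW a u')) ≠ img g' (pureW a u') →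
      Module.finrank F ↥(img h (img g' (pureW a u')) ⊓ img g' (pureW a u')) ≤ K := by
    intro h hh g' hg' u' hu' hne
    have e1 : img g' (img (g'⁻¹ * h * g') (pureW a u')) = img h (img g' (pureW a u')) := by
      rw [← img_mul, ← img_mul, show g' * (g'⁻¹ * h * g') = h * g' by group]
    have e : Module.finrank F ↥(img h (img g' (pureW a u')) ⊓ img g' (pureW a u')) =
        Module.finrank F ↥(img (g'⁻¹ * h * g') (pureW a u') ⊓ pureW a u') := by
      rw [← e1]
      change Module.finrank F ↥(Submodule.map (Matrix.mulVecLin g'.val) (img (g'⁻¹ * h * g') (pureW a u')) ⊓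
        Submodule.map (Matrix.mulVecLin g'.val) (pureW a u')) = _
      rw [← Submodule.map_inf (Matrix.mulVecLin g'.val) (fun _ _ h => mulVec_injective g' h)]
      exact finrank_img g' _
    rw [e]
    by_cases hp : ∃ d, d ≠ 0 ∧ img (g'⁻¹ * h * g') (pureW a u') = pureW a d
    · obtain ⟨d, hd, he⟩ := hp
      rw [he]
      by_cases hz : pureW a d ⊓ pureW a u' = ⊥
      · rw [hz, finrank_bot]; exact Nat.zero_le K
      · exfalso
        obtain ⟨v, hv, hv0⟩ := Submodule.exists_mem_ne_zero_of_ne_bot hz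
        obtain ⟨⟨y', hy'⟩, ⟨y, hy⟩⟩ := Submodule.mem_inf.mp hv
        refine hne ?_
        rw [← e1, he, pureW_eq_of_common hy' hy hv0 hd hu']
    · exact hle _ (mul_mem (mul_mem (inv_mem hg') hh) hg') u' u' hu' hu' hp
  obtain ⟨R, hR⟩ : ∃ R, R = img g (pureW a u) := ⟨_, rfl⟩
  obtain ⟨E, hE⟩ : ∃ E, E = R ⊓ pureW a c := ⟨_, rfl⟩
  rw [← hR, ← hE] at hk
  rw [← hR] at hnp
  obtain ⟨X, hX⟩ : ∃ X, X = root a hr c 1 := ⟨_, rfl⟩
  obtain ⟨Y, hY⟩ : ∃ Y, Y = g * root a hr u 1 * g⁻¹ := ⟨_, rfl⟩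
  have hXM : X ∈ M := hX ▸ root_mem C c 1
  have hYM : Y ∈ M := hY ▸ mul_mem (mul_mem hg (root_mem C _ _)) (inv_mem hg)
  have hXv : ∀ v, X.val *ᵥ v - v = pt (s2 f₂ c v) c := fun v => by
    rw [hX, root_apply hr, one_smul, add_sub_cancel_left]
  have hYv : ∀ v, Y.val *ᵥ v - v = g.val *ᵥ pt (s2 f₂ u (g⁻¹.val *ᵥ v)) u := fun v => by
    rw [hY, Units.val_mul, Units.val_mul, ← mulVec_mulVec, ← mulVec_mulVec, root_apply hr, one_smul, mulVec_add,
      Transvec.mulVec_inv_cancel, add_sub_cancel_left]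
  have hXP : ∀ p ∈ pureW a c, X.val *ᵥ p = p := by
    rintro _ ⟨x, rfl⟩
    rw [← sub_eq_zero, hXv, ptL_apply, s2p hr, hr.alternating, zero_smul, pt_zero_left]
  have hYR : ∀ r ∈ R, Y.val *ᵥ r = r := by
    intro r hr'
    obtain ⟨_, ⟨x, rfl⟩, rfl⟩ := mem_img.mp (hR ▸ hr')
    rw [← sub_eq_zero, hYv, ptL_apply, Transvec.inv_mulVec_cancel, s2p hr, hr.alternating, zero_smul, pt_zero_left,
      mulVec_zero]
  have hYR' : ∀ v, Y.val *ᵥ v - v ∈ R := fun v => hR ▸ mem_img.mpr ⟨_, pt_mem_pureW _ _, (hYv v).symm⟩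
  have hE1 : E ≤ R := hE ▸ inf_le_left
  have hE2 : E ≤ pureW a c := hE ▸ inf_le_right
  have hXne : img X R ≠ R := fun h => hnp (by
    rw [hX, hR] at h
    rw [hR]
    exact pure_of_root_fix C hb hg hu hc h)
  have hYne : img Y (pureW a c) ≠ pureW a c := fun h => hnp (by
    rw [hY] at h
    rw [hR]
    exact pure_of_fix_pure C hb hg hu hc h)
  have hgrow : ∀ (Z : Submodule F (Fin a × Fin b → F)) z, E ≤ Z → z ∈ Z → Module.finrank F Z ≤ K → z ∈ E :=
    fun Z z hEZ hz hd => (Submodule.eq_of_le_of_finrank_le hEZ (hd.trans hk.ge)).symm ▸ hz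
  have hPE : ∀ p ∈ pureW a c, Y.val *ᵥ p ∈ pureW a c → p ∈ E := fun p hp hYp => by
    have hd := htrans Y hYM 1 (one_mem M) c hc (by rw [img_one]; exact hYne)
    rw [img_one] at hd
    have h1 := hgrow (img Y (pureW a c) ⊓ pureW a c) (Y.val *ᵥ p) (fun x hx => ⟨mem_img.mpr ⟨x, hE2 hx, hYR x (hE1 hx)⟩, hE2 hx⟩)
      ⟨mem_img.mpr ⟨p, hp, rfl⟩, hYp⟩ hd
    have h2 : Y.val *ᵥ (Y.val *ᵥ p) = Y.val *ᵥ p := hYR _ (hE1 h1)
    rwa [← mulVec_injective Y h2]
  have hRE : ∀ r ∈ R, X.val *ᵥ r ∈ R → r ∈ E := fun r hr' hXr => by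
    have hd := htrans X hXM g hg u hu (by rw [← hR]; exact hXne)
    rw [← hR] at hd
    have h1 := hgrow (img X R ⊓ R) (X.val *ᵥ r) (fun x hx => ⟨mem_img.mpr ⟨x, hE1 hx, hXP x (hE2 hx)⟩, hE1 hx⟩)
      ⟨mem_img.mpr ⟨r, hr', rfl⟩, hXr⟩ hd
    have h2 : X.val *ᵥ (X.val *ᵥ r) = X.val *ᵥ r := hXP _ (hE2 h1)
    rwa [← mulVec_injective X h2]
  -- complements
  obtain ⟨C', hC'⟩ := Submodule.exists_isCompl E
  obtain ⟨π, hπdef⟩ : ∃ π : (Fin a × Fin b → F) →ₗ[F] (Fin a × Fin b → F), π = Submodule.projection C' E hC'.symm := ⟨_, rfl⟩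
  have hπC : ∀ v, π v ∈ C' := fun v => hπdef ▸ Submodule.projection_apply_mem _ v
  have hπ0 : ∀ v ∈ E, π v = 0 := fun v hv => by rw [hπdef]; exact (Submodule.projection_apply_eq_zero_iff _).mpr hv
  have hπid : ∀ v ∈ C', π v = v := fun v hv => by rw [hπdef]; exact (Submodule.projection_eq_self_iff _ v).mpr hv
  have hπE : ∀ v, v - π v ∈ E := fun v => by
    rw [← Submodule.projection_apply_eq_zero_iff hC'.symm, ← hπdef, map_sub, hπid _ (hπC v), sub_self]
  have hπP : ∀ p ∈ pureW a c, π p ∈ pureW a c ⊓ C' := fun p hp =>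
    ⟨by simpa using sub_mem hp (hE2 (hπE p)), hπC p⟩
  have hπR : ∀ r ∈ R, π r ∈ R ⊓ C' := fun r hr' => ⟨by simpa using sub_mem hr' (hE1 (hπE r)), hπC r⟩
  obtain ⟨N, hN⟩ : ∃ N : ↥(R ⊓ C') →ₗ[F] ↥(pureW a c ⊓ C'), ∀ r, (N r).1 = π (X.val *ᵥ r.1 - r.1) :=
    ⟨LinearMap.codRestrict _ (π.comp ((Matrix.mulVecLin X.val - LinearMap.id).comp (R ⊓ C').subtype))
      (fun r => hπP _ (show X.val *ᵥ r.1 - r.1 ∈ pureW a c by rw [hXv]; exact pt_mem_pureW _ _)), fun r => rfl⟩
  obtain ⟨N', hN'⟩ : ∃ N' : ↥(pureW a c ⊓ C') →ₗ[F] ↥(R ⊓ C'), ∀ p, (N' p).1 = π (Y.val *ᵥ p.1 - p.1) :=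
    ⟨LinearMap.codRestrict _ (π.comp ((Matrix.mulVecLin Y.val - LinearMap.id).comp (pureW a c ⊓ C').subtype))
      (fun p => hπR _ (hYR' p.1)), fun p => rfl⟩
  have hNinj : Function.Injective N := by
    rw [← LinearMap.ker_eq_bot, LinearMap.ker_eq_bot']
    intro r h0
    have h1 : X.val *ᵥ r.1 - r.1 ∈ E := by
      have := hπE (X.val *ᵥ r.1 - r.1)
      rwa [← hN, h0, Submodule.coe_zero, sub_zero] at this
    have h2 : r.1 ∈ E := hRE _ r.2.1 (by simpa using R.add_mem (hE1 h1) r.2.1)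
    exact Subtype.ext ((hπid _ r.2.2).symm.trans (hπ0 _ h2))
  have hN'inj : Function.Injective N' := by
    rw [← LinearMap.ker_eq_bot, LinearMap.ker_eq_bot']
    intro p h0
    have h1 : Y.val *ᵥ p.1 - p.1 ∈ E := by
      have := hπE (Y.val *ᵥ p.1 - p.1)
      rwa [← hN', h0, Submodule.coe_zero, sub_zero] at this
    have h2 : p.1 ∈ E := hPE _ p.2.1 (by simpa using (pureW a c).add_mem (hE2 h1) p.2.1)
    exact Subtype.ext ((hπid _ p.2.2).symm.trans (hπ0 _ h2))
  have hdim := (LinearMap.finrank_le_finrank_of_injective hNinj).antisymm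
    (LinearMap.finrank_le_finrank_of_injective hN'inj)
  obtain ⟨Ne, hNe⟩ : ∃ Ne : ↥(R ⊓ C') ≃ₗ[F] ↥(pureW a c ⊓ C'), ∀ r, Ne r = N r :=
    ⟨LinearMap.linearEquivOfInjective N hNinj hdim, fun r => rfl⟩
  haveI : Nontrivial ↥(pureW a c ⊓ C') := by
    rw [Submodule.nontrivial_iff_ne_bot]
    intro hbot
    refine hnp ⟨c, hc, (Submodule.eq_of_le_of_finrank_eq (fun p hp => ?_)
      (by rw [finrank_pureW hc, hR, finrank_img, finrank_pureW hu])).symm⟩
    have := hπE p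
    rw [(Submodule.eq_bot_iff _).mp hbot _ (hπP p hp), sub_zero] at this
    exact hE1 this
  obtain ⟨T, hT⟩ : ∃ T : Module.End F ↥(pureW a c ⊓ C'), ∀ p, T p = Ne (N' p) :=
    ⟨Ne.toLinearMap.comp N', fun p => rfl⟩
  have hTinj : Function.Injective T := fun p q h => by rw [hT, hT] at h; exact hN'inj (Ne.injective h)
  obtain ⟨θ, hθ⟩ : ∃ θ : (↥(pureW a c ⊓ C') × ↥(pureW a c ⊓ C')) →ₗ[F] (Fin a × Fin b → F),
      ∀ p q, θ (p, q) = p.1 + (Ne.symm q).1 :=
    ⟨(pureW a c ⊓ C').subtype.comp (LinearMap.fst _ _ _) +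
      ((R ⊓ C').subtype.comp Ne.symm.toLinearMap).comp (LinearMap.snd _ _ _), fun p q => rfl⟩
  have hπθ : ∀ w, π (θ w) = θ w := fun w => hπid _ (by
    obtain ⟨p, q⟩ := w; rw [hθ]; exact add_mem p.2.2 (Ne.symm q).2.2)
  obtain ⟨W, hW⟩ : ∃ W, W = pureW a c ⊔ R := ⟨_, rfl⟩
  obtain ⟨Rep, hRep⟩ : ∃ Rep : Module.End F (↥(pureW a c ⊓ C') × ↥(pureW a c ⊓ C')) → Prop, ∀ m, Rep m ↔
      ∃ h ∈ M, (∀ w, π (h.val *ᵥ θ w) = θ (m w)) ∧ (∀ x ∈ E, h.val *ᵥ x = x) ∧ ∀ v, h.val *ᵥ v - v ∈ W :=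
    ⟨_, fun m => Iff.rfl⟩
  obtain ⟨α, hα2, hα1, m, hm, hmact⟩ := exists_scalar_involution h2 T hTinj (Rep := Rep)
    ((hRep 1).mpr ⟨1, one_mem M, fun w => by rw [Units.val_one, one_mulVec, hπθ]; rfl,
      fun x _ => by rw [Units.val_one, one_mulVec], fun v => by rw [Units.val_one, one_mulVec, sub_self]; exact zero_mem W⟩)
    (fun m m' h h' => by
      obtain ⟨g₁, hg₁, h1, h1E, h1W⟩ := (hRep m).mp h
      obtain ⟨g₂, hg₂, h2', h2E, h2W⟩ := (hRep m').mp h'
      refine (hRep _).mpr ⟨g₁ * g₂, mul_mem hg₁ hg₂, fun w => ?_, fun x hx => ?_, fun v => ?_⟩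
      · rw [Units.val_mul, ← mulVec_mulVec, ← sub_add_cancel (g₂.val *ᵥ θ w) (π (g₂.val *ᵥ θ w)), mulVec_add,
          h1E _ (hπE _), map_add, hπ0 _ (hπE _), zero_add, h2', h1]
        rfl
      · rw [Units.val_mul, ← mulVec_mulVec, h2E x hx, h1E x hx]
      · rw [Units.val_mul, ← mulVec_mulVec]
        simpa using W.add_mem (h1W (g₂.val *ᵥ v)) (h2W v))
    (fun m m' hmm _ h => by
      obtain ⟨g₁, hg₁, h1, h1E, h1W⟩ := (hRep m).mp h
      refine (hRep m').mpr ⟨g₁⁻¹, inv_mem hg₁, fun w => ?_, fun x hx => ?_, fun v => ?_⟩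
      · have e := h1 (m' w)
        rw [← Module.End.mul_apply, hmm] at e
        have e' : g₁⁻¹.val *ᵥ θ w = θ (m' w) - (g₁.val *ᵥ θ (m' w) - π (g₁.val *ᵥ θ (m' w))) := by
          refine mulVec_injective g₁ ?_
          simp only
          rw [mulVec_sub, h1E _ (hπE _), Transvec.mulVec_inv_cancel, e, sub_sub_cancel]
          rfl
        rw [e', map_sub, hπθ, hπ0 _ (hπE _), sub_zero]
      · conv_lhs => rw [← h1E x hx, Transvec.inv_mulVec_cancel]
      · have := h1W (g₁⁻¹.val *ᵥ v)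
        rw [Transvec.mulVec_inv_cancel] at this
        simpa using W.neg_mem this)
    (fun m hm => (hRep m).mpr ⟨X, hXM, fun w => by
      obtain ⟨p, q⟩ := w
      rw [hm, hθ, hθ, mulVec_add, hXP _ p.2.1, ← sub_add_cancel (X.val *ᵥ (Ne.symm q).1) (Ne.symm q).1, map_add,
        map_add, ← hN, ← hNe, Ne.apply_symm_apply, hπid _ p.2.2, hπid _ (Ne.symm q).2.2, Submodule.coe_add]
      abel, fun x hx => hXP x (hE2 hx), fun v => hW ▸ Submodule.mem_sup_left ⟨_, (hXv v).symm⟩⟩)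
    (fun m hm => (hRep m).mpr ⟨Y, hYM, fun w => by
      obtain ⟨p, q⟩ := w
      rw [hm, hθ, hθ, mulVec_add, hYR _ (Ne.symm q).2.1, ← sub_add_cancel (Y.val *ᵥ p.1) p.1, map_add, map_add,
        ← hN', hπid _ p.2.2, hπid _ (Ne.symm q).2.2, map_add Ne.symm, Submodule.coe_add, hT, Ne.symm_apply_apply]
      abel, fun x hx => hYR x (hE1 hx), fun v => hW ▸ Submodule.mem_sup_right (hYR' v)⟩)
  obtain ⟨h, hhM, hh, hhE, hhW⟩ := (hRep m).mp hm
  -- it fixes the pure subspace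
  have hhP : ∀ p ∈ pureW a c, h.val *ᵥ p ∈ pureW a c := fun p hp => by
    have e := hh (⟨π p, hπP p hp⟩, 0)
    rw [hmact, hθ, hθ] at e
    simp only [map_zero, Submodule.coe_zero, add_zero] at e
    rw [← sub_add_cancel p (π p), mulVec_add, hhE _ (hπE p)]
    refine add_mem (hE2 (hπE p)) ?_
    have he := hπE (h.val *ᵥ π p)
    rw [e] at he
    rw [← sub_add_cancel (h.val *ᵥ π p) (π (h.val *ᵥ π p)), e]
    exact add_mem (hE2 he) (α _).2.1
  have hfix : ∀ x, ∃ z, h.val *ᵥ pt x c = pt z c := fun x => by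
    obtain ⟨z, hz⟩ := hhP _ (pt_mem_pureW x c)
    exact ⟨z, hz.symm⟩
  obtain ⟨A, B, hAB, hBc⟩ := kron_normal (kron_of_fix C hhM hc hfix) (by omega) hfix hc
  -- the first factor is scalar
  obtain ⟨lam, hlam⟩ : ∃ l : F, ∀ x, A *ᵥ x = l • x := by
    obtain ⟨v, hv, hvc⟩ : ∃ v, f₂ v c = 0 ∧ v ∉ Submodule.span F {c} := by
      obtain ⟨φ, hφ⟩ : ∃ φ : (Fin b → F) →ₗ[F] F, ∀ v, φ v = f₂ v c :=
        ⟨{ toFun := fun v => f₂ v c
           map_add' := fun p q => hr.bilinear.add_left p q c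
           map_smul' := fun t p => hr.bilinear.smul_left t p c }, fun v => rfl⟩
      obtain ⟨v, hv, hv'⟩ := SetLike.not_le_iff_exists.mp (fun hle : LinearMap.ker φ ≤ Submodule.span F {c} => by
        have h1 := LinearMap.finrank_range_add_finrank_ker φ
        have h2 := Submodule.finrank_le (LinearMap.range φ)
        have h3 := Submodule.finrank_mono hle
        rw [finrank_span_singleton hc] at h3
        rw [Module.finrank_self] at h2
        rw [Module.finrank_fin_fun] at h1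
        omega)
      exact ⟨v, (hφ v).symm.trans hv, hv'⟩
    obtain ⟨w, hw0, hw1⟩ := SympO.exists_dual hr hvc
    have hwc := hw0 c (Submodule.mem_span_singleton_self c)
    have hscale : ∀ x, f₂ (B *ᵥ v) w • (A *ᵥ x) = f₂ v w • x := fun x => by
      have hmem := hhW (pt x v)
      rw [hW] at hmem
      obtain ⟨p, hp, r, hr', hpr⟩ := Submodule.mem_sup.mp hmem
      obtain ⟨p', rfl⟩ := hp
      have hsc : s2 f₂ c r = 0 := by
        have h1 : s2 f₂ c (h.val *ᵥ pt x v) = 0 := sym_eq hl fun q => by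
          obtain ⟨z, hz⟩ := hfix q
          obtain ⟨q', rfl⟩ : ∃ q', q = A *ᵥ q' := by
            obtain ⟨q', hq'⟩ := (LinearMap.injective_iff_surjective (f := A.mulVecLin)).mp (fun s t hst => by
              have e : h.val *ᵥ pt s c = h.val *ᵥ pt t c := by
                rw [hAB, hAB, show A *ᵥ s = A *ᵥ t from hst]
              exact pt_injective hc (mulVec_injective h e)) q
            exact ⟨q', hq'.symm⟩
          rw [sym_zero_left hl, s2_image hl hr (C.sub h hhM) (by rw [hAB, hBc] : h.val *ᵥ pt q' c = pt (A *ᵥ q') c),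
            s2p hr, hv, zero_smul, sym_zero_left hl]
        have h2 := congrArg (s2 f₂ c) hpr
        rwa [map_add, ptL_apply, s2p hr, hr.alternating, zero_smul, zero_add, map_sub, h1, s2p hr, hv, zero_smul,
          sub_zero] at h2
      have hrE := hRE r hr' (by
        have := hXv r
        rw [hsc, pt_zero_left, sub_eq_zero] at this
        rwa [this])
      obtain ⟨r', rfl⟩ := hE2 hrE
      have h3 := congrArg (s2 f₂ w) hpr
      rw [map_add, ptL_apply, ptL_apply, s2p hr, s2p hr, hr.skew c w, hwc, neg_zero, zero_smul, zero_smul, add_zero,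
        map_sub, hAB, s2p hr, s2p hr] at h3
      exact sub_eq_zero.mp h3.symm
    have hvw : f₂ v w ≠ 0 := by rw [hr.skew, hw1]; exact neg_ne_zero.mpr one_ne_zero
    have hBv : f₂ (B *ᵥ v) w ≠ 0 := fun h0 => by
      have := hscale (Pi.single ⟨0, by omega⟩ 1)
      rw [h0, zero_smul, eq_comm, smul_eq_zero] at this
      exact this.elim hvw (by simp)
    exact ⟨(f₂ (B *ᵥ v) w)⁻¹ * f₂ v w, fun x => by rw [← smul_smul, ← hscale, inv_smul_smul₀ hBv]⟩
  have hPl : ∀ p ∈ pureW a c, h.val *ᵥ p = lam • p := by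
    rintro _ ⟨x, rfl⟩
    rw [ptL_apply, hAB, hBc, hlam, pt_smul_left]
  have hαl : ∀ p, α p = lam • p := fun p => by
    have e := hh (p, 0)
    rw [hmact, hθ, hθ] at e
    simp only [map_zero, Submodule.coe_zero, add_zero] at e
    rw [hPl _ p.2.1, map_smul, hπid _ p.2.2] at e
    exact Subtype.ext e.symm
  have hlam1 : lam ≠ 1 := fun h1 => hα1 (LinearMap.ext fun p => by rw [hαl, h1, one_smul]; rfl)
  have hEbot : E = ⊥ := (Submodule.eq_bot_iff _).mpr fun x hx => by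
    have e := hPl x (hE2 hx)
    rw [hhE x hx] at e
    have : (lam - 1) • x = 0 := by rw [sub_smul, ← e, one_smul, sub_self]
    exact (smul_eq_zero.mp this).resolve_left (sub_ne_zero.mpr hlam1)
  have hlam2 : lam = -1 := by
    obtain ⟨p, hp⟩ := exists_ne (0 : ↥(pureW a c ⊓ C'))
    have e := LinearMap.congr_fun hα2 p
    rw [Module.End.mul_apply, hαl, hαl, smul_smul, Module.End.one_apply] at e
    have e' : (lam * lam - 1) • p = 0 := Subtype.ext (by
      rw [Submodule.coe_smul, sub_smul, ← Submodule.coe_smul, e, one_smul, sub_self]; rfl)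
    rcases mul_eq_zero.mp (show (lam - 1) * (lam + 1) = 0 by
      linear_combination (smul_eq_zero.mp e').resolve_right hp) with h0 | h0
    · exact absurd (sub_eq_zero.mp h0) hlam1
    · exact eq_neg_of_add_eq_zero_left h0
  have hπ1 : ∀ v, π v = v := fun v => by
    have := hπE v
    rw [hEbot, Submodule.mem_bot, sub_eq_zero] at this
    exact this.symm
  have hneg : ∀ r ∈ R, h.val *ᵥ r = -r := fun r hr' => by
    have hrC : r ∈ R ⊓ C' := ⟨hr', hπ1 r ▸ hπC r⟩
    have e := hh (0, Ne ⟨r, hrC⟩)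
    rw [hmact, hθ, hθ, map_zero, hαl, map_smul, Ne.symm_apply_apply, Submodule.coe_zero, Submodule.coe_smul, zero_add,
      zero_add, hπ1, hlam2, neg_one_smul] at e
    exact e
  obtain ⟨Bm, hBm⟩ : ∃ Bm : Matrix (Fin b) (Fin b) F, ∀ x z, h.val *ᵥ pt x z = pt x (Bm *ᵥ z) :=
    ⟨lam • B, fun x z => by rw [hAB, hlam, smul_mulVec, pt_smul_right, pt_smul_left]⟩
  obtain ⟨L, hL⟩ : ∃ L : Submodule F (Fin b → F), L = LinearMap.range (Matrix.mulVecLin Bm - LinearMap.id) :=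
    ⟨_, rfl⟩
  have hL2 : Module.finrank F L ≤ 2 := by
    have hWdim : Module.finrank F W ≤ a + a := by
      rw [hW]
      refine (Submodule.finrank_add_le_finrank_add_finrank _ _).trans ?_
      rw [finrank_pureW hc, hR, finrank_img, finrank_pureW hu]
    have h1 : a * Module.finrank F L ≤ a + a := by
      refine (card_mul_finrank_le' ?_).trans hWdim
      rw [hL]
      rintro _ ⟨z, rfl⟩ i
      have := hhW (pt (Pi.single i 1) z)
      rwa [hBm, ← pt_sub_right] at this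
    by_contra hgt
    have h3 : a * 3 ≤ a * Module.finrank F L := Nat.mul_le_mul_left a (show 3 ≤ Module.finrank F L by omega)
    omega
  have hRL : ∀ r ∈ R, ∀ ψ : Fin a → F, slA ψ r ∈ L := fun r hr' ψ => by
    have e := slA_one_act hBm ψ r
    rw [hneg r hr', map_neg] at e
    rw [hL]
    refine ⟨(-(2 : F)⁻¹) • slA ψ r, ?_⟩
    simp only [map_smul, LinearMap.sub_apply, Matrix.mulVecLin_apply, LinearMap.id_apply, ← e]
    rw [show -slA ψ r - slA ψ r = (-2 : F) • slA ψ r by module, smul_smul,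
      show -(2 : F)⁻¹ * -2 = 1 by field_simp, one_smul]
  have hK0 : K = 0 := by rw [← hk, hEbot, finrank_bot]
  have hinv : ∀ z, ∀ hz : f₁ z z ≠ 0, ∀ r ∈ R, pt z (slA (gram f₁ *ᵥ z) r) ∈ R := by
    intro z hz r hr'
    have heq : img (krRefl C hz) R = R := by
      by_contra hne
      have hd := htrans _ (krRefl_mem C hz) g hg u hu (by rw [← hR]; exact hne)
      rw [← hR, hK0, Nat.le_zero, Submodule.finrank_eq_zero] at hd
      obtain ⟨Ψ, hΨ⟩ : ∃ Ψ : R →ₗ[F] L, ∀ r : R, (Ψ r).1 = slA (gram f₁ *ᵥ z) r.1 :=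
        ⟨LinearMap.codRestrict L ((slA _).comp R.subtype) fun r => hRL r.1 r.2 _, fun r => rfl⟩
      have h1 := LinearMap.finrank_range_add_finrank_ker Ψ
      have h2' := Submodule.finrank_le (LinearMap.range Ψ)
      have h3 : Module.finrank F R = a := by rw [hR, finrank_img, finrank_pureW hu]
      have h4 : LinearMap.ker Ψ = ⊥ := (Submodule.eq_bot_iff _).mpr fun r hr0 => Subtype.ext <|
        (Submodule.eq_bot_iff _).mp hd r.1 ⟨mem_img.mpr ⟨r.1, r.2, by
          rw [krRefl_vec C hz, ← hΨ, LinearMap.mem_ker.mp hr0, Submodule.coe_zero, pt_zero_right, smul_zero,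
            sub_zero]⟩, r.2⟩
      rw [h4, finrank_bot] at h1
      omega
    have hmem : (krRefl C hz).val *ᵥ r ∈ R := heq ▸ mem_img.mpr ⟨r, hr', rfl⟩
    rw [krRefl_vec C hz] at hmem
    have h5 := R.smul_mem (f₁ z z / 2) (R.sub_mem hr' hmem)
    rwa [sub_sub_cancel, smul_smul, show f₁ z z / 2 * (2 / f₁ z z) = 1 by field_simp, one_smul] at h5
  obtain ⟨r, hr', hr0⟩ := Submodule.exists_mem_ne_zero_of_ne_bot (show R ≠ ⊥ from fun hb' => by
    have h3 : Module.finrank F R = a := by rw [hR, finrank_img, finrank_pureW hu]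
    rw [hb', finrank_bot] at h3
    omega)
  obtain ⟨z, hz, hw⟩ : ∃ z, f₁ z z ≠ 0 ∧ slA (gram f₁ *ᵥ z) r ≠ 0 := by
    by_contra hall
    push Not at hall
    obtain ⟨S, hS⟩ : ∃ S : Submodule F (Fin a → F), ∀ z, z ∈ S ↔ slA (gram f₁ *ᵥ z) r = 0 :=
      ⟨LinearMap.ker
        ({ toFun := fun z => slA (gram f₁ *ᵥ z) r
           map_add' := fun p q => funext fun j => by simp [slA, mulVec_add, add_mul, Finset.sum_add_distrib]
           map_smul' := fun t p => funext fun j => by simp [slA, mulVec_smul, Finset.mul_sum, mul_assoc] } :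
          (Fin a → F) →ₗ[F] (Fin b → F)), fun z => Iff.rfl⟩
    have htop := nd_span hl h2 (nd_top hl) (S := S) fun z _ hz => (hS z).mpr (hall z hz)
    refine hr0 (eq_of_s2 hr fun v => sym_eq hl fun z => ?_)
    rw [map_zero, sym_zero_left hl, sym_dot hl, s2, dot_sl_slA, (hS z).mp (htop trivial), dotProduct_zero]
  obtain ⟨w, hwdef⟩ : ∃ w, w = slA (gram f₁ *ᵥ z) r := ⟨_, rfl⟩
  obtain ⟨S, hS⟩ : ∃ S : Submodule F (Fin a → F), ∀ x, x ∈ S ↔ pt x w ∈ R :=
    ⟨R.comap (ptL w), fun x => Iff.rfl⟩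
  have htop : (⊤ : Submodule F (Fin a → F)) ≤ S := closed_top hl h2 (nd_top hl) (Submodule.mem_top (x := z))
    ((hS z).mpr (hwdef ▸ hinv z hz r hr')) hz (fun x hx _ v _ hqv hxv => by
      rw [hS] at hx ⊢
      have := R.smul_mem (f₁ x v)⁻¹ (hinv v hqv _ hx)
      rwa [slA_pt, ← sym_dot hl, pt_smul_right, inv_smul_smul₀ hxv] at this)
    (Or.inr (by rw [finrank_top, Module.finrank_fin_fun]; exact ha))
  have hw0 : w ≠ 0 := hwdef ▸ hw
  refine hnp ⟨w, hw0, (Submodule.eq_of_le_of_finrank_eq ?_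
    (by rw [finrank_pureW hw0, hR, finrank_img, finrank_pureW hu])).symm⟩
  rintro _ ⟨x, rfl⟩
  exact (hS x).mp (htop trivial)

end CfsgLib.Classical22.TensorMax.SpO
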