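/-
Planes of an alternating factor of dimension two: coordinates and the pure case.
-/
import Cfsg.Agent.Lib.Classical22.SpOrthTensor.Main

set_option autoImplicit false
set_option maxHeartbeats 800000

namespace CfsgLib.Classical22.TensorMax.SpO

open Matrix Kronecker CfsgLib.Transvec CfsgLib.Classical22.TensorMax.SympO
open scoped MatrixGroups

variable {F : Type*} [Field F]

section Planar
variable {f₂ : (Fin 2 → F) → (Fin 2 → F) → F} (hr : Cfsg.Geo.IsSymplecticForm f₂)
include hr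

lemma alt_two (x y : Fin 2 → F) :
    f₂ x y = f₂ (Pi.single 0 1) (Pi.single 1 1) * (x 0 * y 1 - x 1 * y 0) := by
  have e : ∀ z : Fin 2 → F, z = z 0 • Pi.single 0 1 + z 1 • Pi.single 1 1 := fun z => funext fun i => by
    fin_cases i <;> simp
  conv_lhs => rw [e x, e y]
  simp only [hr.bilinear.add_left, hr.bilinear.add_right, hr.bilinear.smul_left, hr.bilinear.smul_right,
    hr.alternating, hr.skew (Pi.single 0 1) (Pi.single 1 1)]
  ring

lemma prop_of_alt_zero {u η : Fin 2 → F} (hu : u ≠ 0) (h : f₂ η u = 0) : η ∈ Submodule.span F {u} := by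
  obtain ⟨u', hu'⟩ := exists_partner_alt hr hu
  refine Submodule.mem_span_singleton.mpr ⟨f₂ u' η, funext fun i => ?_⟩
  rw [alt_two hr] at h hu' ⊢
  rw [Pi.smul_apply, smul_eq_mul]
  fin_cases i
  · simp only [Fin.isValue, Fin.zero_eta]
    linear_combination -(u' 0) * h + (η 0) * hu'
  · simp only [Fin.isValue, Fin.mk_one]
    linear_combination -(u' 1) * h + (η 1) * hu'

lemma alt_det (β : Matrix (Fin 2) (Fin 2) F) (x y : Fin 2 → F) : f₂ (β *ᵥ x) (β *ᵥ y) = β.det * f₂ x y := by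
  rw [alt_two hr, alt_two hr x y]
  simp [mulVec, dotProduct, Fin.sum_univ_two, det_fin_two, -mul_eq_mul_left_iff]
  ring

lemma alt_adjugate (β : Matrix (Fin 2) (Fin 2) F) (x y : Fin 2 → F) :
    f₂ (β *ᵥ x) y = f₂ x (β.adjugate *ᵥ y) := by
  rw [alt_two hr, alt_two hr x]
  simp [mulVec, dotProduct, Fin.sum_univ_two, adjugate_fin_two, -mul_eq_mul_left_iff]
  ring

end Planar

lemma adjugate_two_mulVec (β : Matrix (Fin 2) (Fin 2) F) (x : Fin 2 → F) :
    β.adjugate *ᵥ x = β.trace • x - β *ᵥ x := by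
  funext i
  fin_cases i <;> simp [mulVec, dotProduct, Fin.sum_univ_two, adjugate_fin_two, trace_fin_two] <;> ring

lemma cayley_two (β : Matrix (Fin 2) (Fin 2) F) (x : Fin 2 → F) :
    β *ᵥ (β *ᵥ x) = β.trace • (β *ᵥ x) - β.det • x := by
  funext i
  fin_cases i <;> simp [mulVec, dotProduct, Fin.sum_univ_two, det_fin_two, trace_fin_two] <;> ring

/-- Proportionality from equality of pure vectors, first factor. -/
lemma pt_propA {a b : ℕ} {x y : Fin a → F} {u c : Fin b → F} (h : pt x u = pt y c) (hu : u ≠ 0) :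
    x ∈ Submodule.span F {y} := by
  obtain ⟨φ, -, hφ⟩ := exists_functional (E := (⊥ : Submodule F (Fin b → F))) (u := u) (by simpa using hu)
  have := congrArg (sl φ) h
  rw [sl_pt, sl_pt, hφ, one_smul] at this
  exact Submodule.mem_span_singleton.mpr ⟨_, this.symm⟩

variable {a b : ℕ} {f₁ : (Fin a → F) → (Fin a → F) → F} {f₂ : (Fin b → F) → (Fin b → F) → F}

lemma bform_pt_slA (hl : Cfsg.Geo.IsSymmetricForm f₁) (hr : Cfsg.Geo.IsSymplecticForm f₂)
    (v : Fin a × Fin b → F) (p : Fin a → F) (u : Fin b → F) :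
    bform f₁ f₂ v (pt p u) = f₂ (slA (gram f₁ *ᵥ p) v) u := by
  rw [bform_pt hl hr, sym_dot hl, form_eq_dot hr, s2]
  exact dot_sl_slA _ _ _

variable [Fintype F] {M : Subgroup (GL (Fin a × Fin b) F)}

/-- The involution with negative space the image of `z ⊗ B`. -/
noncomputable def planeInv (C : Ctx f₁ f₂ M) (g : GL (Fin a × Fin b) F) {z : Fin a → F} (hz : f₁ z z ≠ 0) :
    GL (Fin a × Fin b) F :=
  g * krRefl C hz * g⁻¹

variable (C : Ctx f₁ f₂ M)
include C

theorem planeInv_mem {g : GL (Fin a × Fin b) F} (hg : g ∈ M) {z : Fin a → F} (hz : f₁ z z ≠ 0) :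
    planeInv C g hz ∈ M :=
  mul_mem (mul_mem hg (krRefl_mem C hz)) (inv_mem hg)

theorem planeInv_apply (g : GL (Fin a × Fin b) F) {z : Fin a → F} (hz : f₁ z z ≠ 0) (v : Fin a × Fin b → F) :
    (planeInv C g hz).val *ᵥ v =
      v - (2 / f₁ z z) • (g.val *ᵥ pt z (slA (gram f₁ *ᵥ z) (g⁻¹.val *ᵥ v))) := by
  rw [planeInv, Units.val_mul, Units.val_mul, ← mulVec_mulVec, ← mulVec_mulVec, krRefl_vec C hz, mulVec_sub,
    mulVec_smul, Transvec.mulVec_inv_cancel]

theorem planeInv_sq (g : GL (Fin a × Fin b) F) {z : Fin a → F} (hz : f₁ z z ≠ 0) :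
    planeInv C g hz * planeInv C g hz = 1 := by
  rw [planeInv, show g * krRefl C hz * g⁻¹ * (g * krRefl C hz * g⁻¹) = g * (krRefl C hz * krRefl C hz) * g⁻¹ by group,
    show krRefl C hz * krRefl C hz = 1 from ext_pt fun x k => by
      rw [Units.val_mul, ← mulVec_mulVec, krRefl_apply, krRefl_apply, Units.val_one, one_mulVec, mulVec_mulVec,
        refl_mul_self C.left hz, one_mulVec], mul_one, mul_inv_cancel]

end CfsgLib.Classical22.TensorMax.SpO
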