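/-
Planes of an alternating factor of dimension two: pure planes and coordinates of the others.
-/
import Cfsg.Agent.Lib.Classical22.SpOrthTensor.Plane

set_option autoImplicit false
set_option maxHeartbeats 800000

namespace CfsgLib.Classical22.TensorMax.SpO

open Matrix Kronecker CfsgLib.Transvec CfsgLib.Classical22.TensorMax.SympO
open scoped MatrixGroups

variable {F : Type*} [Field F] [Fintype F] {a : ℕ} {f₁ : (Fin a → F) → (Fin a → F) → F}
  {f₂ : (Fin 2 → F) → (Fin 2 → F) → F} {M : Subgroup (GL (Fin a × Fin 2) F)}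

/-- At least four dimensions and totally singular subspaces of codimension at least three: every dimension from five on,
and dimension four with no singular plane. -/
def WittLow (f₁ : (Fin a → F) → (Fin a → F) → F) : Prop :=
  4 ≤ a ∧ ∀ S : Submodule F (Fin a → F), (∀ x ∈ S, ∀ y ∈ S, f₁ x y = 0) → Module.finrank F S + 3 ≤ a

/-- The image of `z ⊗ B` contains no pure vector. -/
def NoPure (g : GL (Fin a × Fin 2) F) (z : Fin a → F) : Prop :=
  ∀ u (x : Fin a → F) (c : Fin 2 → F), g.val *ᵥ pt z u = pt x c → u = 0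

variable (C : Ctx f₁ f₂ M)
include C

/-- A plane containing a pure vector is pure. -/
theorem plane_of_pure {g : GL (Fin a × Fin 2) F} (hg : g ∈ M) {z : Fin a → F} (hz : f₁ z z ≠ 0)
    (h : ¬ NoPure g z) : ∃ d, ∀ u, ∃ w, g.val *ᵥ pt z u = pt d w := by
  classical
  have hl := C.left
  have hr := C.right
  have h2 := C.two
  have ha := C.dim
  rw [NoPure] at h
  push Not at h
  obtain ⟨u₀, x₀, c, h0, hu₀⟩ := h
  have hz0 : z ≠ 0 := fun e => hz (by rw [e, sym_zero_left hl])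
  have hp0 : g.val *ᵥ pt z u₀ ≠ 0 := mulVec_ne_zero g fun e => hz0 (pt_eq_zero hu₀ e)
  have hc : c ≠ 0 := fun e => hp0 (by rw [h0, e, pt_zero_right])
  obtain ⟨y, hy⟩ : ∃ y, y = planeInv C g hz := ⟨_, rfl⟩
  have hyM : y ∈ M := hy ▸ planeInv_mem C hg hz
  obtain ⟨P, hP⟩ : ∃ P : Submodule F (Fin a × Fin 2 → F),
      P = LinearMap.range ((Matrix.mulVecLin g.val).comp (ptR z)) := ⟨_, rfl⟩
  have hPdim : Module.finrank F P ≤ 2 := by
    rw [hP]
    exact (LinearMap.finrank_range_le _).trans (Module.finrank_fin_fun F).le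
  have hyP : ∀ v, v - y.val *ᵥ v ∈ P := fun v => by
    rw [hy, planeInv_apply, sub_sub_cancel]
    refine Submodule.smul_mem _ _ ?_
    rw [hP]
    exact ⟨slA (gram f₁ *ᵥ z) (g⁻¹.val *ᵥ v), rfl⟩
  have hfix : ∀ x, ∃ x', y.val *ᵥ pt x c = pt x' c := fun x => by
    have hη : f₂ (slA (gram f₁ *ᵥ z) (g⁻¹.val *ᵥ pt x c)) u₀ = 0 := by
      rw [← bform_pt_slA hl hr, ← C.sub g hg, Transvec.mulVec_inv_cancel, h0, bform_pt_pt hl hr, hr.alternating,
        mul_zero]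
    obtain ⟨t, ht⟩ := Submodule.mem_span_singleton.mp (prop_of_alt_zero hr hu₀ hη)
    refine ⟨x - (2 / f₁ z z * t) • x₀, ?_⟩
    rw [hy, planeInv_apply, ← ht, pt_smul_right, mulVec_smul, h0, smul_smul, ← pt_smul_left, ← ptL_apply, ← ptL_apply,
      ← map_sub, ptL_apply]
  obtain ⟨A, B, hAB, hBc⟩ := kron_normal (kron_of_fix C hyM hc hfix) (by omega) hfix hc
  have hy2 : ∀ v, y.val *ᵥ (y.val *ᵥ v) = v := fun v => by
    rw [mulVec_mulVec, ← Units.val_mul, hy, planeInv_sq, Units.val_one, one_mulVec]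
  have hA2 : ∀ x, A *ᵥ (A *ᵥ x) = x := fun x => by
    have e := hy2 (pt x c)
    rw [hAB, hBc, hAB, hBc] at e
    exact pt_injective hc e
  obtain ⟨x₁, hx₁⟩ : ∃ x : Fin a → F, x ≠ 0 := ⟨Pi.single ⟨0, by omega⟩ 1, by simp⟩
  have hB2 : ∀ w, B *ᵥ (B *ᵥ w) = w := fun w => by
    have e := hy2 (pt x₁ w)
    rw [hAB, hAB, hA2] at e
    by_contra hne
    exact hx₁ (pt_eq_zero (sub_ne_zero.mpr hne) (by rw [pt_sub_right, e, sub_self]))
  have hB1 : ∀ w, B *ᵥ w = w := by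
    by_contra hall
    push Not at hall
    obtain ⟨w₀, hw₀⟩ := hall
    obtain ⟨c', hc'⟩ : ∃ c', c' = B *ᵥ w₀ - w₀ := ⟨_, rfl⟩
    have hc'0 : c' ≠ 0 := hc' ▸ sub_ne_zero.mpr hw₀
    have hBc' : B *ᵥ c' = -c' := by rw [hc', mulVec_sub, hB2, neg_sub]
    obtain ⟨Φ, hΦ⟩ : ∃ Φ : (Fin a → F) →ₗ[F] P, ∀ x, (Φ x).1 = pt (x - A *ᵥ x) c + pt (x + A *ᵥ x) c' := by
      refine ⟨LinearMap.codRestrict P ((ptL c).comp (LinearMap.id - Matrix.mulVecLin A) +
        (ptL c').comp (LinearMap.id + Matrix.mulVecLin A)) fun x => ?_, fun x => rfl⟩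
      have e := hyP (pt x c + pt x c')
      rw [mulVec_add, hAB, hAB, hBc, hBc'] at e
      convert e using 1
      simp only [LinearMap.add_apply, LinearMap.comp_apply, LinearMap.sub_apply, LinearMap.id_apply,
        Matrix.mulVecLin_apply, map_sub, map_add, ptL_apply]
      rw [show pt (A *ᵥ x) (-c') = - pt (A *ᵥ x) c' from (ptR (A *ᵥ x)).map_neg c']
      abel
    have hinj : Function.Injective Φ := by
      rw [← LinearMap.ker_eq_bot, LinearMap.ker_eq_bot']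
      intro x hx
      have e : pt (x - A *ᵥ x) c + pt (x + A *ᵥ x) c' = 0 := by rw [← hΦ, hx]; rfl
      have key : ∀ i, (x - A *ᵥ x) i = 0 ∧ (x + A *ᵥ x) i = 0 := fun i => by
        have e1 := congrArg (slA (Pi.single i 1)) e
        rw [map_add, slA_pt, slA_pt, map_zero, single_one_dotProduct, single_one_dotProduct] at e1
        have e2 := congrArg (fun w => B *ᵥ w) e1
        simp only [mulVec_add, mulVec_smul, hBc, hBc', smul_neg, mulVec_zero] at e2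
        constructor
        · have : (2 * (x - A *ᵥ x) i) • c = 0 := by
            linear_combination (norm := module) e1 + e2
          exact (mul_eq_zero.mp ((smul_eq_zero.mp this).resolve_right hc)).resolve_left h2
        · have : (2 * (x + A *ᵥ x) i) • c' = 0 := by
            linear_combination (norm := module) e1 - e2
          exact (mul_eq_zero.mp ((smul_eq_zero.mp this).resolve_right hc'0)).resolve_left h2
      funext i
      obtain ⟨k1, k2⟩ := key i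
      rw [Pi.sub_apply] at k1
      rw [Pi.add_apply] at k2
      exact (mul_eq_zero.mp (show 2 * x i = 0 by linear_combination k1 + k2)).resolve_left h2
    have := LinearMap.finrank_le_finrank_of_injective hinj
    rw [Module.finrank_fin_fun] at this
    omega
  obtain ⟨L, hL⟩ : ∃ L : (Fin a → F) →ₗ[F] (Fin a → F), ∀ x, L x = x - A *ᵥ x :=
    ⟨LinearMap.id - Matrix.mulVecLin A, fun x => rfl⟩
  have hLv : ∀ x j, pt (L x) (Pi.single j 1) ∈ P := fun x j => by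
    have e := hyP (pt x (Pi.single j 1))
    rwa [hAB, hB1, ← ptL_apply, ← ptL_apply, ← map_sub, ← hL, ptL_apply] at e
  have hrk : Module.finrank F (LinearMap.range L) ≤ 1 := by
    have := (card_mul_finrank_le (D := LinearMap.range L) (W := P)
      (fun d hd j => by obtain ⟨x, rfl⟩ := hd; exact hLv x j)).trans hPdim
    omega
  obtain ⟨d, hd⟩ := finrank_le_one_iff.mp hrk
  refine ⟨d.1, fun u => ?_⟩
  have hneg : y.val *ᵥ (g.val *ᵥ pt z u) = - (g.val *ᵥ pt z u) := by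
    rw [hy, planeInv_apply, Transvec.inv_mulVec_cancel, slA_pt, ← sym_dot hl, pt_smul_right, mulVec_smul,
      smul_smul, div_mul_cancel₀ _ hz, two_smul]
    abel
  obtain ⟨v, hv⟩ : ∃ v, v = g.val *ᵥ pt z u := ⟨_, rfl⟩
  rw [← hv] at hneg ⊢
  choose τ hτ using fun j : Fin 2 => hd ⟨L (fun i => v (i, j)), _, rfl⟩
  refine ⟨(2 : F)⁻¹ • τ, ?_⟩
  have e : (2 : F) • v = pt d.1 τ := by
    rw [two_smul]
    conv_lhs => arg 2; rw [← neg_neg v, ← hneg]
    rw [← sub_eq_add_neg, eq_sum_pt v, Matrix.mulVec_sum, ← Finset.sum_sub_distrib,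
      show pt d.1 τ = ∑ j, pt (τ j • d.1) (Pi.single j 1) from funext fun p => by
        simp [pt, Finset.sum_apply, Pi.single_apply, mul_comm]]
    refine Finset.sum_congr rfl fun j _ => ?_
    have h3 := congrArg Subtype.val (hτ j)
    simp only [SetLike.val_smul] at h3
    rw [hAB, hB1, h3, hL, ← ptL_apply, ← ptL_apply, ← map_sub, ptL_apply]
  rw [pt_smul_right, ← e, inv_smul_smul₀ h2]

/-- The contractions of a plane without pure vectors lie in a plane. -/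
theorem contr_plane (ha7 : WittLow f₁) {g : GL (Fin a × Fin 2) F} (hg : g ∈ M) {z : Fin a → F} (hz : f₁ z z ≠ 0)
    (hnp : NoPure g z) :
    ∃ U : Submodule F (Fin a → F), Module.finrank F U ≤ 2 ∧ ∀ u c, s2 f₂ c (g.val *ᵥ pt z u) ∈ U := by
  classical
  have hl := C.left
  have hr := C.right
  have h2 := C.two
  obtain ⟨c₀, hc₀⟩ : ∃ c₀ : Fin 2 → F, c₀ ≠ 0 := ⟨Pi.single 0 1, by simp⟩
  obtain ⟨S, hS⟩ : ∃ S : (Fin 2 → F) →ₗ[F] (Fin a → F), ∀ u, S u = s2 f₂ c₀ (g.val *ᵥ pt z u) :=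
    ⟨(s2 f₂ c₀).comp ((Matrix.mulVecLin g.val).comp (ptR z)), fun u => rfl⟩
  refine ⟨LinearMap.range S, (LinearMap.finrank_range_le _).trans (Module.finrank_fin_fun F).le, fun u c => ?_⟩
  obtain ⟨W, hW⟩ : ∃ W, W = perpIn f₁ (perpIn f₁ ⊤ (S (Pi.single 0 1))) (S (Pi.single 1 1)) := ⟨_, rfl⟩
  have hWperp : ∀ w ∈ W, ∀ u', f₁ w (S u') = 0 := fun w hw u' => by
    rw [hW] at hw
    obtain ⟨hw', h1⟩ := (mem_perpIn hl).mp hw
    obtain ⟨-, h0⟩ := (mem_perpIn hl).mp hw'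
    rw [show u' = u' 0 • Pi.single 0 1 + u' 1 • Pi.single 1 1 from funext fun i => by fin_cases i <;> simp,
      map_add, map_smul, map_smul, hl.bilinear.add_right, hl.bilinear.smul_right, hl.bilinear.smul_right, h0, h1]
    ring
  obtain ⟨w₁, hw₁, hq₁⟩ : ∃ w ∈ W, f₁ w w ≠ 0 := by
    by_contra hall
    push Not at hall
    obtain ⟨ha4, hts⟩ := ha7
    have h3 := hts W fun p hp r hr' => by
      have h := hall (p + r) (add_mem hp hr')
      rw [sym_quad_add hl, hall p hp, hall r hr', zero_add, add_zero] at h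
      exact (mul_eq_zero.mp h).resolve_left h2
    have h4 := finrank_perpIn hl ⊤ (S (Pi.single 0 1))
    have h5 := finrank_perpIn hl (perpIn f₁ ⊤ (S (Pi.single 0 1))) (S (Pi.single 1 1))
    rw [finrank_top, Module.finrank_fin_fun] at h4
    rw [← hW] at h5
    omega
  -- anisotropic vectors orthogonal to one contraction are orthogonal to all
  have key : ∀ w ∈ W, f₁ w w ≠ 0 → f₁ w (s2 f₂ c (g.val *ᵥ pt z u)) = 0 := by
    intro w hw hqw
    obtain ⟨y, hy⟩ : ∃ y, y = planeInv C g hz := ⟨_, rfl⟩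
    have hyM : y ∈ M := hy ▸ planeInv_mem C hg hz
    have hη : slA (gram f₁ *ᵥ z) (g⁻¹.val *ᵥ pt w c₀) = 0 := eq_of_form hr fun u' => by
      rw [← bform_pt_slA hl hr, r_zero_left hr, ← C.sub g hg, Transvec.mulVec_inv_cancel, bform_skew hl hr,
        bform_pt hl hr, ← hS, hl.symm, hWperp w hw, neg_zero]
    have hfix : y.val *ᵥ pt w c₀ = pt w c₀ := by
      rw [hy, planeInv_apply, hη, pt_zero_right, mulVec_zero, smul_zero, sub_zero]
    obtain ⟨d, hd⟩ := plane_of_pure C hyM hqw fun hn => hc₀ (hn c₀ w c₀ hfix)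
    obtain ⟨t₀, ht₀⟩ := hd c₀
    rw [hfix] at ht₀
    obtain ⟨s, hs⟩ := Submodule.mem_span_singleton.mp (pt_propA ht₀ hc₀)
    have hs0 : s ≠ 0 := fun e => hqw (by rw [← hs, e, zero_smul, sym_zero_left hl])
    obtain ⟨t, ht⟩ := hd c
    have ht' : y.val *ᵥ pt w c = pt w (s⁻¹ • t) := by
      rw [ht, ← hs, pt_smul_left, pt_smul_right, smul_inv_smul₀ hs0]
    have hη' : slA (gram f₁ *ᵥ z) (g⁻¹.val *ᵥ pt w c) = 0 := by
      rw [hy, planeInv_apply, sub_eq_iff_eq_add, ← sub_eq_iff_eq_add', ← mulVec_smul, ← pt_smul_right,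
        ← pt_sub_right] at ht'
      exact (smul_eq_zero.mp (hnp _ _ _ ht'.symm)).resolve_left (div_ne_zero h2 hz)
    have := bform_pt_slA hl hr (g⁻¹.val *ᵥ pt w c) z u
    rw [hη', r_zero_left hr, ← C.sub g hg, Transvec.mulVec_inv_cancel, bform_skew hl hr, bform_pt hl hr,
      neg_eq_zero, hl.symm] at this
    exact this
  by_contra hns
  obtain ⟨φ, hφ, hφ1⟩ := exists_functional hns
  obtain ⟨p, hp⟩ := sym_repr hl φ
  have hpW : p ∈ W := by
    rw [hW]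
    refine (mem_perpIn hl).mpr ⟨(mem_perpIn hl).mpr ⟨trivial, ?_⟩, ?_⟩ <;>
      · rw [hl.symm, hp]; exact hφ _ ⟨_, rfl⟩
  have := aniso_span hl h2 (S := perpIn f₁ ⊤ (s2 f₂ c (g.val *ᵥ pt z u))) hw₁ hq₁
    (fun x hx hqx => (mem_perpIn hl).mpr ⟨trivial, key x hx hqx⟩) hpW
  rw [mem_perpIn hl, hl.symm, hp, hφ1] at this
  exact one_ne_zero this.2

/-- Coordinates of a plane without pure vectors whose contractions lie in a plane, from a given vector. -/
theorem plane_coord_in {g : GL (Fin a × Fin 2) F} (hg : g ∈ M) {z : Fin a → F} (hz : f₁ z z ≠ 0)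
    (hnp : NoPure g z) {U : Submodule F (Fin a → F)} (hU2 : Module.finrank F U ≤ 2)
    (hU : ∀ u c, s2 f₂ c (g.val *ᵥ pt z u) ∈ U) {u₁ : Fin a → F} (hu₁ : u₁ ∈ U) (hq₁ : f₁ u₁ u₁ ≠ 0) :
    ∃ (u₂ : Fin a → F) (β : Matrix (Fin 2) (Fin 2) F), f₁ u₁ u₂ = 0 ∧ u₂ ≠ 0 ∧ u₂ ∈ U ∧
      U ≤ Submodule.span F {u₁, u₂} ∧
      (∀ (x : Fin 2 → F) (l : F), β *ᵥ x = l • x → x = 0) ∧
      f₁ u₁ u₁ + f₁ u₂ u₂ * β.det ≠ 0 ∧
      ∃ γ : (Fin a × Fin 2 → F) → (Fin 2 → F),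
        (∀ v, (f₁ u₁ u₁ + f₁ u₂ u₂ * β.det) • γ v =
          slA (gram f₁ *ᵥ u₁) v + β.adjugate *ᵥ slA (gram f₁ *ᵥ u₂) v) ∧
        ∀ v, (planeInv C g hz).val *ᵥ v = v - (2 : F) • (pt u₁ (γ v) + pt u₂ (β *ᵥ γ v)) := by
  classical
  have hl := C.left
  have hr := C.right
  have h2 := C.two
  obtain ⟨G, hG⟩ : ∃ G : (Fin 2 → F) →ₗ[F] (Fin a × Fin 2 → F), ∀ u, G u = g.val *ᵥ pt z u :=
    ⟨(Matrix.mulVecLin g.val).comp (ptR z), fun u => rfl⟩
  have hcol : ∀ u j, (fun i => G u (i, j)) ∈ U := fun u j => by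
    obtain ⟨c, hc⟩ := exists_repr hr (Pi.single j (1 : F) : Fin 2 → F)
    have e := hU u c
    rwa [s2, hc, sl_single, ← hG] at e
  have hGform : ∀ u u', bform f₁ f₂ (G u) (G u') = f₁ z z * f₂ u u' := fun u u' => by
    rw [hG, hG, C.sub g hg, bform_pt_pt hl hr]
  obtain ⟨e', he'⟩ := exists_partner_alt hr (show (Pi.single 0 1 : Fin 2 → F) ≠ 0 by simp)
  -- the second vector
  obtain ⟨s, hs, hs1⟩ : ∃ s ∈ U, s ∉ Submodule.span F {u₁} := by
    by_contra hall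
    push Not at hall
    have hne : (Pi.single 0 1 : Fin 2 → F) ≠ 0 := by simp
    refine hne (hnp (Pi.single 0 1) u₁ (fun j => f₁ (fun i => G (Pi.single 0 1) (i, j)) u₁ / f₁ u₁ u₁) ?_)
    rw [← hG]
    funext ⟨i, j⟩
    obtain ⟨t, ht⟩ := Submodule.mem_span_singleton.mp (hall _ (hcol (Pi.single 0 1) j))
    have e := congrFun ht i
    simp only [Pi.smul_apply, smul_eq_mul] at e
    simp only [pt, ← e]
    rw [← ht, hl.bilinear.smul_left, mul_div_assoc, div_self hq₁, mul_one, mul_comm]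
  obtain ⟨u₂, hu₂def⟩ : ∃ u₂, u₂ = s - (f₁ s u₁ / f₁ u₁ u₁) • u₁ := ⟨_, rfl⟩
  have hu₂ : u₂ ∈ U := hu₂def ▸ sub_mem hs (U.smul_mem _ hu₁)
  have h12 : f₁ u₂ u₁ = 0 := by
    rw [hu₂def, sym_sub_left hl, hl.bilinear.smul_left, div_mul_cancel₀ _ hq₁, sub_self]
  have h21 : f₁ u₁ u₂ = 0 := by rw [hl.symm, h12]
  have hu₂s : u₂ ∉ Submodule.span F {u₁} := fun hm => hs1 (by
    have := Submodule.add_mem _ hm (Submodule.smul_mem _ (f₁ s u₁ / f₁ u₁ u₁) (Submodule.mem_span_singleton_self u₁))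
    rwa [hu₂def, sub_add_cancel] at this)
  have hu₂0 : u₂ ≠ 0 := fun e => hu₂s (e ▸ zero_mem _)
  obtain ⟨ψ₂, hψ₂, hψ₂1⟩ := exists_functional hu₂s
  have hψ21 : ψ₂ ⬝ᵥ u₁ = 0 := hψ₂ _ (Submodule.mem_span_singleton_self u₁)
  obtain ⟨ψ₁, hψ₁⟩ : ∃ ψ₁, ψ₁ = (f₁ u₁ u₁)⁻¹ • (gram f₁ *ᵥ u₁) := ⟨_, rfl⟩
  have hψ1x : ∀ x, ψ₁ ⬝ᵥ x = (f₁ u₁ u₁)⁻¹ * f₁ x u₁ := fun x => by
    rw [hψ₁, smul_dotProduct, ← sym_dot hl, smul_eq_mul]
  have hspan : ∀ x ∈ U, x = (ψ₁ ⬝ᵥ x) • u₁ + (ψ₂ ⬝ᵥ x) • u₂ := by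
    obtain ⟨L, hL⟩ : ∃ L : (Fin 2 → F) →ₗ[F] U, ∀ c, (L c).1 = c 0 • u₁ + c 1 • u₂ :=
      ⟨{ toFun := fun c => ⟨c 0 • u₁ + c 1 • u₂, add_mem (U.smul_mem _ hu₁) (U.smul_mem _ hu₂)⟩
         map_add' := fun c d => Subtype.ext (by simp [add_smul]; abel)
         map_smul' := fun t c => Subtype.ext (by simp [smul_add, smul_smul]) }, fun c => rfl⟩
    have hval : ∀ c, ψ₁ ⬝ᵥ (L c).1 = c 0 ∧ ψ₂ ⬝ᵥ (L c).1 = c 1 := fun c => by
      rw [hL]
      constructor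
      · rw [hψ1x, hl.bilinear.add_left, hl.bilinear.smul_left, hl.bilinear.smul_left, h12]
        field_simp
        ring
      · rw [dotProduct_add, dotProduct_smul, dotProduct_smul, hψ21, hψ₂1]
        simp
    have hinj : Function.Injective L := fun c d e => funext fun i => by
      fin_cases i
      · exact ((hval c).1.symm.trans (by rw [e])).trans (hval d).1
      · exact ((hval c).2.symm.trans (by rw [e])).trans (hval d).2
    have hdim : Module.finrank F (Fin 2 → F) = Module.finrank F U :=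
      le_antisymm (LinearMap.finrank_le_finrank_of_injective hinj) (hU2.trans (Module.finrank_fin_fun F).ge)
    intro x hx
    obtain ⟨c, hc⟩ := (LinearMap.injective_iff_surjective_of_finrank_eq_finrank hdim).mp hinj ⟨x, hx⟩
    have := hval c
    rw [hc] at this
    rw [this.1, this.2, ← hL, hc]
  obtain ⟨T, hT⟩ : ∃ T : (Fin 2 → F) →ₗ[F] (Fin 2 → F), ∀ u, T u = slA ψ₁ (G u) :=
    ⟨(slA ψ₁).comp G, fun u => rfl⟩
  have hdec : ∀ u, G u = pt u₁ (T u) + pt u₂ (slA ψ₂ (G u)) := fun u => funext fun ⟨i, j⟩ => by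
    have e := congrFun (hspan _ (hcol u j)) i
    simp only [Pi.add_apply, Pi.smul_apply, smul_eq_mul] at e
    rw [hT, e]
    simp only [pt, slA, LinearMap.coe_mk, AddHom.coe_mk, Pi.add_apply, dotProduct]
    ring
  have hTinj : Function.Injective T := by
    rw [← LinearMap.ker_eq_bot, LinearMap.ker_eq_bot']
    intro u h0
    refine hnp u u₂ (slA ψ₂ (G u)) ?_
    rw [← hG]
    conv_lhs => rw [hdec, h0, pt_zero_right, zero_add]
  obtain ⟨Te, hTe⟩ : ∃ Te : (Fin 2 → F) ≃ₗ[F] (Fin 2 → F), ∀ u, Te u = T u :=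
    ⟨LinearEquiv.ofInjectiveEndo T hTinj, fun u => rfl⟩
  obtain ⟨β, hβ⟩ : ∃ β : Matrix (Fin 2) (Fin 2) F, ∀ u, β *ᵥ T u = slA ψ₂ (G u) :=
    ⟨LinearMap.toMatrix' (((slA ψ₂).comp G).comp Te.symm.toLinearMap), fun u => by
      rw [LinearMap.toMatrix'_mulVec, ← hTe, LinearMap.comp_apply, LinearEquiv.coe_coe, LinearEquiv.symm_apply_apply,
        LinearMap.comp_apply]⟩
  obtain ⟨D, hD⟩ : ∃ D, D = f₁ u₁ u₁ + f₁ u₂ u₂ * β.det := ⟨_, rfl⟩
  have hGT : ∀ u, G u = pt u₁ (T u) + pt u₂ (β *ᵥ T u) := fun u => by rw [hβ, ← hdec]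
  have hpair : ∀ v u, bform f₁ f₂ v (G u) =
      f₂ (slA (gram f₁ *ᵥ u₁) v + β.adjugate *ᵥ slA (gram f₁ *ᵥ u₂) v) (T u) := fun v u => by
    rw [hGT, bform_add_right hl, bform_pt_slA hl hr, bform_pt_slA hl hr, hr.bilinear.add_left]
    congr 1
    rw [hr.skew, alt_adjugate hr, ← hr.skew]
  have hTform : ∀ η u, f₁ z z * f₂ η u = D * f₂ (T η) (T u) := fun η u => by
    rw [← hGform, hGT, hGT]
    simp only [bform_add_left hl, bform_add_right hl, bform_pt_pt hl hr, h12, h21, alt_det hr, hD]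
    ring
  have hD0 : D ≠ 0 := fun e => hz (by
    have := hTform e' (Pi.single 0 1)
    rwa [he', e, zero_mul, mul_one] at this)
  refine ⟨u₂, β, h21, hu₂0, hu₂, fun x hx => ?_, fun x l hx => ?_, hD ▸ hD0,
    fun v => (f₁ z z)⁻¹ • T (slA (gram f₁ *ᵥ z) (g⁻¹.val *ᵥ v)), fun v => ?_, fun v => ?_⟩
  · exact Submodule.mem_span_pair.mpr ⟨_, _, (hspan x hx).symm⟩
  · obtain ⟨u, rfl⟩ : ∃ u, T u = x := ⟨Te.symm x, by rw [← hTe, Te.apply_symm_apply]⟩
    rw [hnp u (u₁ + l • u₂) (T u) (by rw [← hG, hGT, hx, pt_add_left, pt_smul_left, pt_smul_right]), map_zero]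
  · rw [← hD]
    refine eq_of_form hr fun p => ?_
    obtain ⟨u, rfl⟩ : ∃ u, T u = p := ⟨Te.symm p, by rw [← hTe, Te.apply_symm_apply]⟩
    rw [← hpair, hr.bilinear.smul_left, hr.bilinear.smul_left, ← mul_assoc, mul_comm D, mul_assoc, ← hTform,
      inv_mul_cancel_left₀ hz, ← bform_pt_slA hl hr, ← C.sub g hg, Transvec.mulVec_inv_cancel, ← hG]
  · rw [planeInv_apply, ← hG, hGT, mulVec_smul, pt_smul_right, pt_smul_right, ← smul_add, smul_smul,
      div_eq_mul_inv]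

/-- The contractions of a plane are not totally singular. -/
theorem exists_aniso_contr {g : GL (Fin a × Fin 2) F} (hg : g ∈ M) {z : Fin a → F} (hz : f₁ z z ≠ 0)
    {U : Submodule F (Fin a → F)} (hU : ∀ u c, s2 f₂ c (g.val *ᵥ pt z u) ∈ U) : ∃ x ∈ U, f₁ x x ≠ 0 := by
  classical
  have hl := C.left
  have hr := C.right
  have h2 := C.two
  obtain ⟨G, hG⟩ : ∃ G : (Fin 2 → F) →ₗ[F] (Fin a × Fin 2 → F), ∀ u, G u = g.val *ᵥ pt z u :=
    ⟨(Matrix.mulVecLin g.val).comp (ptR z), fun u => rfl⟩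
  have hcol : ∀ u j, (fun i => G u (i, j)) ∈ U := fun u j => by
    obtain ⟨c, hc⟩ := exists_repr hr (Pi.single j (1 : F) : Fin 2 → F)
    have e := hU u c
    rwa [s2, hc, sl_single, ← hG] at e
  have hGform : ∀ u u', bform f₁ f₂ (G u) (G u') = f₁ z z * f₂ u u' := fun u u' => by
    rw [hG, hG, C.sub g hg, bform_pt_pt hl hr]
  obtain ⟨e', he'⟩ := exists_partner_alt hr (show (Pi.single 0 1 : Fin 2 → F) ≠ 0 by simp)
  by_contra hall
  push Not at hall
  have hzero : ∀ p ∈ U, ∀ r ∈ U, f₁ p r = 0 := fun p hp r hr' => by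
    have h := hall (p + r) (add_mem hp hr')
    rw [sym_quad_add hl, hall p hp, hall r hr', zero_add, add_zero] at h
    exact (mul_eq_zero.mp h).resolve_left h2
  have h := hGform e' (Pi.single 0 1)
  rw [he', mul_one] at h
  refine hz (h.symm.trans ?_)
  rw [eq_sum_pt (G (Pi.single 0 1)), bform_sum_right hl]
  refine Finset.sum_eq_zero fun j _ => ?_
  rw [bform_pt hl hr]
  refine hzero _ ?_ _ (hcol _ _)
  rw [hG]
  exact hU _ _

/-- Coordinates of a plane without pure vectors. -/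
theorem plane_coord (ha7 : WittLow f₁) {g : GL (Fin a × Fin 2) F} (hg : g ∈ M) {z : Fin a → F} (hz : f₁ z z ≠ 0)
    (hnp : NoPure g z) :
    ∃ (u₁ u₂ : Fin a → F) (β : Matrix (Fin 2) (Fin 2) F), f₁ u₁ u₁ ≠ 0 ∧ f₁ u₁ u₂ = 0 ∧ u₂ ≠ 0 ∧
      (∀ (x : Fin 2 → F) (l : F), β *ᵥ x = l • x → x = 0) ∧
      f₁ u₁ u₁ + f₁ u₂ u₂ * β.det ≠ 0 ∧
      ∃ γ : (Fin a × Fin 2 → F) → (Fin 2 → F),
        (∀ v, (f₁ u₁ u₁ + f₁ u₂ u₂ * β.det) • γ v =
          slA (gram f₁ *ᵥ u₁) v + β.adjugate *ᵥ slA (gram f₁ *ᵥ u₂) v) ∧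
        ∀ v, (planeInv C g hz).val *ᵥ v = v - (2 : F) • (pt u₁ (γ v) + pt u₂ (β *ᵥ γ v)) := by
  obtain ⟨U, hU2, hU⟩ := contr_plane C ha7 hg hz hnp
  obtain ⟨u₁, hu₁, hq₁⟩ := exists_aniso_contr C hg hz hU
  obtain ⟨u₂, β, h, hu₂, -, -, hrest⟩ := plane_coord_in C hg hz hnp hU2 hU hu₁ hq₁
  exact ⟨u₁, u₂, β, hq₁, h, hu₂, hrest⟩

end CfsgLib.Classical22.TensorMax.SpO
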