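/-
With an alternating factor of dimension two every element of the group is a tensor product.
-/
import Cfsg.Agent.Lib.Classical22.SpOrthTensor.Two

set_option autoImplicit false
set_option maxHeartbeats 800000

namespace CfsgLib.Classical22.TensorMax.SpO

open Matrix Kronecker CfsgLib.Transvec CfsgLib.Classical22.TensorMax.SympO
open scoped MatrixGroups

variable {F : Type*} [Field F]

lemma eigen_indep {β : Matrix (Fin 2) (Fin 2) F} (hβ : ∀ (x : Fin 2 → F) (l : F), β *ᵥ x = l • x → x = 0)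
    {p q : F} {x : Fin 2 → F} (hx : x ≠ 0) (h : p • x + q • (β *ᵥ x) = 0) : p = 0 ∧ q = 0 := by
  have hq : q = 0 := by
    by_contra hq
    refine hx (hβ x (-(q⁻¹ * p)) ?_)
    have e := congrArg (fun w => q⁻¹ • w) h
    simp only [smul_add, smul_smul, inv_mul_cancel₀ hq, one_smul, smul_zero] at e
    rw [neg_smul]
    exact eq_neg_of_add_eq_zero_right e
  rw [hq, zero_smul, add_zero] at h
  exact ⟨(smul_eq_zero.mp h).resolve_right hx, hq⟩

/-- A symplectic transvection moves a matrix without eigenvectors out of its algebra. -/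
lemma exists_moving {f₂ : (Fin 2 → F) → (Fin 2 → F) → F} (hr : Cfsg.Geo.IsSymplecticForm f₂) (h2 : (2 : F) ≠ 0)
    {β : Matrix (Fin 2) (Fin 2) F} (hβ : ∀ (x : Fin 2 → F) (l : F), β *ᵥ x = l • x → x = 0) :
    ∃ B : GL (Fin 2) F, (∀ x y, f₂ (B.val *ᵥ x) (B.val *ᵥ y) = f₂ x y) ∧
      ¬ ∃ s t : F, ∀ y, B.val *ᵥ (β *ᵥ y) = s • (B.val *ᵥ y) + t • (β *ᵥ (B.val *ᵥ y)) := by
  obtain ⟨c, hc⟩ : ∃ c : Fin 2 → F, c ≠ 0 := ⟨Pi.single 0 1, by simp⟩
  obtain ⟨L, hL⟩ : ∃ L : (Fin 2 → F) →ₗ[F] (Fin 2 → F), ∀ x, L x = x + f₂ x c • c :=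
    ⟨{ toFun := fun x => x + f₂ x c • c
       map_add' := fun x y => by rw [hr.bilinear.add_left, add_smul]; abel
       map_smul' := fun t x => by rw [hr.bilinear.smul_left, RingHom.id_apply, smul_add, smul_smul] }, fun x => rfl⟩
  have hform : ∀ x y, f₂ (L x) (L y) = f₂ x y := fun x y => by
    simp only [hL, hr.bilinear.add_left, hr.bilinear.add_right, hr.bilinear.smul_left, hr.bilinear.smul_right,
      hr.alternating, hr.skew y c]
    ring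
  have hinj : Function.Injective L := fun x y h => eq_of_form hr fun p => by
    rw [← hform x, h, hform]
  refine ⟨glOfLin L hinj, fun x y => by rw [glOfLin_mulVec, glOfLin_mulVec, hform], ?_⟩
  rintro ⟨s, t, h⟩
  simp only [glOfLin_mulVec, hL] at h
  obtain ⟨k, hk⟩ : ∃ k, k = f₂ (β *ᵥ c) c := ⟨_, rfl⟩
  have hk0 : k ≠ 0 := fun e => by
    obtain ⟨l, hl⟩ := Submodule.mem_span_singleton.mp (prop_of_alt_zero hr hc (hk.symm.trans e))
    exact hc (hβ c l hl.symm)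
  have h1 := h c
  rw [hr.alternating, zero_smul, add_zero, ← hk] at h1
  have e1 : (k - s) • c + (1 - t) • (β *ᵥ c) = 0 := by linear_combination (norm := module) h1
  obtain ⟨hs, ht⟩ := eigen_indep hβ hc e1
  have h2' := h (β *ᵥ c)
  rw [← sub_eq_zero.mp hs, ← sub_eq_zero.mp ht, one_smul, cayley_two] at h2'
  rw [show f₂ (β.trace • (β *ᵥ c) - β.det • c) c = β.trace * k by
    rw [r_sub_left hr, hr.bilinear.smul_left, hr.bilinear.smul_left, hr.alternating, ← hk, mul_zero, sub_zero],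
    ← hk, mulVec_add, mulVec_smul, cayley_two] at h2'
  have e2 : (β.trace * k - k * k) • c + (-(2 * k)) • (β *ᵥ c) = 0 := by linear_combination (norm := module) h2'
  exact hk0 ((mul_eq_zero.mp (neg_eq_zero.mp (eigen_indep hβ hc e2).2)).resolve_left h2)

variable [Fintype F] {a : ℕ} {f₁ : (Fin a → F) → (Fin a → F) → F}
  {f₂ : (Fin 2 → F) → (Fin 2 → F) → F} {M : Subgroup (GL (Fin a × Fin 2) F)}

lemma slA_conj (hl : Cfsg.Geo.IsSymmetricForm f₁) (hr : Cfsg.Geo.IsSymplecticForm f₂) {h : GL (Fin a × Fin 2) F}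
    (hh : Iso f₁ f₂ h) {A : GL (Fin a) F} {B : GL (Fin 2) F}
    (hact : ∀ x u, h.val *ᵥ pt x u = pt (A.val *ᵥ x) (B.val *ᵥ u))
    (hB : ∀ x y, f₂ (B.val *ᵥ x) (B.val *ᵥ y) = f₂ x y) (u : Fin a → F) (v : Fin a × Fin 2 → F) :
    slA (gram f₁ *ᵥ (A.val *ᵥ u)) (h.val *ᵥ v) = B.val *ᵥ slA (gram f₁ *ᵥ u) v := eq_of_form hr fun p => by
  rw [← Transvec.mulVec_inv_cancel B p, ← bform_pt_slA hl hr, ← hact, hh, bform_pt_slA hl hr, hB]

variable (C : Ctx f₁ f₂ M)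
include C

/-- Two planes built from a moved copy lead to a contradiction. -/
theorem plane_contra (ha7 : WittLow f₁) {g : GL (Fin a × Fin 2) F} (hg : g ∈ M) {z : Fin a → F} (hz : f₁ z z ≠ 0)
    {u₁ u₂ : Fin a → F} {β : Matrix (Fin 2) (Fin 2) F}
    (hβ : ∀ (x : Fin 2 → F) (l : F), β *ᵥ x = l • x → x = 0) (hD : f₁ u₁ u₁ + f₁ u₂ u₂ * β.det ≠ 0)
    {γ : (Fin a × Fin 2 → F) → (Fin 2 → F)}
    (hγ : ∀ v, (f₁ u₁ u₁ + f₁ u₂ u₂ * β.det) • γ v =
      slA (gram f₁ *ᵥ u₁) v + β.adjugate *ᵥ slA (gram f₁ *ᵥ u₂) v)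
    (hy : ∀ v, (planeInv C g hz).val *ᵥ v = v - (2 : F) • (pt u₁ (γ v) + pt u₂ (β *ᵥ γ v)))
    (hq₁ : f₁ u₁ u₁ ≠ 0) (h12 : f₁ u₁ u₂ = 0)
    {u₃ w : Fin a → F} {A : GL (Fin a) F} (hA : ∀ x y, f₁ (A.val *ᵥ x) (A.val *ᵥ y) = f₁ x y)
    (hA1 : A.val *ᵥ u₁ = u₁) (hA2 : A.val *ᵥ u₂ = u₃) (h13 : f₁ u₁ u₃ = 0) (h23 : f₁ u₂ u₃ = 0)
    (hw1 : f₁ w u₁ = 1) (hw2 : f₁ w u₂ = 1) (hw3 : f₁ w u₃ = 0) (hqw : f₁ w w ≠ 0)
    {p : Fin 3 → (Fin a → F)}
    (hp : p 0 ⬝ᵥ w = 1 ∧ p 0 ⬝ᵥ u₁ = 0 ∧ p 0 ⬝ᵥ u₂ = 0 ∧ p 0 ⬝ᵥ u₃ = 0 ∧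
      p 1 ⬝ᵥ w = 0 ∧ p 1 ⬝ᵥ u₁ = 0 ∧ p 1 ⬝ᵥ u₂ = 1 ∧ p 1 ⬝ᵥ u₃ = 0 ∧
      p 2 ⬝ᵥ w = 0 ∧ p 2 ⬝ᵥ u₁ = 0 ∧ p 2 ⬝ᵥ u₂ = 0 ∧ p 2 ⬝ᵥ u₃ = 1) : False := by
  classical
  have hl := C.left
  have hr := C.right
  have h2 := C.two
  obtain ⟨hp0w, hp01, hp02, hp03, hp1w, hp11, hp12, hp13, hp2w, hp21, hp22, hp23⟩ := hp
  obtain ⟨B, hB, hmov⟩ := exists_moving hr h2 hβ
  obtain ⟨D, hDdef⟩ : ∃ D, D = f₁ u₁ u₁ + f₁ u₂ u₂ * β.det := ⟨_, rfl⟩
  rw [← hDdef] at hD hγ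
  obtain ⟨h, hhdef⟩ : ∃ h, h = kr A B := ⟨_, rfl⟩
  have hhM : h ∈ M := hhdef ▸ kr_mem C (m := 1) (n := 1) (fun x y => by rw [hA, one_mul])
    (fun x y => by rw [hB, one_mul]) (one_mul 1)
  have hhact : ∀ x u, h.val *ᵥ pt x u = pt (A.val *ᵥ x) (B.val *ᵥ u) := fun x u => by rw [hhdef, kr_apply]
  obtain ⟨y, hydef⟩ : ∃ y, y = planeInv C g hz := ⟨_, rfl⟩
  have hyM : y ∈ M := hydef ▸ planeInv_mem C hg hz
  rw [← hydef] at hy
  obtain ⟨σ, hσdef⟩ : ∃ σ, σ = h * y * h⁻¹ * y := ⟨_, rfl⟩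
  have hσM : σ ∈ M := hσdef ▸ mul_mem (mul_mem (mul_mem hhM hyM) (inv_mem hhM)) hyM
  obtain ⟨γ₁, hγ₁⟩ : ∃ γ₁ : (Fin 2 → F) → (Fin 2 → F), ∀ x, γ₁ x = γ (pt w x) := ⟨_, fun x => rfl⟩
  obtain ⟨γ₃, hγ₃⟩ : ∃ γ₃ : (Fin 2 → F) → (Fin 2 → F), ∀ x, γ₃ x = γ (h⁻¹.val *ᵥ (y.val *ᵥ pt w x)) :=
    ⟨_, fun x => rfl⟩
  have hσ : ∀ x, σ.val *ᵥ pt w x = pt w x - (2 : F) • (pt u₁ (γ₁ x) + pt u₂ (β *ᵥ γ₁ x)) -
      (2 : F) • (pt u₁ (B.val *ᵥ γ₃ x) + pt u₃ (B.val *ᵥ (β *ᵥ γ₃ x))) := fun x => by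
    rw [hσdef]; simp only [Units.val_mul, ← mulVec_mulVec]; rw [hy (h⁻¹.val *ᵥ _),
      mulVec_sub, mulVec_smul, mulVec_add, hhact, hhact, Transvec.mulVec_inv_cancel, hA1, hA2, ← hγ₃, hy, ← hγ₁]
  have e1 : ∀ x, D • γ₁ x = x + β.adjugate *ᵥ x := fun x => by
    rw [hγ₁, hγ, slA_pt, slA_pt, ← sym_dot hl, ← sym_dot hl, hw1, hw2, one_smul]
  have hsl : ∀ u x, slA (gram f₁ *ᵥ u) (y.val *ᵥ pt w x) =
      f₁ w u • x - (2 * f₁ u₁ u) • γ₁ x - (2 * f₁ u₂ u) • (β *ᵥ γ₁ x) := fun u x => by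
    rw [hy, ← hγ₁, map_sub, map_smul, map_add, slA_pt, slA_pt, slA_pt, ← sym_dot hl, ← sym_dot hl, ← sym_dot hl]
    module
  have e3 : ∀ x, D • (B.val *ᵥ γ₃ x) = x - (2 * f₁ u₁ u₁) • γ₁ x := fun x => by
    have c1 := slA_conj hl hr (C.sub h hhM) hhact hB u₁ (h⁻¹.val *ᵥ (y.val *ᵥ pt w x))
    have c2 := slA_conj hl hr (C.sub h hhM) hhact hB u₂ (h⁻¹.val *ᵥ (y.val *ᵥ pt w x))
    rw [hA1, Transvec.mulVec_inv_cancel, hsl, hw1, hl.symm u₂ u₁, h12, mul_zero, zero_smul, sub_zero, one_smul] at c1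
    rw [hA2, Transvec.mulVec_inv_cancel, hsl, hw3, h13, h23, eq_comm] at c2
    simp only [mul_zero, zero_smul, sub_zero] at c2
    have c2' : slA (gram f₁ *ᵥ u₂) (h⁻¹.val *ᵥ (y.val *ᵥ pt w x)) = 0 := mulVec_injective B (by simpa using c2)
    rw [← mulVec_smul, hγ₃, hγ, c2', mulVec_zero, add_zero, c1]
  -- no pure vectors
  have hnpσ : NoPure σ w := fun x q c hq => by
    rw [hσ] at hq
    have a0 := congrArg (slA (p 0)) hq
    have a1 := congrArg (slA (p 1)) hq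
    simp only [map_sub, map_smul, map_add, slA_pt, hp0w, hp01, hp02, hp03, one_smul, zero_smul, add_zero,
      smul_zero, sub_zero] at a0
    simp only [map_sub, map_smul, map_add, slA_pt, hp1w, hp11, hp12, hp13, one_smul, zero_smul, add_zero, zero_add,
      smul_zero, sub_zero, zero_sub] at a1
    by_cases h0 : p 0 ⬝ᵥ q = 0
    · rw [a0, h0, zero_smul]
    · obtain ⟨l, hl'⟩ : ∃ l : F, β *ᵥ γ₁ x = l • x := ⟨-((2 : F)⁻¹ * ((p 1 ⬝ᵥ q) * (p 0 ⬝ᵥ q)⁻¹)), by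
        have hc : c = (p 0 ⬝ᵥ q)⁻¹ • x := by rw [a0, inv_smul_smul₀ h0]
        rw [neg_smul, ← smul_smul, ← smul_smul, ← hc, ← a1, smul_neg, neg_neg, inv_smul_smul₀ h2]⟩
      refine hβ x (D * l - β.det) ?_
      have e := congrArg (fun v => β *ᵥ v) (e1 x)
      simp only [mulVec_smul, hl', mulVec_add, mulVec_mulVec, mul_adjugate, smul_mulVec, one_mulVec] at e
      rw [sub_smul, eq_sub_iff_add_eq, ← smul_smul, e]
  -- the linear relation
  obtain ⟨U, hU2, hU⟩ := contr_plane C ha7 hσM hqw hnpσ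
  obtain ⟨T, hT⟩ : ∃ T : (Fin 3 → F) →ₗ[F] Module.Dual F U, ∀ k (s : U), T k s = (∑ i, k i • p i) ⬝ᵥ s.1 :=
    ⟨{ toFun := fun k =>
        { toFun := fun s => (∑ i, k i • p i) ⬝ᵥ s.1
          map_add' := fun s t => dotProduct_add _ _ _
          map_smul' := fun c s => dotProduct_smul _ _ _ }
       map_add' := fun k k' => LinearMap.ext fun s => by
         simp [add_smul, Finset.sum_add_distrib, add_dotProduct]
       map_smul' := fun c k => LinearMap.ext fun s => by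
         simp [mul_smul, ← Finset.smul_sum, smul_dotProduct] }, fun k s => rfl⟩
  obtain ⟨k, hk, hk0⟩ := exists_ne_zero_of_finrank_lt T (by
    rw [Subspace.dual_finrank_eq, Module.finrank_fin_fun]; omega)
  have hrel : ∀ x, (k 0 * D) • x - (2 * k 1) • (β *ᵥ x + β.det • x) -
      (2 * k 2 * D) • (B.val *ᵥ (β *ᵥ γ₃ x)) = 0 := fun x => by
    have e : slA (∑ i, k i • p i) (σ.val *ᵥ pt w x) = 0 := eq_of_form hr fun c => by
      have h0 := LinearMap.congr_fun hk0 ⟨_, hU x c⟩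
      rw [hT, LinearMap.zero_apply] at h0
      rw [r_zero_left hr, form_eq_dot hr, ← dot_sl_slA]
      exact h0
    rw [hσ] at e
    simp only [map_sub, map_smul, map_add, slA_pt, add_dotProduct, smul_dotProduct, Fin.sum_univ_three, hp0w, hp01,
      hp02, hp03, hp1w, hp11, hp12, hp13, hp2w, hp21, hp22, hp23, smul_eq_mul] at e
    have eb : D • (β *ᵥ γ₁ x) = β *ᵥ x + β.det • x := by
      rw [← mulVec_smul, e1, mulVec_add, mulVec_mulVec, mul_adjugate, smul_mulVec, one_mulVec]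
    rw [← eb]
    linear_combination (norm := module) D • e
  obtain ⟨x₁, hx₁⟩ : ∃ x : Fin 2 → F, x ≠ 0 := ⟨Pi.single 0 1, by simp⟩
  by_cases hk2 : k 2 = 0
  · have e := hrel x₁
    rw [hk2, mul_zero, zero_mul, zero_smul, sub_zero] at e
    have e' : (k 0 * D - 2 * k 1 * β.det) • x₁ + (-(2 * k 1)) • (β *ᵥ x₁) = 0 := by
      linear_combination (norm := module) e
    obtain ⟨h0, h1⟩ := eigen_indep hβ hx₁ e'
    have hk1 : k 1 = 0 := (mul_eq_zero.mp (neg_eq_zero.mp h1)).resolve_left h2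
    have hk00 : k 0 = 0 := (mul_eq_zero.mp (show k 0 * D = 0 by linear_combination h0 + 2 * β.det * hk1)).resolve_right hD
    exact hk (funext fun i => by fin_cases i <;> simp [hk00, hk1, hk2])
  obtain ⟨s₀, hs₀⟩ : ∃ s₀, s₀ = D - 2 * f₁ u₁ u₁ * (1 + β.trace) := ⟨_, rfl⟩
  obtain ⟨t₀, ht₀⟩ : ∃ t₀, t₀ = 2 * f₁ u₁ u₁ := ⟨_, rfl⟩
  have ht00 : t₀ ≠ 0 := ht₀ ▸ mul_ne_zero h2 hq₁
  have hΓ : ∀ x, (D * D) • (B.val *ᵥ γ₃ x) = s₀ • x + t₀ • (β *ᵥ x) := fun x => by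
    rw [← smul_smul, e3, smul_sub, smul_comm, e1, adjugate_two_mulVec, hs₀, ht₀]
    module
  obtain ⟨N, hN⟩ : ∃ N, N = s₀ * (s₀ + t₀ * β.trace) + t₀ * t₀ * β.det := ⟨_, rfl⟩
  have hΓinv : ∀ q : Fin 2 → F, s₀ • ((s₀ + t₀ * β.trace) • q - t₀ • (β *ᵥ q)) +
      t₀ • (β *ᵥ ((s₀ + t₀ * β.trace) • q - t₀ • (β *ᵥ q))) = N • q := fun q => by
    rw [mulVec_sub, mulVec_smul, mulVec_smul, cayley_two, hN]
    module
  have hN0 : N ≠ 0 := fun hN0 => by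
    have e := hΓinv x₁
    rw [hN0, zero_smul] at e
    by_cases hq : (s₀ + t₀ * β.trace) • x₁ - t₀ • (β *ᵥ x₁) = 0
    · exact ht00 (neg_eq_zero.mp (eigen_indep hβ hx₁ (p := s₀ + t₀ * β.trace) (q := -t₀)
        (by rw [neg_smul, ← sub_eq_add_neg, hq])).2)
    · exact ht00 (eigen_indep hβ hq e).2
  obtain ⟨α, hα⟩ : ∃ α, α = (k 0 * D - 2 * k 1 * β.det) / (2 * k 2) := ⟨_, rfl⟩
  obtain ⟨α', hα'⟩ : ∃ α', α' = -(2 * k 1) / (2 * k 2) := ⟨_, rfl⟩
  refine hmov ⟨D⁻¹ * (D * D * N⁻¹) * (α * (s₀ + t₀ * β.trace) + α' * t₀ * β.det),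
    D⁻¹ * (D * D * N⁻¹) * (-(α * t₀) + α' * s₀), fun v => ?_⟩
  obtain ⟨x, hx⟩ : ∃ x, x = (D * D * N⁻¹) • ((s₀ + t₀ * β.trace) • (B.val *ᵥ v) - t₀ • (β *ᵥ (B.val *ᵥ v))) :=
    ⟨_, rfl⟩
  have hxv : γ₃ x = v := mulVec_injective B (smul_right_injective _ (mul_ne_zero hD hD) (by
    simp only
    rw [hΓ, hx, smul_comm s₀, mulVec_smul, smul_comm t₀, ← smul_add, hΓinv, smul_smul, mul_assoc,
      inv_mul_cancel₀ hN0, mul_one]))
  have hk22 : 2 * k 2 ≠ 0 := mul_ne_zero h2 hk2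
  have e : D • (B.val *ᵥ (β *ᵥ v)) = α • x + α' • (β *ᵥ x) := by
    have h := hrel x
    rw [hxv] at h
    refine smul_right_injective _ hk22 ?_
    simp only
    rw [smul_add, smul_smul, smul_smul, smul_smul, hα, hα', mul_div_cancel₀ _ hk22, mul_div_cancel₀ _ hk22]
    linear_combination (norm := module) (-1 : F) • h
  rw [← inv_smul_smul₀ hD (B.val *ᵥ (β *ᵥ v)), e, hx, mulVec_smul, mulVec_sub, mulVec_smul, mulVec_smul, cayley_two]
  module

/-- A singular second vector leads to an element fixing a pure line of fibres without being a tensor product. -/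
theorem singular_contra {g : GL (Fin a × Fin 2) F} (hg : g ∈ M) {z : Fin a → F} (hz : f₁ z z ≠ 0)
    {u₁ u₂ : Fin a → F} {β : Matrix (Fin 2) (Fin 2) F}
    (hβ : ∀ (x : Fin 2 → F) (l : F), β *ᵥ x = l • x → x = 0) (hD : f₁ u₁ u₁ + f₁ u₂ u₂ * β.det ≠ 0)
    {γ : (Fin a × Fin 2 → F) → (Fin 2 → F)}
    (hγ : ∀ v, (f₁ u₁ u₁ + f₁ u₂ u₂ * β.det) • γ v =
      slA (gram f₁ *ᵥ u₁) v + β.adjugate *ᵥ slA (gram f₁ *ᵥ u₂) v)
    (hy : ∀ v, (planeInv C g hz).val *ᵥ v = v - (2 : F) • (pt u₁ (γ v) + pt u₂ (β *ᵥ γ v)))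
    (h12 : f₁ u₁ u₂ = 0) (hu₂ : u₂ ≠ 0) (hq₂ : f₁ u₂ u₂ = 0) : False := by
  classical
  have hl := C.left
  have hr := C.right
  have h2 := C.two
  have hq₁ : f₁ u₁ u₁ ≠ 0 := by simpa [hq₂] using hD
  obtain ⟨q, hq⟩ : ∃ q, q = f₁ u₁ u₁ := ⟨_, rfl⟩
  have hq0 : q ≠ 0 := hq ▸ hq₁
  have h21 : f₁ u₂ u₁ = 0 := by rw [hl.symm, h12]
  obtain ⟨r, hrdef⟩ : ∃ r, r = slA (b := 2) (gram f₁ *ᵥ u₁) := ⟨_, rfl⟩
  obtain ⟨s, hsdef⟩ : ∃ s, s = slA (b := 2) (gram f₁ *ᵥ u₂) := ⟨_, rfl⟩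
  have hγ' : ∀ v, γ v = q⁻¹ • (r v + β.adjugate *ᵥ s v) := fun v => by
    have e := hγ v
    rw [hq₂, zero_mul, add_zero, ← hq, ← hrdef, ← hsdef] at e
    rw [← e, inv_smul_smul₀ hq0]
  obtain ⟨y, hydef⟩ : ∃ y, y = planeInv C g hz := ⟨_, rfl⟩
  have hyM : y ∈ M := hydef ▸ planeInv_mem C hg hz
  rw [← hydef] at hy
  have hrpt : ∀ x w, r (pt x w) = f₁ x u₁ • w := fun x w => by rw [hrdef, slA_pt, ← sym_dot hl]
  have hspt : ∀ x w, s (pt x w) = f₁ x u₂ • w := fun x w => by rw [hsdef, slA_pt, ← sym_dot hl]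
  -- a shear of the first factor
  have hq' : f₁ ((2 : F) • u₁ + u₂) ((2 : F) • u₁ + u₂) = 2 * 2 * q := by
    rw [sym_quad_add hl, sym_quad_smul hl, hl.bilinear.smul_left, h12, hq₂, ← hq]; ring
  have hq'0 : f₁ ((2 : F) • u₁ + u₂) ((2 : F) • u₁ + u₂) ≠ 0 := hq' ▸ mul_ne_zero (mul_ne_zero h2 h2) hq0
  obtain ⟨A, hAdef⟩ : ∃ A, A = unitOf (refl f₁ ((2 : F) • u₁ + u₂)) (refl f₁ ((2 : F) • u₁ + u₂))
      (refl_mul_self hl hq'0) * unitOf (refl f₁ u₁) (refl f₁ u₁) (refl_mul_self hl hq₁) := ⟨_, rfl⟩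
  have hAv : ∀ x, A.val *ᵥ x = refl f₁ ((2 : F) • u₁ + u₂) *ᵥ (refl f₁ u₁ *ᵥ x) := fun x => by
    rw [hAdef, Units.val_mul, ← mulVec_mulVec]; rfl
  have hA : ∀ x x', f₁ (A.val *ᵥ x) (A.val *ᵥ x') = f₁ x x' := fun x x' => by
    rw [hAv, hAv, refl_iso hl hq'0, refl_iso hl hq₁]
  have hA2 : A.val *ᵥ u₂ = u₂ := by
    rw [hAv, refl_fix hl h21, refl_fix hl (by rw [hl.bilinear.add_right, hl.bilinear.smul_right, h21, hq₂]; ring)]
  have hA1 : A.val *ᵥ u₁ = u₁ + u₂ := by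
    rw [hAv, refl_mulVec hl u₁ u₁, div_mul_cancel₀ _ hq₁, refl_mulVec hl, hq', hl.bilinear.add_right,
      hl.bilinear.smul_right, sym_sub_left hl, sym_sub_left hl, hl.bilinear.smul_left, hl.bilinear.smul_left, h12,
      ← hq, show 2 / (2 * 2 * q) * (2 * (q - 2 * q) + (0 - 2 * 0)) = (-1 : F) by field_simp; ring]
    module
  obtain ⟨h, hhdef⟩ : ∃ h, h = kr A 1 := ⟨_, rfl⟩
  have hB1 : ∀ x x', f₂ ((1 : GL (Fin 2) F).val *ᵥ x) ((1 : GL (Fin 2) F).val *ᵥ x') = f₂ x x' := fun x x' => by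
    rw [Units.val_one, one_mulVec, one_mulVec]
  have hhM : h ∈ M := hhdef ▸ kr_mem C (m := 1) (n := 1) (fun x x' => by rw [hA, one_mul])
    (fun x x' => by rw [hB1, one_mul]) (one_mul 1)
  have hhact : ∀ x u, h.val *ᵥ pt x u = pt (A.val *ᵥ x) ((1 : GL (Fin 2) F).val *ᵥ u) := fun x u => by
    rw [hhdef, kr_apply]
  obtain ⟨σ, hσdef⟩ : ∃ σ, σ = h * y * h⁻¹ * y := ⟨_, rfl⟩
  have hσM : σ ∈ M := hσdef ▸ mul_mem (mul_mem (mul_mem hhM hyM) (inv_mem hhM)) hyM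
  obtain ⟨Δ, hΔdef⟩ : ∃ Δ, Δ = β - β.adjugate := ⟨_, rfl⟩
  have slA_add_coef : ∀ (ψ φ : Fin a → F) (v : Fin a × Fin 2 → F), slA ψ v + slA φ v = slA (ψ + φ) v := fun ψ φ v =>
    funext fun j => by simp [slA, add_mul, Finset.sum_add_distrib]
  have hσ : ∀ v, σ.val *ᵥ v =
      v + (-(2 / q)) • (pt u₁ (s v) + pt u₂ (Δ *ᵥ s v + s v - r v)) := fun v => by
    have c1 := slA_conj hl hr (C.sub h hhM) hhact hB1 u₁ (h⁻¹.val *ᵥ (y.val *ᵥ v))
    have c2 := slA_conj hl hr (C.sub h hhM) hhact hB1 u₂ (h⁻¹.val *ᵥ (y.val *ᵥ v))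
    rw [Transvec.mulVec_inv_cancel, hA1, Units.val_one, one_mulVec, mulVec_add, ← slA_add_coef] at c1
    rw [Transvec.mulVec_inv_cancel, hA2, Units.val_one, one_mulVec] at c2
    rw [← hrdef, ← hsdef] at c1
    rw [← hsdef] at c2
    have es : s (y.val *ᵥ v) = s v := by
      rw [hy, map_sub, map_smul, map_add, hspt, hspt, h12, hq₂, zero_smul, zero_smul, add_zero, smul_zero, sub_zero]
    have er : r (y.val *ᵥ v) = r v - (2 * q) • γ v := by
      rw [hy, map_sub, map_smul, map_add, hrpt, hrpt, h21, ← hq, zero_smul, add_zero, smul_smul]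
    rw [es] at c2 c1
    rw [er] at c1
    rw [hσdef]; simp only [Units.val_mul, ← mulVec_mulVec]
    rw [hy (h⁻¹.val *ᵥ _), mulVec_sub, mulVec_smul, mulVec_add, hhact, hhact, Transvec.mulVec_inv_cancel, hA1, hA2,
      Units.val_one, one_mulVec, one_mulVec, hy, hγ' (h⁻¹.val *ᵥ _), ← hy, ← c1, ← c2, hy, hγ', hΔdef]
    simp only [mulVec_add, mulVec_smul, mulVec_sub, mulVec_mulVec, sub_mulVec, mul_adjugate, smul_mulVec, one_mulVec,
      pt_add_left, pt_add_right, pt_smul_right, pt_sub_right]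
    match_scalars <;> field_simp <;> ring
  -- conjugating by root elements of the second factor
  obtain ⟨e, he⟩ : ∃ e : Fin 2 → F, e ≠ 0 := ⟨Pi.single 0 1, by simp⟩
  obtain ⟨e', he'⟩ := exists_partner_alt hr he
  obtain ⟨k, hk⟩ : ∃ k, k = root (a := a) hr e 1 := ⟨_, rfl⟩
  obtain ⟨T, hT⟩ : ∃ T : F → (Fin 2 → F) → (Fin 2 → F), ∀ c x, T c x = x + c • f₂ x e • e := ⟨_, fun c x => rfl⟩
  have hroot : ∀ c x u, (root a hr e c).val *ᵥ pt x u = pt x (T c u) := fun c x u => by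
    rw [root_apply hr, s2p hr, hT, pt_smul_left, pt_add_right, pt_smul_right, pt_smul_right]
  obtain ⟨D, hDdef⟩ : ∃ D : F → (Fin 2 → F) → (Fin 2 → F),
      ∀ c x, D c x = -(2 / q) • (T c (Δ *ᵥ T (-c) x) - Δ *ᵥ x) := ⟨_, fun c x => rfl⟩
  have hN : ∀ c, ∃ N ∈ M, ∀ v, N.val *ᵥ v = v + pt u₂ (D c (s v)) := fun c => by
    have hTinv : ∀ x, T c (T (-c) x) = x := fun x => by
      simp only [hT, hr.bilinear.add_left, hr.bilinear.smul_left, hr.alternating]; module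
    obtain ⟨p, hp⟩ : ∃ p, p = root (a := a) hr e c := ⟨_, rfl⟩
    have hpM : p ∈ M := hp ▸ root_mem C e c
    refine ⟨σ⁻¹ * (p * σ * p⁻¹), mul_mem (inv_mem hσM) (mul_mem (mul_mem hpM hσM) (inv_mem hpM)), fun v => ?_⟩
    refine mulVec_injective σ ?_
    have hps : ∀ (u : Fin a → F) v, slA (gram f₁ *ᵥ u) (p.val *ᵥ v) = T c (slA (gram f₁ *ᵥ u) v) := fun u v => by
      rw [hp, root_apply hr, map_add, map_smul, hT, slA_pt, s2, dot_sl_slA, ← form_eq_dot hr]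
    have hs' : s v = T c (s (p⁻¹.val *ᵥ v)) := by
      rw [hsdef, ← hps, Transvec.mulVec_inv_cancel]
    have hr' : r v = T c (r (p⁻¹.val *ᵥ v)) := by
      rw [hrdef, ← hps, Transvec.mulVec_inv_cancel]
    have hs'' : T (-c) (s v) = s (p⁻¹.val *ᵥ v) := by
      rw [hs']; simp only [hT, hr.bilinear.add_left, hr.bilinear.smul_left, hr.alternating]; module
    simp only [Units.val_mul, ← mulVec_mulVec, Transvec.mulVec_inv_cancel]
    rw [hσ (p⁻¹.val *ᵥ v), mulVec_add, mulVec_smul, mulVec_add, Transvec.mulVec_inv_cancel, hp, hroot, hroot, ← hp,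
      mulVec_add, hσ v, hσ (pt u₂ _), hrpt, hspt, h21, hq₂, hDdef, hs'']
    simp only [hT, hs', hr', zero_smul, mulVec_zero, pt_zero_right, hr.bilinear.add_left, hr.bilinear.smul_left,
      r_sub_left hr, hr.alternating, smul_zero, add_zero, sub_zero, pt_add_right, pt_sub_right, pt_smul_right]
    module
  obtain ⟨N₁, hN₁, hN₁v⟩ := hN 1
  obtain ⟨N₂, hN₂, hN₂v⟩ := hN (-1)
  have hKv : ∀ x w, (N₁ * N₂).val *ᵥ pt x w = pt x w + f₁ x u₂ • pt u₂ (D 1 w + D (-1) w) := fun x w => by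
    simp only [Units.val_mul, ← mulVec_mulVec]
    rw [hN₂v, mulVec_add, hN₁v, hN₁v, hspt, hspt, hq₂, zero_smul]
    simp only [hDdef, hT, hr.bilinear.smul_left, hr.bilinear.add_left, r_zero_left hr, mulVec_smul, mulVec_zero, mulVec_add, smul_zero,
      add_zero, sub_zero, zero_smul, pt_zero_right, pt_add_right, pt_sub_right, pt_smul_right]
    module
  have hfe : f₂ (Δ *ᵥ e) e ≠ 0 := fun h0 => by
    obtain ⟨l, hl'⟩ := Submodule.mem_span_singleton.mp (prop_of_alt_zero hr he h0)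
    refine he (hβ e ((l + β.trace) / 2) ?_)
    rw [hΔdef, sub_mulVec, adjugate_two_mulVec] at hl'
    rw [div_eq_inv_mul, ← smul_smul, add_smul, hl']
    match_scalars <;> field_simp <;> ring
  have hDe : D 1 e + D (-1) e = 0 := by
    simp only [hDdef, hT, hr.alternating, zero_smul, smul_zero, add_zero]; module
  have hDe' : D 1 e' + D (-1) e' = (2 / q * (2 * f₂ (Δ *ᵥ e) e)) • e := by
    simp only [hDdef, hT, he', mulVec_add, mulVec_smul, hr.bilinear.add_left, hr.bilinear.smul_left]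
    module
  have hfix : ∀ x, ∃ x', (N₁ * N₂).val *ᵥ pt x e = pt x' e := fun x => ⟨x, by
    rw [hKv, hDe, pt_zero_right, smul_zero, add_zero]⟩
  obtain ⟨A', B', hAB⟩ := isKron_apply (kron_of_fix C (mul_mem hN₁ hN₂) he hfix)
  obtain ⟨p₀, hp₀⟩ : ∃ p₀, f₁ p₀ u₂ ≠ 0 := by
    by_contra hc
    push Not at hc
    exact hu₂ (sym_eq hl (y := (0 : Fin a → F)) fun p => by rw [sym_zero_left hl, hl.symm, hc])
  have hp : u₂ ∉ Submodule.span F {p₀} := fun hm => by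
    obtain ⟨l, hl'⟩ := Submodule.mem_span_singleton.mp hm
    rw [← hl', hl.bilinear.smul_left, hl.bilinear.smul_right, mul_eq_zero] at hq₂
    rcases hq₂ with h0 | h0
    · exact hu₂ (by rw [← hl', h0, zero_smul])
    · rw [← hl', hl.bilinear.smul_right, h0] at hp₀; exact hp₀ rfl
  obtain ⟨φ, hφ, hφ1⟩ := exists_functional hp
  have hp' : p₀ ∉ Submodule.span F {u₂} := fun hm => by
    obtain ⟨l, hl'⟩ := Submodule.mem_span_singleton.mp hm
    exact hp₀ (by rw [← hl', hl.bilinear.smul_left, hq₂, mul_zero])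
  obtain ⟨ψ, hψ, hψ1⟩ := exists_functional hp'
  have e0 := hKv p₀ e'
  rw [hAB, hDe', ← pt_smul_right, smul_smul] at e0
  have e1 := congrArg (slA φ) e0
  have e2 := congrArg (slA ψ) e0
  rw [map_add, slA_pt, slA_pt, slA_pt, hφ _ (Submodule.mem_span_singleton_self p₀), hφ1, zero_smul, one_smul,
    zero_add] at e1
  rw [map_add, slA_pt, slA_pt, slA_pt, hψ _ (Submodule.mem_span_singleton_self u₂), hψ1, zero_smul, one_smul,
    add_zero] at e2
  have hc0 : f₁ p₀ u₂ * (2 / q * (2 * f₂ (Δ *ᵥ e) e)) ≠ 0 :=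
    mul_ne_zero hp₀ (mul_ne_zero (div_ne_zero h2 hq0) (mul_ne_zero h2 hfe))
  have e3 := congrArg (fun v => f₂ v e) e1
  have e4 := congrArg (fun v => f₂ v e) e2
  simp only [hr.bilinear.smul_left, hr.alternating, mul_zero, he'] at e3 e4
  rcases mul_eq_zero.mp e3 with h0 | h0
  · rw [h0, zero_smul] at e1
    exact smul_ne_zero hc0 he e1.symm
  · rw [h0, mul_zero] at e4
    exact one_ne_zero e4.symm

/-- Every image of an anisotropic line times the second factor is of that shape. -/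
theorem plane_pure (ha7 : WittLow f₁) {g : GL (Fin a × Fin 2) F} (hg : g ∈ M) {z : Fin a → F} (hz : f₁ z z ≠ 0) :
    ∃ d, ∀ u, ∃ w, g.val *ᵥ pt z u = pt d w := by
  classical
  have hl := C.left
  have hr := C.right
  have h2 := C.two
  by_cases hnp : NoPure g z
  swap
  · exact plane_of_pure C hg hz hnp
  exfalso
  have ha4' : 4 ≤ a := ha7.1
  obtain ⟨u₁, u₂, β, hq₁, h12, hu₂, hβ, hD, γ, hγ, hy⟩ := plane_coord C ha7 hg hz hnp
  have hnd₁ := nd_perpIn hl (nd_top hl) (Submodule.mem_top (x := u₁)) hq₁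
  have hd₁ := finrank_perpIn hl ⊤ u₁
  rw [finrank_top, Module.finrank_fin_fun] at hd₁
  have h21 : f₁ u₂ u₁ = 0 := by rw [hl.symm, h12]
  have hu₂1 : u₂ ∈ perpIn f₁ ⊤ u₁ := (mem_perpIn hl).mpr ⟨trivial, h21⟩
  by_cases hq₂ : f₁ u₂ u₂ = 0
  · exact singular_contra C hg hz hβ hD hγ hy h12 hu₂ hq₂
  · -- anisotropic second vector
    have hnd₂ := nd_perpIn hl hnd₁ hu₂1 hq₂
    have hd₂ := finrank_perpIn hl (perpIn f₁ ⊤ u₁) u₂
    obtain ⟨u₃, hu₃, hq₃⟩ := exists_value hl h2 hnd₂ (by omega) (f₁ u₂ u₂)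
    have hd₃ := finrank_perpIn hl (perpIn f₁ (perpIn f₁ ⊤ u₁) u₂) u₃
    have hnd₃ := nd_perpIn hl hnd₂ hu₃ (hq₃ ▸ hq₂)
    obtain ⟨s, hs⟩ : ∃ s, s = (f₁ u₁ u₁)⁻¹ + (f₁ u₂ u₂)⁻¹ := ⟨_, rfl⟩
    obtain ⟨r, c, hr0, hrs, hc, hcq⟩ : ∃ r c, r ≠ 0 ∧ s + r ≠ 0 ∧
        c ∈ perpIn f₁ (perpIn f₁ (perpIn f₁ ⊤ u₁) u₂) u₃ ∧ f₁ c c = r := by
      obtain ⟨ha4, hts⟩ := ha7
      rcases Nat.lt_or_ge a 5 with ha5 | ha5
      swap
      · by_cases h : s = 0
        · obtain ⟨c, hc, hcq⟩ := exists_value hl h2 hnd₃ (by omega) (1 : F)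
          exact ⟨1, c, one_ne_zero, by rw [h, zero_add]; exact one_ne_zero, hc, hcq⟩
        · obtain ⟨c, hc, hcq⟩ := exists_value hl h2 hnd₃ (by omega) s
          exact ⟨s, c, h, by rw [← two_mul]; exact mul_ne_zero h2 h, hc, hcq⟩
      obtain ⟨c, hc, hq₄⟩ := exists_aniso hl h2 hnd₃ (by omega)
      by_cases h0 : s + f₁ c c = 0
      swap
      · exact ⟨_, c, hq₄, h0, hc, rfl⟩
      by_cases hall : ∀ t : F, t ≠ 0 → t * t = 1
      swap
      · push Not at hall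
        obtain ⟨t, ht0, ht⟩ := hall
        exact ⟨_, t • c, mul_ne_zero (mul_ne_zero ht0 ht0) hq₄,
          fun e => mul_ne_zero (sub_ne_zero.mpr ht) hq₄ (by linear_combination e - h0),
          Submodule.smul_mem _ _ hc, sym_quad_smul hl _ _⟩
      have a1 := hall _ hq₁
      have a2 := hall _ hq₂
      have a4 := hall _ hq₄
      rw [hs, inv_eq_of_mul_eq_one_right a1, inv_eq_of_mul_eq_one_right a2] at h0
      have hp : f₁ u₁ u₁ * f₁ u₂ u₂ = 1 := by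
        rcases mul_self_eq_one_iff.mp (hall _ (mul_ne_zero hq₁ hq₂)) with h | h
        · exact h
        · exact absurd (show (1 : F) = 0 by
            linear_combination (f₁ c c - f₁ u₁ u₁ - f₁ u₂ u₂) * h0 + a1 + a2 - a4 + 2 * h) one_ne_zero
      have h3 : (3 : F) = 0 := by
        linear_combination (f₁ u₁ u₁ + f₁ u₂ u₂ - f₁ c c) * h0 - a1 - a2 + a4 - 2 * hp
      have h12q : f₁ u₂ u₂ = f₁ u₁ u₁ := by linear_combination f₁ u₁ u₁ * hp - f₁ u₂ u₂ * a1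
      have h14q : f₁ c c = f₁ u₁ u₁ := by linear_combination h0 - h12q - f₁ u₁ u₁ * h3
      have hu₃' := hu₃
      have hc' := hc
      simp only [mem_perpIn hl, Submodule.mem_top, true_and] at hu₃' hc'
      obtain ⟨h31, h32⟩ := hu₃'
      obtain ⟨⟨hc1, hc2⟩, hc3⟩ := hc'
      exfalso
      obtain ⟨L, hL⟩ : ∃ L : (Fin 2 → F) →ₗ[F] (Fin a → F),
          ∀ x, L x = x 0 • (u₁ + u₂ + u₃) + x 1 • (u₁ - u₂ + c) :=
        ⟨{ toFun := fun x => x 0 • (u₁ + u₂ + u₃) + x 1 • (u₁ - u₂ + c)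
           map_add' := fun x y => by simp only [Pi.add_apply]; module
           map_smul' := fun t x => by simp only [Pi.smul_apply, smul_eq_mul, RingHom.id_apply]; module },
          fun x => rfl⟩
      have e13 : f₁ u₁ u₃ = 0 := by rw [hl.symm, h31]
      have e23 : f₁ u₂ u₃ = 0 := by rw [hl.symm, h32]
      have e1c : f₁ u₁ c = 0 := by rw [hl.symm, hc1]
      have e2c : f₁ u₂ c = 0 := by rw [hl.symm, hc2]
      have e3c : f₁ u₃ c = 0 := by rw [hl.symm, hc3]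
      have hinj : Function.Injective L := fun x y e => by
        have e0 := congrArg (fun v => f₁ v u₃) e
        have e1 := congrArg (fun v => f₁ v c) e
        simp only [hL, hl.bilinear.add_left, hl.bilinear.smul_left, sym_sub_left hl, e13, e23, hc3, e1c, e2c, e3c,
          hq₃, h12q, h14q, add_zero, zero_add, sub_zero, mul_zero] at e0 e1
        funext i
        fin_cases i
        · exact mul_right_cancel₀ hq₁ e0
        · exact mul_right_cancel₀ hq₁ e1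
      have hS := hts (LinearMap.range L) fun x hx y hy => by
        obtain ⟨x, rfl⟩ := hx
        obtain ⟨y, rfl⟩ := hy
        simp only [hL, hl.bilinear.add_left, hl.bilinear.add_right, hl.bilinear.smul_left, hl.bilinear.smul_right,
          sym_sub_left hl, sym_sub_right hl, h12, h21, e13, e23, e1c, e2c, e3c, h31, h32, hc1, hc2, hc3, hq₃,
          h12q, h14q]
        linear_combination (x 0 * y 0 + x 1 * y 1) * f₁ u₁ u₁ * h3
      rw [LinearMap.finrank_range_of_inj hinj, Module.finrank_fin_fun] at hS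
      omega
    simp only [mem_perpIn hl, Submodule.mem_top, true_and] at hu₃ hc
    obtain ⟨h31, h32⟩ := hu₃
    obtain ⟨⟨hc1, hc2⟩, hc3⟩ := hc
    have hqd : f₁ (u₂ - u₃) (u₂ - u₃) = 2 * f₁ u₂ u₂ := by
      rw [sym_sub_left hl, sym_sub_right hl, sym_sub_right hl, hl.symm u₂ u₃, h32, hq₃]; ring
    have hqd0 : f₁ (u₂ - u₃) (u₂ - u₃) ≠ 0 := hqd ▸ mul_ne_zero h2 hq₂
    refine plane_contra C ha7 hg hz hβ hD hγ hy hq₁ h12
      (A := unitOf (refl f₁ (u₂ - u₃)) (refl f₁ (u₂ - u₃)) (refl_mul_self hl hqd0))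
      (u₃ := u₃) (w := (f₁ u₁ u₁)⁻¹ • u₁ + (f₁ u₂ u₂)⁻¹ • u₂ + c)
      (fun x x' => refl_iso hl hqd0 x x') ?_ ?_ (by rw [hl.symm, h31]) (by rw [hl.symm, h32]) ?_ ?_ ?_ ?_
      (p := ![r⁻¹ • (gram f₁ *ᵥ c),
        (f₁ u₂ u₂)⁻¹ • (gram f₁ *ᵥ u₂ - r⁻¹ • (gram f₁ *ᵥ c)), (f₁ u₂ u₂)⁻¹ • (gram f₁ *ᵥ u₃)]) ?_
    · exact refl_fix hl (by rw [sym_sub_right hl, h12, hl.symm, h31, sub_zero])
    · change refl f₁ (u₂ - u₃) *ᵥ u₂ = u₃
      rw [refl_mulVec hl, hqd, sym_sub_right hl, hl.symm u₂ u₃, h32, sub_zero,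
        show 2 / (2 * f₁ u₂ u₂) * f₁ u₂ u₂ = 1 by field_simp, one_smul, sub_sub_cancel]
    · simp only [hl.bilinear.add_left, hl.bilinear.smul_left, h21, hc1, mul_zero, add_zero, inv_mul_cancel₀ hq₁]
    · simp only [hl.bilinear.add_left, hl.bilinear.smul_left, h12, hc2, mul_zero, add_zero, zero_add,
        inv_mul_cancel₀ hq₂]
    · simp only [hl.bilinear.add_left, hl.bilinear.smul_left, hl.symm u₁ u₃, h31, hl.symm u₂ u₃, h32, hc3, mul_zero,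
        add_zero]
    · intro e
      simp only [hl.bilinear.add_left, hl.bilinear.add_right, hl.bilinear.smul_left, hl.bilinear.smul_right, h12, h21,
        hc1, hc2, hl.symm u₁ c, hl.symm u₂ c, hcq, mul_zero, add_zero, zero_add] at e
      refine hrs (Eq.trans ?_ e)
      rw [hs]
      field_simp
    · simp only [Matrix.cons_val_zero, Matrix.cons_val_one, Matrix.cons_val, smul_dotProduct, sub_dotProduct,
        ← sym_dot hl, hl.bilinear.add_left, hl.bilinear.smul_left, h12, h21, hc1, hc2, hc3, hcq, h31, h32,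
        hl.symm u₁ c, hl.symm u₂ c, hl.symm u₃ c, hl.symm u₁ u₃, hl.symm u₂ u₃, hq₃, smul_eq_mul]
      simp [hr0, hq₂]

/-- An element is a tensor product once the images of anisotropic lines times the second factor have that shape. -/
theorem kron_of_planes (hpl : ∀ g ∈ M, ∀ z, f₁ z z ≠ 0 → ∃ d, ∀ u, ∃ w, g.val *ᵥ pt z u = pt d w)
    {g : GL (Fin a × Fin 2) F} (hg : g ∈ M) : IsKron g := by
  classical
  have hl := C.left
  have hr := C.right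
  have h2 := C.two
  have ha := C.dim
  refine isKron_of_pure (by omega) two_pos fun u hu => ?_
  obtain ⟨z₀, -, hz₀⟩ := exists_aniso hl h2 (nd_top hl) (by rw [finrank_top, Module.finrank_fin_fun]; omega)
  obtain ⟨d₀, hd₀⟩ := hpl g hg _ hz₀
  obtain ⟨σ, hσ⟩ := hd₀ u
  have hz00 : z₀ ≠ 0 := fun e => hz₀ (by rw [e, sym_zero_left hl])
  have hσ0 : σ ≠ 0 := fun e => mulVec_ne_zero g (fun e' => hz00 (pt_eq_zero hu e')) (by rw [hσ, e, pt_zero_right])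
  obtain ⟨Y, hY⟩ : ∃ Y : Submodule F (Fin a → F), ∀ z, z ∈ Y ↔ g.val *ᵥ pt z u ∈ pureW a σ :=
    ⟨(pureW a σ).comap ((Matrix.mulVecLin g.val).comp (ptL u)), fun z => Iff.rfl⟩
  obtain ⟨u', hu'⟩ := exists_partner_alt hr hu
  have hz₀Y : z₀ ∈ Y := (hY _).mpr (hσ ▸ pt_mem_pureW _ _)
  have pair : ∀ x ∈ Y, f₁ x x ≠ 0 → ∀ z, f₁ z z ≠ 0 → (f₁ (x + z) (x + z) ≠ 0 ∨ f₁ (x - z) (x - z) ≠ 0) →
      z ∈ Y := by
    intro x hx hqx z hqz hor
    obtain ⟨t, ht0, htq⟩ : ∃ t : F, t ≠ 0 ∧ f₁ (x + t • z) (x + t • z) ≠ 0 := by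
      rcases hor with h | h
      · exact ⟨1, one_ne_zero, by rwa [one_smul]⟩
      · exact ⟨-1, neg_ne_zero.mpr one_ne_zero, by rwa [neg_one_smul, ← sub_eq_add_neg]⟩
    obtain ⟨y, hy⟩ := (hY x).mp hx
    rw [ptL_apply] at hy
    obtain ⟨dx, hdx⟩ := hpl g hg _ hqx
    obtain ⟨wx, hwx⟩ := hdx u
    obtain ⟨wx', hwx'⟩ := hdx u'
    have hqy : f₁ y y ≠ 0 := by
      obtain ⟨e, he⟩ := Submodule.mem_span_singleton.mp (pt_propA (hy.trans hwx) hσ0)
      have h := C.sub g hg (pt x u) (pt x u')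
      rw [← hy, hwx', bform_pt_pt hl hr, bform_pt_pt hl hr, hr.skew u u', hu', ← he, hl.bilinear.smul_left] at h
      have h' : e * f₁ dx dx ≠ 0 := fun h0 => hqx (by linear_combination h - f₂ σ wx' * h0)
      rw [← he, sym_quad_smul hl, mul_assoc]
      exact mul_ne_zero (left_ne_zero_of_mul h') h'
    obtain ⟨d, hd⟩ := hpl g hg _ hqz
    obtain ⟨w, hw⟩ := hd u
    by_cases hwσ : w ∈ Submodule.span F {σ}
    · obtain ⟨e, rfl⟩ := Submodule.mem_span_singleton.mp hwσ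
      rw [hY, hw, pt_smul_right]
      exact Submodule.smul_mem _ _ (pt_mem_pureW _ _)
    exfalso
    have hdy : f₁ d y = 0 := by
      have h := C.sub g hg (pt z u) (pt x u)
      rw [hw, ← hy, bform_pt_pt hl hr, bform_pt_pt hl hr, hr.alternating, mul_zero] at h
      exact (mul_eq_zero.mp h).resolve_right fun h0 => hwσ (prop_of_alt_zero hr hσ0 h0)
    obtain ⟨de, hde⟩ := hpl g hg _ htq
    obtain ⟨we, hwe⟩ := hde u
    rw [pt_add_left, pt_smul_left, mulVec_add, mulVec_smul, ← hy, hw] at hwe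
    have hw0 : w ≠ 0 := fun e => hwσ (e ▸ zero_mem _)
    have hσw : σ ∉ Submodule.span F {w} := fun hm => by
      obtain ⟨e, he⟩ := Submodule.mem_span_singleton.mp hm
      have he0 : e ≠ 0 := fun h0 => hσ0 (by rw [← he, h0, zero_smul])
      exact hwσ (Submodule.mem_span_singleton.mpr ⟨e⁻¹, by rw [← he, inv_smul_smul₀ he0]⟩)
    obtain ⟨φ, hφ, hφ1⟩ := exists_functional hwσ
    obtain ⟨ψ, hψ, hψ1⟩ := exists_functional hσw
    have e1 := congrArg (sl φ) hwe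
    have e2 := congrArg (sl ψ) hwe
    rw [map_add, map_smul, sl_pt, sl_pt, sl_pt, hφ _ (Submodule.mem_span_singleton_self _), hφ1, zero_smul, one_smul,
      zero_add] at e1
    rw [map_add, map_smul, sl_pt, sl_pt, sl_pt, hψ _ (Submodule.mem_span_singleton_self _), hψ1, zero_smul, one_smul,
      smul_zero, add_zero] at e2
    refine hqy ?_
    have e3 := congrArg (fun v => f₁ v y) e1
    simp only [hl.bilinear.smul_left, hdy, mul_zero] at e3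
    rcases mul_eq_zero.mp e3.symm with h0 | h0
    · have hd0 : d = 0 := by
        rw [h0, zero_smul, smul_eq_zero] at e1
        exact e1.resolve_left ht0
      exfalso
      refine mulVec_ne_zero g (fun e' => hqz ?_) (by rw [hw, hd0, pt_zero_left])
      rw [pt_eq_zero hu e', sym_zero_left hl]
    · nth_rw 1 [e2]
      rw [hl.bilinear.smul_left, h0, mul_zero]
  have htop : (⊤ : Submodule F (Fin a → F)) ≤ Y := nd_span hl h2 (nd_top hl) fun z _ hqz => by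
    by_cases hor : f₁ (z₀ + z) (z₀ + z) ≠ 0 ∨ f₁ (z₀ - z) (z₀ - z) ≠ 0
    · exact pair z₀ hz₀Y hz₀ z hqz hor
    push Not at hor
    obtain ⟨ha', hb'⟩ := hor
    rw [sub_eq_add_neg, sym_quad_add hl, ← neg_one_smul F z, sym_quad_smul hl, hl.bilinear.smul_right] at hb'
    rw [sym_quad_add hl] at ha'
    have hsum : f₁ z₀ z₀ + f₁ z z = 0 :=
      (mul_eq_zero.mp (show 2 * (f₁ z₀ z₀ + f₁ z z) = 0 by linear_combination ha' + hb')).resolve_left h2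
    have hperp : f₁ z z₀ = 0 := by
      rw [hl.symm]
      exact (mul_eq_zero.mp (show 2 * f₁ z₀ z = 0 by linear_combination ha' - hsum)).resolve_left h2
    have hnd := nd_perpIn hl (nd_top hl) (Submodule.mem_top (x := z₀)) hz₀
    have hnd' := nd_perpIn hl hnd ((mem_perpIn hl).mpr ⟨trivial, hperp⟩) hqz
    have hd1 := finrank_perpIn hl ⊤ z₀
    have hd2 := finrank_perpIn hl (perpIn f₁ ⊤ z₀) z
    rw [finrank_top, Module.finrank_fin_fun] at hd1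
    obtain ⟨k, hk, hqk, hqzk⟩ : ∃ k ∈ perpIn f₁ (perpIn f₁ ⊤ z₀) z, f₁ k k ≠ 0 ∧ f₁ z z + f₁ k k ≠ 0 := by
      rcases C.hyp with ⟨t, ht0, ht1, htm⟩ | ha4
      · obtain ⟨k, hk, hqk⟩ := exists_aniso hl h2 hnd' (by omega)
        by_cases hs : f₁ z z + f₁ k k = 0
        · refine ⟨t • k, Submodule.smul_mem _ _ hk, ?_, ?_⟩ <;> rw [sym_quad_smul hl]
          · exact mul_ne_zero (mul_ne_zero ht0 ht0) hqk
          · intro e
            rcases mul_eq_zero.mp (show (t - 1) * ((t + 1) * f₁ k k) = 0 by linear_combination e - hs) with h | h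
            · exact ht1 (sub_eq_zero.mp h)
            · exact htm (eq_neg_of_add_eq_zero_left ((mul_eq_zero.mp h).resolve_right hqk))
        · exact ⟨k, hk, hqk, hs⟩
      · obtain ⟨k, hk, hkq⟩ := exists_value hl h2 hnd' (by omega) (f₁ z z)
        exact ⟨k, hk, hkq ▸ hqz, by rw [hkq, ← two_mul]; exact mul_ne_zero h2 hqz⟩
    simp only [mem_perpIn hl, Submodule.mem_top, true_and] at hk
    obtain ⟨hk0, hkz⟩ := hk
    have hq' : f₁ (z + k) (z + k) = f₁ z z + f₁ k k := by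
      rw [sym_quad_add hl, hl.symm z k, hkz]; ring
    have hz'Y : z + k ∈ Y := pair z₀ hz₀Y hz₀ (z + k) (hq' ▸ hqzk) (Or.inl (by
      rw [sym_quad_add hl, hq', hl.bilinear.add_right, hl.symm z₀ z, hperp, hl.symm z₀ k, hk0]
      intro e
      exact hqk (by linear_combination e - hsum)))
    refine pair _ hz'Y (hq' ▸ hqzk) z hqz (Or.inr ?_)
    rwa [add_sub_cancel_left]
  refine ⟨σ, hσ0, Submodule.eq_of_le_of_finrank_eq ?_ (by rw [finrank_img, finrank_pureW hu, finrank_pureW hσ0])⟩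
  intro v hv
  obtain ⟨_, ⟨x, rfl⟩, rfl⟩ := mem_img.mp hv
  exact (hY x).mp (htop trivial)

/-- Every element of the group is a tensor product. -/
theorem kron_two (ha7 : 5 ≤ a) {g : GL (Fin a × Fin 2) F} (hg : g ∈ M) : IsKron g :=
  kron_of_planes C (fun _ hg' _ hz => plane_pure C ⟨by omega, fun S hS => by
    have := two_mul_finrank_le C.left hS
    omega⟩ hg' hz) hg

/-- The same for a four-dimensional factor without singular planes. -/
theorem kron_two_low (ha7 : WittLow f₁) {g : GL (Fin a × Fin 2) F} (hg : g ∈ M) : IsKron g :=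
  kron_of_planes C (fun _ hg' _ hz => plane_pure C ha7 hg' hz) hg

end CfsgLib.Classical22.TensorMax.SpO
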