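/-
An alternating factor of dimension two and an orthogonal factor of dimension three.
-/
import Cfsg.Agent.Lib.Classical22.SpOrthTensor.TwoMain

set_option autoImplicit false
set_option maxHeartbeats 800000

namespace CfsgLib.Classical22.TensorMax.SpO

open Matrix Kronecker CfsgLib.Transvec CfsgLib.Classical22.TensorMax.SympO
open scoped MatrixGroups

variable {F : Type*} [Field F]

lemma two_decomp {f₂ : (Fin 2 → F) → (Fin 2 → F) → F} (hr : Cfsg.Geo.IsSymplecticForm f₂) {e e' : Fin 2 → F}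
    (he : f₂ e e' = 1) (u : Fin 2 → F) : u = f₂ u e' • e - f₂ u e • e' := by
  have he0 : e ≠ 0 := fun h => by rw [h, r_zero_left hr] at he; exact zero_ne_one he
  have h1 : f₂ (u - (f₂ u e' • e - f₂ u e • e')) e = 0 := by
    simp only [r_sub_left hr, hr.bilinear.smul_left, hr.alternating, show f₂ e' e = -1 by rw [hr.skew, he]]; ring
  obtain ⟨t, ht⟩ := Submodule.mem_span_singleton.mp (prop_of_alt_zero hr he0 h1)
  have h2 : f₂ (u - (f₂ u e' • e - f₂ u e • e')) e' = 0 := by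
    simp only [r_sub_left hr, hr.bilinear.smul_left, hr.alternating, he]; ring
  rw [← ht, hr.bilinear.smul_left, he, mul_one] at h2
  rw [h2, zero_smul] at ht
  exact sub_eq_zero.mp ht.symm

lemma extra_sq {t : F} (ht0 : t ≠ 0) : t * t = 3 → (2 * 2 : F) ≠ 3 ∧ (2 * 2 : F) ≠ 1 := fun h =>
  ⟨fun e => one_ne_zero (α := F) (by linear_combination e), fun e => mul_ne_zero ht0 ht0 (by linear_combination h + e)⟩

/-- A symplectic map moving one vector, but not all, out of the eigen relation with a matrix without eigenvectors. -/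
lemma moving_two {f₂ : (Fin 2 → F) → (Fin 2 → F) → F} (hr : Cfsg.Geo.IsSymplecticForm f₂) (h2 : (2 : F) ≠ 0)
    {t : F} (ht0 : t ≠ 0) (ht1 : t ≠ 1) (htm : t ≠ -1)
    {β : Matrix (Fin 2) (Fin 2) F} (hβ : ∀ (x : Fin 2 → F) (l : F), β *ᵥ x = l • x → x = 0) :
    ∃ (B : GL (Fin 2) F) (l : F) (v : Fin 2 → F), (∀ x y, f₂ (B.val *ᵥ x) (B.val *ᵥ y) = f₂ x y) ∧ v ≠ 0 ∧
      β.adjugate *ᵥ (B.val *ᵥ (β *ᵥ v)) = l • (B.val *ᵥ v) ∧
      ∃ x, β.adjugate *ᵥ (B.val *ᵥ (β *ᵥ x)) ≠ l • (B.val *ᵥ x) := by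
  obtain ⟨v, hv⟩ : ∃ v : Fin 2 → F, v ≠ 0 := ⟨Pi.single 0 1, by simp⟩
  obtain ⟨w, hw⟩ : ∃ w, w = β *ᵥ v := ⟨_, rfl⟩
  obtain ⟨τ, hτ⟩ : ∃ τ, τ = β.trace := ⟨_, rfl⟩
  obtain ⟨δ, hδ⟩ : ∃ δ, δ = β.det := ⟨_, rfl⟩
  have hβw : β *ᵥ w = τ • w - δ • v := by rw [hw, cayley_two, hτ, hδ]
  obtain ⟨k, hk⟩ : ∃ k, k = f₂ v w := ⟨_, rfl⟩
  have hk0 : k ≠ 0 := fun e => by
    obtain ⟨l, hl⟩ := Submodule.mem_span_singleton.mp (prop_of_alt_zero hr hv (η := w) (by rw [hr.skew, ← hk, e, neg_zero]))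
    exact hv (hβ v l (by rw [← hw, hl]))
  -- the parameter
  obtain ⟨s, hs, h1, h3⟩ : ∃ s : F, s ≠ 0 ∧ δ * s * s + τ * s + 1 ≠ δ ∧
      (τ = 0 → δ * s * s + τ * s + 1 ≠ -δ) := by
    by_cases hτ0 : τ = 0
    · by_cases hd : 2 * δ + 1 = 0
      · by_cases h3 : t * t = 3
        · obtain ⟨a, b⟩ := extra_sq ht0 h3
          refine ⟨2, h2, fun e => a ?_, fun _ e => b ?_⟩
          · linear_combination (-2 : F) * e + (2 * 2 - 1) * hd + 4 * hτ0
          · linear_combination (-2 : F) * e + (2 * 2 + 1) * hd + 4 * hτ0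
        · refine ⟨t, ht0, fun e => h3 ?_, fun _ e => ?_⟩
          · linear_combination (-2 : F) * e + (t * t - 1) * hd + 2 * t * hτ0
          · rcases mul_self_eq_one_iff.mp (show t * t = 1 by
              linear_combination (-2 : F) * e + (t * t + 1) * hd + 2 * t * hτ0) with h | h
            · exact ht1 h
            · exact htm h
      · exact ⟨1, one_ne_zero, fun e => one_ne_zero (α := F) (by linear_combination e - hτ0),
          fun _ e => hd (by linear_combination e - hτ0)⟩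
    · by_cases hp : τ + 1 = 0
      · exact ⟨-1, neg_ne_zero.mpr one_ne_zero, fun e => h2 (by linear_combination e + hp), fun h => absurd h hτ0⟩
      · exact ⟨1, one_ne_zero, fun e => hp (by linear_combination e), fun h => absurd h hτ0⟩
  obtain ⟨l, hl⟩ : ∃ l, l = δ * s * s + τ * s + 1 := ⟨_, rfl⟩
  rw [← hl] at h1 h3
  have hl0 : l ≠ 0 := fun e => by
    refine (fun h0 => one_ne_zero (α := F) (neg_eq_zero.mp (eigen_indep hβ hv (p := τ + s * δ) (q := (-1 : F)) ?_).2))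
      (hβ ((τ + s * δ) • v - w) (-(s * δ)) ?_)
    · rw [← hw, neg_one_smul, ← sub_eq_add_neg, h0]
    · rw [mulVec_sub, mulVec_smul, hβw, ← hw]
      match_scalars
      all_goals first | ring1 | linear_combination δ * hl - δ * e | linear_combination δ * e - δ * hl
  obtain ⟨e', he'⟩ : ∃ e', e' = k⁻¹ • w := ⟨_, rfl⟩
  have hve : f₂ v e' = 1 := by rw [he', hr.bilinear.smul_right, ← hk, inv_mul_cancel₀ hk0]
  obtain ⟨L, hL⟩ : ∃ L : (Fin 2 → F) →ₗ[F] (Fin 2 → F), ∀ x,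
      L x = f₂ x e' • (l⁻¹ • ((τ + s * δ) • v - w)) - (k⁻¹ * f₂ x v) • (v + s • w) :=
    ⟨{ toFun := fun x => f₂ x e' • (l⁻¹ • ((τ + s * δ) • v - w)) - (k⁻¹ * f₂ x v) • (v + s • w)
       map_add' := fun x y => by simp only [hr.bilinear.add_left]; module
       map_smul' := fun c x => by simp only [hr.bilinear.smul_left, RingHom.id_apply]; module }, fun x => rfl⟩
  have hLv : L v = l⁻¹ • ((τ + s * δ) • v - w) := by
    rw [hL, hve, hr.alternating, mul_zero, zero_smul, sub_zero, one_smul]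
  have hLw : L w = v + s • w := by
    rw [hL, he', hr.bilinear.smul_right, hr.alternating, mul_zero, zero_smul, zero_sub,
      show f₂ w v = -k by rw [hk, hr.skew], mul_neg,
      inv_mul_cancel₀ hk0, neg_one_smul, neg_neg]
  have hform : ∀ x y, f₂ (L x) (L y) = f₂ x y := fun x y => by
    conv_rhs => rw [two_decomp hr hve x, two_decomp hr hve y]
    rw [hL, hL]
    simp only [he', r_sub_left hr, r_sub_right hr, hr.bilinear.add_left, hr.bilinear.add_right,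
      hr.bilinear.smul_left, hr.bilinear.smul_right, hr.alternating, ← hk, show f₂ w v = -k by rw [hk, hr.skew]]
    field_simp
    rw [hl]
    ring
  have hinj : Function.Injective L := fun x y h => eq_of_form hr fun p => by rw [← hform x, h, hform]
  refine ⟨glOfLin L hinj, l, v, fun x y => by rw [glOfLin_mulVec, glOfLin_mulVec, hform], hv, ?_, w, fun e => ?_⟩
  · rw [← hw, glOfLin_mulVec, glOfLin_mulVec, hLv, hLw, adjugate_two_mulVec, mulVec_add, mulVec_smul, hβw, ← hτ,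
      ← hw, smul_inv_smul₀ hl0]
    module
  · rw [hβw, glOfLin_mulVec, glOfLin_mulVec, map_sub, map_smul, map_smul, hLv, hLw, adjugate_two_mulVec, ← hτ] at e
    simp only [mulVec_sub, mulVec_add, mulVec_smul, hβw, ← hw] at e
    obtain ⟨P, hP⟩ : ∃ P, P = τ - δ * ((τ + s * δ) * l⁻¹) := ⟨_, rfl⟩
    obtain ⟨Q, hQ⟩ : ∃ Q, Q = τ * s + δ * l⁻¹ := ⟨_, rfl⟩
    have e' : (τ * P + δ * Q - l) • v + (-P - l * s) • (β *ᵥ v) = 0 := by
      rw [← hw, hP, hQ]
      linear_combination (norm := module) e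
    obtain ⟨i1, i2⟩ := eigen_indep hβ hv e'
    rw [hP, hQ] at i1
    rw [hP] at i2
    field_simp at i1 i2
    have hne : l - δ ≠ 0 := sub_ne_zero.mpr h1
    have a1 : δ + l + τ * s * l = 0 := (mul_eq_zero.mp (show (l - δ) * (δ + l + τ * s * l) = 0 by
      linear_combination -i1 - τ * i2)).resolve_left hne
    have a2 : τ + s * (δ + l) = 0 := (mul_eq_zero.mp (show (l - δ) * (τ + s * (δ + l)) = 0 by
      linear_combination -i2)).resolve_left hne
    rcases mul_eq_zero.mp (show τ * (1 - s * s * l) = 0 by linear_combination a2 - s * a1) with h | h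
    · exact h3 h (by linear_combination a1 - s * l * h)
    · exact hl0 (by linear_combination s * a2 + hl + h)

lemma two_zero {f₂ : (Fin 2 → F) → (Fin 2 → F) → F} (hr : Cfsg.Geo.IsSymplecticForm f₂) {e e' : Fin 2 → F}
    (he : f₂ e e' = 1) {u : Fin 2 → F} (h : f₂ u e = 0) (h' : f₂ u e' = 0) : u = 0 := by
  rw [two_decomp hr he u, h, h', zero_smul, zero_smul, sub_zero]

section Sym
variable {f₁ : (Fin 3 → F) → (Fin 3 → F) → F} (hl : Cfsg.Geo.IsSymmetricForm f₁)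
include hl

lemma finrank_perp_le_two {x : Fin 3 → F} (hx : x ≠ 0) : Module.finrank F (perpIn f₁ ⊤ x) ≤ 2 := by
  by_contra h
  have h3 := Submodule.finrank_le (perpIn f₁ ⊤ x)
  rw [Module.finrank_fin_fun] at h3
  have htop : perpIn f₁ ⊤ x = ⊤ :=
    Submodule.eq_top_of_finrank_eq (by rw [Module.finrank_fin_fun]; omega)
  refine hx (sym_eq hl fun p => ?_)
  rw [sym_zero_left hl, hl.symm]
  exact ((mem_perpIn hl).mp (htop ▸ Submodule.mem_top (x := p))).2

lemma singular_prop {x v : Fin 3 → F} (hx : x ≠ 0) (hqx : f₁ x x = 0) (hqv : f₁ v v = 0) (hxv : f₁ x v = 0) :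
    v ∈ Submodule.span F {x} := by
  by_contra hv
  have hli : LinearIndependent F ![x, v] := LinearIndependent.pair_iff' hx |>.mpr fun t ht =>
    hv (Submodule.mem_span_singleton.mpr ⟨t, ht⟩)
  have hd := finrank_span_eq_card hli
  have h := two_mul_finrank_le hl (S := Submodule.span F (Set.range ![x, v])) fun p hp r hr => by
    have hset : Set.range ![x, v] = {x, v} := by simp [Matrix.range_cons, Matrix.range_empty, Set.pair_comm]
    rw [hset, Submodule.mem_span_pair] at hp hr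
    obtain ⟨a, b, rfl⟩ := hp
    obtain ⟨c, d, rfl⟩ := hr
    simp only [hl.bilinear.add_left, hl.bilinear.add_right, hl.bilinear.smul_left, hl.bilinear.smul_right, hqx, hqv,
      hxv, hl.symm v x]
    ring
  rw [hd, Fintype.card_fin] at h
  omega

end Sym

variable [Fintype F] {f₁ : (Fin 3 → F) → (Fin 3 → F) → F}
  {f₂ : (Fin 2 → F) → (Fin 2 → F) → F} {M : Subgroup (GL (Fin 3 × Fin 2) F)}

variable (C : Ctx f₁ f₂ M)
include C

/-- An involution fixing a pure vector on an anisotropic line fixes that line tensored with the second factor. -/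
theorem line_fixed {y : GL (Fin 3 × Fin 2) F} (hy : y ∈ M) (hy2 : y * y = 1) {c : Fin 3 → F} (hc : f₁ c c ≠ 0)
    {u : Fin 2 → F} (hu : u ≠ 0) (hfix : y.val *ᵥ pt c u = pt c u) (u'' : Fin 2 → F) :
    y.val *ᵥ pt c u'' = pt c u'' := by
  classical
  have hl := C.left
  have hr := C.right
  have h2 := C.two
  obtain ⟨u', hu'⟩ := exists_partner_alt hr hu
  have hdec := fun x => two_decomp hr hu' x
  suffices hfix' : y.val *ᵥ pt c u' = pt c u' by
    rw [hdec u'', pt_sub_right, pt_smul_right, pt_smul_right, mulVec_sub, mulVec_smul, mulVec_smul, hfix, hfix']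
  by_contra hne
  have hyy : ∀ v, y.val *ᵥ (y.val *ᵥ v) = v := fun v => by
    rw [mulVec_mulVec, ← Units.val_mul, hy2, Units.val_one, one_mulVec]
  have hadj : ∀ v v', bform f₁ f₂ (y.val *ᵥ v) v' = bform f₁ f₂ v (y.val *ᵥ v') := fun v v' => by
    rw [← C.sub y hy, hyy]
  obtain ⟨w, hw⟩ : ∃ w, w = y.val *ᵥ pt c u' - pt c u' := ⟨_, rfl⟩
  have hw0 : w ≠ 0 := hw ▸ sub_ne_zero.mpr hne
  have hyu' : y.val *ᵥ pt c u' = pt c u' + w := by rw [hw, add_sub_cancel]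
  obtain ⟨p, hp⟩ : ∃ p, p = pt c u := ⟨_, rfl⟩
  have hpp : bform f₁ f₂ p p = 0 := bform_self hl hr h2 p
  have hwp : bform f₁ f₂ w p = 0 := by
    have h := hadj (pt c u') p
    rw [hp] at h ⊢
    rw [hfix, hyu', bform_add_left hl] at h
    linear_combination h
  have hwu : bform f₁ f₂ w (pt c u') = 0 := by
    have h := hadj (pt c u') (pt c u')
    rw [bform_skew hl hr (y.val *ᵥ pt c u') (pt c u'), hyu', bform_add_left hl, bform_self hl hr h2, zero_add] at h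
    exact (mul_eq_zero.mp (show 2 * bform f₁ f₂ w (pt c u') = 0 by linear_combination h)).resolve_left h2
  have hpw : bform f₁ f₂ p w = 0 := by rw [bform_skew hl hr, hwp, neg_zero]
  -- the contraction along the line
  obtain ⟨k, hk⟩ : ∃ k, k = 2 / f₁ c c := ⟨_, rfl⟩
  have hkq : k * f₁ c c = 2 := hk ▸ div_mul_cancel₀ _ hc
  obtain ⟨K, hK⟩ : ∃ K, K = krRefl C hc := ⟨_, rfl⟩
  have hKM : K ∈ M := hK ▸ krRefl_mem C hc
  have hpt : ∀ η, pt c η = f₂ η u • pt c u' - f₂ η u' • p := fun η => by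
    conv_lhs => rw [hdec η, pt_sub_right, pt_smul_right, pt_smul_right]
    rw [hp]
  have hA : ∀ v, pt c (slA (gram f₁ *ᵥ c) v) = bform f₁ f₂ v p • pt c u' - bform f₁ f₂ v (pt c u') • p := fun v => by
    rw [hpt, ← bform_pt_slA hl hr, ← bform_pt_slA hl hr, ← hp]
  have hKv : ∀ v, K.val *ᵥ v = v - k • (bform f₁ f₂ v p • pt c u' - bform f₁ f₂ v (pt c u') • p) := fun v => by
    rw [hK, krRefl_vec C hc, hA, hk]
  have hyp' : y.val *ᵥ p = p := by rw [hp, hfix]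
  obtain ⟨Z, hZ⟩ : ∃ Z, Z = K * (y * K * y) := ⟨_, rfl⟩
  have hZM : Z ∈ M := hZ ▸ mul_mem hKM (mul_mem (mul_mem hy hKM) hy)
  have hKp : K.val *ᵥ p = -p := by
    rw [hKv, hpp, show bform f₁ f₂ p (pt c u') = - f₁ c c by rw [hp, bform_pt_pt hl hr, show f₂ u u' = -1 by rw [hr.skew, hu']]; ring]
    match_scalars <;> first | ring1 | linear_combination -hkq
  have hKw : K.val *ᵥ w = w := by rw [hKv, hwp, hwu]; simp
  have hZv : ∀ v, Z.val *ᵥ v = v - k • (bform f₁ f₂ v w • p + bform f₁ f₂ v p • w) := fun v => by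
    have e : (y * K * y).val *ᵥ v = K.val *ᵥ v + k • (bform f₁ f₂ v w • p - bform f₁ f₂ v p • w) := by
      simp only [Units.val_mul, ← mulVec_mulVec]
      rw [hKv (y.val *ᵥ v), mulVec_sub, mulVec_smul, mulVec_sub, mulVec_smul, mulVec_smul, hyy, hyp', hyu', hadj,
        hadj, hyp', hyu', bform_add_right hl, hKv]
      module
    have hKK : K.val *ᵥ (K.val *ᵥ v) = v := by
      rw [hKv v, mulVec_sub, mulVec_smul, mulVec_sub, mulVec_smul, mulVec_smul, hKp, hKv (pt c u'),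
        bform_self hl hr h2, hKv v, show bform f₁ f₂ (pt c u') p = f₁ c c by rw [hp, bform_pt_pt hl hr, hu']; ring]
      match_scalars <;> first | ring1 | linear_combination (-(k * bform f₁ f₂ v p)) * hkq | linear_combination (k * bform f₁ f₂ v p) * hkq
    rw [hZ, Units.val_mul, ← mulVec_mulVec, e, mulVec_add, mulVec_smul, mulVec_sub, mulVec_smul, mulVec_smul, hKK,
      hKp, hKw]
    module
  obtain ⟨y₀, hy₀, hy₀c⟩ : ∃ y₀ : Fin 3 → F, y₀ ≠ 0 ∧ f₁ y₀ c = 0 := by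
    have h := finrank_perpIn hl ⊤ c
    rw [finrank_top, Module.finrank_fin_fun] at h
    obtain ⟨y₀, hy₀, hne'⟩ := Submodule.exists_mem_ne_zero_of_ne_bot (p := perpIn f₁ ⊤ c) (by
      intro hb; rw [hb, finrank_bot] at h; omega)
    exact ⟨y₀, hne', ((mem_perpIn hl).mp hy₀).2⟩
  obtain ⟨ξ, hξ⟩ : ∃ ξ, ξ = s2 f₂ u w := ⟨_, rfl⟩
  have hξc : f₁ ξ c = 0 := by rw [hξ, ← bform_pt hl hr, ← hp, hwp]
  by_cases hξ0 : ξ = 0
  · obtain ⟨φ, -, hφ⟩ := exists_functional (E := (⊥ : Submodule F (Fin 2 → F))) (u := u) (by simpa using hu)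
    have hwpt := mem_pure_of_s2 hr hφ (v := w) fun w' hw' => by
      obtain ⟨t, rfl⟩ := Submodule.mem_span_singleton.mp (prop_of_alt_zero hr hu (η := w') (by rw [hr.skew, hw', neg_zero]))
      rw [s2_smul, ← hξ, hξ0, smul_zero]
    obtain ⟨x, hx⟩ : ∃ x, x = sl φ w := ⟨_, rfl⟩
    rw [← hx] at hwpt
    have hx0 : x ≠ 0 := fun h => hw0 (by rw [hwpt, h, pt_zero_left])
    have hxc : f₁ x c = 0 := by
      have h := hwu
      rw [hwpt, bform_pt_pt hl hr, show f₂ u u' = -1 by rw [hr.skew, hu']] at h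
      simpa using h
    obtain ⟨l, hl'⟩ := scalar_of_shear C hZM hu (S := (-k) • (outer f₁ c x + outer f₁ x c)) fun v => by
      rw [hZv, hwpt, hp, bform_pt hl hr, bform_pt hl hr, smul_mulVec, add_mulVec, sym_outer hl, sym_outer hl]
      simp only [pt_smul_left, pt_add_left]
      module
    obtain ⟨y₁, hy₁, hy₁c, hy₁x⟩ : ∃ y₁ : Fin 3 → F, y₁ ≠ 0 ∧ f₁ y₁ c = 0 ∧ f₁ y₁ x = 0 := by
      have h := finrank_perpIn hl ⊤ c
      rw [finrank_top, Module.finrank_fin_fun] at h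
      have h' := finrank_perpIn hl (perpIn f₁ ⊤ c) x
      obtain ⟨y₁, hy₁, hne'⟩ := Submodule.exists_mem_ne_zero_of_ne_bot (p := perpIn f₁ (perpIn f₁ ⊤ c) x) (by
        intro hb; rw [hb, finrank_bot] at h'; omega)
      exact ⟨y₁, hne', ((mem_perpIn hl).mp ((mem_perpIn hl).mp hy₁).1).2, ((mem_perpIn hl).mp hy₁).2⟩
    have e1 := congrArg (fun S => S *ᵥ y₁) hl'
    have e2 := congrArg (fun S => S *ᵥ c) hl'
    simp only [smul_mulVec, add_mulVec, sym_outer hl, hy₁c, hy₁x, zero_smul, add_zero, smul_zero, one_mulVec] at e1 e2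
    rw [(smul_eq_zero.mp e1.symm).resolve_right hy₁, zero_smul, hl.symm c x, hxc, zero_smul, zero_add, smul_smul,
      neg_mul, hkq] at e2
    exact hx0 ((smul_eq_zero.mp e2).resolve_left (neg_ne_zero.mpr h2))
  · obtain ⟨h, hhM, hhp, hμ⟩ : ∃ h ∈ M, h.val *ᵥ p = p ∧ bform f₁ f₂ w (h.val *ᵥ w) ≠ 0 := by
      have hroot : ∀ s, (root 3 hr u s).val *ᵥ p = p := fun s => by
        rw [root_apply hr, hp, s2p hr, hr.alternating, zero_smul, pt_zero_left, smul_zero, add_zero]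
      by_cases hqξ : f₁ ξ ξ = 0
      · obtain ⟨z, hzc, hqz, hξz⟩ : ∃ z, f₁ z c = 0 ∧ f₁ z z ≠ 0 ∧ f₁ ξ z ≠ 0 := by
          by_contra hcon
          push Not at hcon
          have hnd := nd_perpIn hl (nd_top hl) (Submodule.mem_top (x := c)) hc
          have hle : perpIn f₁ ⊤ c ≤ perpIn f₁ ⊤ ξ := nd_span hl h2 hnd fun z hz hqz =>
            (mem_perpIn hl).mpr ⟨trivial, by rw [hl.symm]; exact hcon z ((mem_perpIn hl).mp hz).2 hqz⟩
          obtain ⟨w₁, hw₁, hw₁'⟩ := hnd ξ ((mem_perpIn hl).mpr ⟨trivial, hξc⟩) hξ0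
          exact hw₁' (by rw [hl.symm]; exact ((mem_perpIn hl).mp (hle hw₁)).2)
        obtain ⟨s, hs⟩ : ∃ s, bform f₁ f₂ w ((krRefl C hqz).val *ᵥ ((root 3 hr u s).val *ᵥ w)) ≠ 0 := by
          by_contra hcon
          push Not at hcon
          have h0 := hcon 0
          have h1 := hcon 1
          rw [root_apply hr, zero_smul, add_zero] at h0
          rw [root_apply hr, one_smul, mulVec_add, krRefl_apply, bform_add_right hl, h0, zero_add, bform_pt hl hr,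
            ← hξ, refl_mulVec hl, sym_sub_right hl, hqξ, hl.bilinear.smul_right, zero_sub, neg_eq_zero] at h1
          exact mul_ne_zero (mul_ne_zero (div_ne_zero h2 hqz) hξz) hξz h1
        refine ⟨krRefl C hqz * root 3 hr u s, mul_mem (krRefl_mem C hqz) (root_mem C u s), ?_, ?_⟩
        · rw [Units.val_mul, ← mulVec_mulVec, hroot, hp, krRefl_apply, refl_fix hl (by rw [hl.symm, hzc])]
        · rwa [Units.val_mul, ← mulVec_mulVec]
      · refine ⟨root 3 hr u 1, root_mem C u 1, hroot 1, ?_⟩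
        rwa [root_apply hr, one_smul, bform_add_right hl, bform_self hl hr h2, zero_add, bform_pt hl hr, ← hξ]
    obtain ⟨μ, hμdef⟩ : ∃ μ, μ = bform f₁ f₂ w (h.val *ᵥ w) := ⟨_, rfl⟩
    rw [← hμdef] at hμ
    obtain ⟨w', hw'⟩ : ∃ w', w' = h.val *ᵥ w := ⟨_, rfl⟩
    rw [← hw'] at hμdef
    have hw'p : bform f₁ f₂ w' p = 0 := by rw [hw', ← hhp, C.sub h hhM, hwp]
    have hw'w : bform f₁ f₂ w' w = -μ := by rw [bform_skew hl hr, hμdef]
    obtain ⟨N, hN⟩ : ∃ N, N = h * Z * h⁻¹ := ⟨_, rfl⟩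
    have hNM : N ∈ M := hN ▸ mul_mem (mul_mem hhM hZM) (inv_mem hhM)
    have hNv : ∀ v, N.val *ᵥ v = v - k • (bform f₁ f₂ v w' • p + bform f₁ f₂ v p • w') := fun v => by
      obtain ⟨v₀, rfl⟩ : ∃ v₀, v = h.val *ᵥ v₀ := ⟨_, (Transvec.mulVec_inv_cancel h v).symm⟩
      have e1 : bform f₁ f₂ (h.val *ᵥ v₀) p = bform f₁ f₂ v₀ p := by
        conv_lhs => rw [← hhp, C.sub h hhM]
      rw [hN]
      simp only [Units.val_mul, ← mulVec_mulVec, Transvec.inv_mulVec_cancel]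
      rw [hZv, mulVec_sub, mulVec_smul, mulVec_add, mulVec_smul, mulVec_smul, hhp, ← hw', e1, hw', C.sub h hhM]
    have hfixp : ∀ G : GL (Fin 3 × Fin 2) F, G = Z ∨ G = N → G.val *ᵥ p = p := by
      rintro G (rfl | rfl)
      · rw [hZv, hpw, hpp]; simp
      · rw [hNv, hpp, bform_skew hl hr w' p, hw'p]; simp
    obtain ⟨K₀, hK₀⟩ : ∃ K₀, K₀ = Z * N * (N * Z)⁻¹ := ⟨_, rfl⟩
    have hK₀M : K₀ ∈ M := hK₀ ▸ mul_mem (mul_mem hZM hNM) (inv_mem (mul_mem hNM hZM))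
    have hK₀v : ∀ v, K₀.val *ᵥ v = v - (2 * k * k * μ * bform f₁ f₂ v p) • p := fun v => by
      obtain ⟨v₀, rfl⟩ : ∃ v₀, v = (N * Z).val *ᵥ v₀ := ⟨_, (Transvec.mulVec_inv_cancel _ v).symm⟩
      have hbp : bform f₁ f₂ ((N * Z).val *ᵥ v₀) p = bform f₁ f₂ v₀ p := by
        conv_lhs => arg 4; rw [show p = (N * Z).val *ᵥ p by
          rw [Units.val_mul, ← mulVec_mulVec, hfixp Z (Or.inl rfl), hfixp N (Or.inr rfl)]]
        rw [C.sub _ (mul_mem hNM hZM)]
      rw [hK₀, Units.val_mul, ← mulVec_mulVec, Transvec.inv_mulVec_cancel, hbp]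
      simp only [Units.val_mul, ← mulVec_mulVec]
      rw [hZv (N.val *ᵥ v₀), hNv (Z.val *ᵥ v₀), hNv v₀, hZv v₀]
      simp only [sub_eq_add_neg, ← neg_one_smul F (k • _), bform_add_left hl, bform_smul_left hl, hpp, hpw, hwp, hw'p,
        hw'w, ← hμdef, bform_skew hl hr w' p, mul_zero, add_zero]
      match_scalars <;> ring
    obtain ⟨l, hl'⟩ := scalar_of_shear C hK₀M hu (S := (-(2 * k * k * μ)) • outer f₁ c c) fun v => by
      rw [hK₀v, hp, bform_pt hl hr, smul_mulVec, sym_outer hl, smul_smul, pt_smul_left, neg_mul, neg_smul,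
        sub_eq_add_neg]
    have e1 := congrArg (fun S => S *ᵥ y₀) hl'
    have e2 := congrArg (fun S => S *ᵥ c) hl'
    simp only [smul_mulVec, sym_outer hl, hy₀c, zero_smul, smul_zero, one_mulVec] at e1 e2
    rw [(smul_eq_zero.mp e1.symm).resolve_right hy₀, zero_smul, smul_smul] at e2
    have hc0 : c ≠ 0 := fun h0 => hc (by rw [h0, sym_zero_left hl])
    exact mul_ne_zero (neg_ne_zero.mpr (mul_ne_zero (mul_ne_zero (mul_ne_zero h2
      (hk ▸ div_ne_zero h2 hc)) (hk ▸ div_ne_zero h2 hc)) hμ)) hc ((smul_eq_zero.mp e2).resolve_right hc0)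

/-- A pure vector on an anisotropic line meeting a plane trivially carries the whole line with it. -/
theorem fix_all {g : GL (Fin 3 × Fin 2) F} (hg : g ∈ M) {z : Fin 3 → F} (hz : f₁ z z ≠ 0) {c : Fin 3 → F}
    (hc : f₁ c c ≠ 0) {u : Fin 2 → F} (hu : u ≠ 0) (h : slA (gram f₁ *ᵥ z) (g⁻¹.val *ᵥ pt c u) = 0)
    (u' : Fin 2 → F) : slA (gram f₁ *ᵥ z) (g⁻¹.val *ᵥ pt c u') = 0 := by
  have hfix : (planeInv C g hz).val *ᵥ pt c u = pt c u := by
    rw [planeInv_apply, h, pt_zero_right, mulVec_zero, smul_zero, sub_zero]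
  have e := line_fixed C (planeInv_mem C hg hz) (planeInv_sq C g hz) hc hu hfix u'
  rw [planeInv_apply, sub_eq_self, smul_eq_zero] at e
  by_contra hne
  refine mulVec_ne_zero g (fun e' => ?_) (e.resolve_left (div_ne_zero C.two hz))
  exact hz (by rw [pt_eq_zero hne e', sym_zero_left C.left])

/-- An anisotropic line orthogonal to all contractions of a plane. -/
theorem orth_all {g : GL (Fin 3 × Fin 2) F} (hg : g ∈ M) {z : Fin 3 → F} (hz : f₁ z z ≠ 0) {c : Fin 3 → F}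
    (hc : f₁ c c ≠ 0) {u : Fin 2 → F} (hu : u ≠ 0) (h : ∀ η, f₁ (s2 f₂ u (g.val *ᵥ pt z η)) c = 0)
    (u' η : Fin 2 → F) : f₁ (s2 f₂ u' (g.val *ᵥ pt z η)) c = 0 := by
  have hl := C.left
  have hr := C.right
  have key : ∀ u η, f₁ (s2 f₂ u (g.val *ᵥ pt z η)) c = - f₂ (slA (gram f₁ *ᵥ z) (g⁻¹.val *ᵥ pt c u)) η := fun u η => by
    rw [← bform_pt_slA hl hr, ← C.sub g hg, Transvec.mulVec_inv_cancel, ← bform_pt hl hr, bform_skew hl hr]
  have h0 : slA (gram f₁ *ᵥ z) (g⁻¹.val *ᵥ pt c u) = 0 := eq_of_form hr fun p => by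
    rw [r_zero_left hr, ← neg_eq_zero, ← key, h]
  rw [key, fix_all C hg hz hc hu h0 u', r_zero_left hr, neg_zero]

/-- No plane without pure vectors is orthogonal to an anisotropic line. -/
theorem no_plane_aniso {g : GL (Fin 3 × Fin 2) F} (hg : g ∈ M) {z : Fin 3 → F} (hz : f₁ z z ≠ 0)
    (hnp : NoPure g z) {c : Fin 3 → F} (hc : f₁ c c ≠ 0)
    (h : ∀ u η, f₁ (s2 f₂ u (g.val *ᵥ pt z η)) c = 0) : False := by
  classical
  have hl := C.left
  have hr := C.right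
  have h2 := C.two
  obtain ⟨t, ht0, ht1, htm⟩ := C.hyp.resolve_right (by omega)
  have hc0 : c ≠ 0 := fun e => hc (by rw [e, sym_zero_left hl])
  have hd := finrank_perpIn hl ⊤ c
  rw [finrank_top, Module.finrank_fin_fun] at hd
  have hnd := nd_perpIn hl (nd_top hl) (Submodule.mem_top (x := c)) hc
  obtain ⟨ν, hν⟩ : ∃ ν : F, ¬ IsSquare ν := FiniteField.exists_nonsquare fun h' => h2 (by
    have := ringChar.of_eq h'
    exact CharTwo.two_eq_zero)
  have hν0 : ν ≠ 0 := fun e => hν (e ▸ IsSquare.zero)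
  obtain ⟨u₁, hu₁, hq⟩ := exists_value hl h2 hnd (by omega) (-ν * f₁ c c)
  obtain ⟨u₂, β, h12, hu₂0, hu₂, -, hβ, hD, γ, hγ, hy⟩ := plane_coord_in C hg hz hnp (finrank_perp_le_two hl hc0)
    (fun u c' => (mem_perpIn hl).mpr ⟨trivial, h c' u⟩) hu₁ (hq ▸ mul_ne_zero (neg_ne_zero.mpr hν0) hc)
  by_cases hq₂ : f₁ u₂ u₂ = 0
  · exact singular_contra C hg hz hβ hD hγ hy h12 hu₂0 hq₂
  have h21 : f₁ u₂ u₁ = 0 := by rw [hl.symm, h12]
  have hc1 : f₁ c u₁ = 0 := by rw [hl.symm]; exact ((mem_perpIn hl).mp hu₁).2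
  have hc2 : f₁ c u₂ = 0 := by rw [hl.symm]; exact ((mem_perpIn hl).mp hu₂).2
  obtain ⟨D, hDdef⟩ : ∃ D, D = f₁ u₁ u₁ + f₁ u₂ u₂ * β.det := ⟨_, rfl⟩
  rw [← hDdef] at hD hγ
  obtain ⟨y, hydef⟩ : ∃ y, y = planeInv C g hz := ⟨_, rfl⟩
  have hyM : y ∈ M := hydef ▸ planeInv_mem C hg hz
  rw [← hydef] at hy
  obtain ⟨q₁, hq₁⟩ : ∃ q₁, q₁ = f₁ u₁ u₁ := ⟨_, rfl⟩
  obtain ⟨q₂, hq₂'⟩ : ∃ q₂, q₂ = f₁ u₂ u₂ := ⟨_, rfl⟩
  rw [← hq₁, ← hq₂'] at hDdef
  rw [← hq₁] at hq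
  rw [← hq₂'] at hq₂
  have hq₁0 : q₁ ≠ 0 := hq ▸ mul_ne_zero (neg_ne_zero.mpr hν0) hc
  obtain ⟨a, ha⟩ : ∃ a, a = 1 - 2 * q₁ / D := ⟨_, rfl⟩
  have hγ' : ∀ v, γ v = D⁻¹ • (slA (gram f₁ *ᵥ u₁) v + β.adjugate *ᵥ slA (gram f₁ *ᵥ u₂) v) := fun v => by
    rw [← hγ, inv_smul_smul₀ hD]
  have hyc : ∀ x, y.val *ᵥ pt c x = pt c x := fun x => by
    rw [hy, hγ', slA_pt, slA_pt, ← sym_dot hl, ← sym_dot hl, hc1, hc2]
    simp [pt_zero_right]
  have hy1 : ∀ x, y.val *ᵥ pt u₁ x = a • pt u₁ x - (2 * q₁ / D) • pt u₂ (β *ᵥ x) := fun x => by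
    rw [hy, hγ', slA_pt, slA_pt, ← sym_dot hl, ← sym_dot hl, ← hq₁, h12, zero_smul, mulVec_zero, add_zero,
      mulVec_smul, mulVec_smul, smul_smul, smul_smul, pt_smul_right, pt_smul_right, ha]
    module
  have hy2 : ∀ x, y.val *ᵥ pt u₂ x = -a • pt u₂ x - (2 * q₂ / D) • pt u₁ (β.adjugate *ᵥ x) := fun x => by
    rw [hy, hγ', slA_pt, slA_pt, ← sym_dot hl, ← sym_dot hl, h21, ← hq₂', zero_smul, zero_add,
      mulVec_smul, smul_smul, mulVec_smul, mulVec_mulVec, mul_adjugate, smul_mulVec, one_mulVec]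
    simp only [smul_smul, pt_smul_right, ha]
    match_scalars
    all_goals first
      | ring1
      | (field_simp; linear_combination (2 : F) * hDdef)
  obtain ⟨B, l, v, hB, hv, hvl, x, hxl⟩ := moving_two hr h2 ht0 ht1 htm hβ
  obtain ⟨c3, hc3⟩ : ∃ c3, c3 = 4 * q₁ * q₁ * q₂ / (D * D) := ⟨_, rfl⟩
  have hc30 : c3 ≠ 0 := hc3 ▸ div_ne_zero
    (mul_ne_zero (mul_ne_zero (mul_ne_zero (by rw [show (4 : F) = 2 * 2 by norm_num]; exact mul_ne_zero h2 h2) hq₁0)
      hq₁0) hq₂) (mul_ne_zero hD hD)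
  obtain ⟨lam, hlam⟩ : ∃ lam, lam = -(a * a * q₁ + c3 * l) / f₁ c c := ⟨_, rfl⟩
  have haniso : ∀ r : F, f₁ (r • c + u₁) (r • c + u₁) ≠ 0 := fun r e => hν ⟨r, by
    rw [sym_quad_add hl, sym_quad_smul hl, hl.bilinear.smul_left, hc1, ← hq₁, hq] at e
    exact (mul_left_cancel₀ hc (by linear_combination -e))⟩
  obtain ⟨G, hG⟩ : ∃ G, G = (y * kr 1 B * y)⁻¹ := ⟨_, rfl⟩
  have hGM : G ∈ M := hG ▸ inv_mem (mul_mem (mul_mem hyM (kr_mem C (m := 1) (n := 1)
    (fun x y => by rw [Units.val_one, one_mulVec, one_mulVec, one_mul]) (fun x y => by rw [hB, one_mul]) (one_mul 1)))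
    hyM)
  have key : ∀ x, slA (gram f₁ *ᵥ ((1 : F) • c + u₁)) (G⁻¹.val *ᵥ pt (lam • c + u₁) x) =
      c3 • (β.adjugate *ᵥ (B.val *ᵥ (β *ᵥ x)) - l • (B.val *ᵥ x)) := fun x => by
    rw [hG, inv_inv]
    simp only [Units.val_mul, ← mulVec_mulVec, pt_add_left, pt_smul_left, mulVec_add, mulVec_sub, mulVec_smul, hyc,
      hy1, hy2, kr_apply, Units.val_one, one_mulVec, one_smul, map_add, map_sub, map_smul, slA_pt, add_dotProduct, ← sym_dot hl,
      hc1, h21, hl.symm u₁ c, hl.symm u₂ c, hc2, ← hq₁]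
    match_scalars
    all_goals first
      | ring1
      | (rw [hc3]; field_simp; ring1)
      | (rw [hlam, hc3]; field_simp; ring1)
  have h0 := fix_all C hGM (haniso 1) (haniso lam) hv (by rw [key, hvl, sub_self, smul_zero]) x
  rw [key] at h0
  exact hxl (sub_eq_zero.mp ((smul_eq_zero.mp h0).resolve_left hc30))

/-- No plane without pure vectors is orthogonal to a singular line. -/
theorem no_plane_singular {g : GL (Fin 3 × Fin 2) F} (hg : g ∈ M) {z : Fin 3 → F} (hz : f₁ z z ≠ 0)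
    (hnp : NoPure g z) {x : Fin 3 → F} (hx : x ≠ 0) (hqx : f₁ x x = 0)
    (h : ∀ u η, f₁ (s2 f₂ u (g.val *ᵥ pt z η)) x = 0) : False := by
  have hl := C.left
  have hU : ∀ u c, s2 f₂ c (g.val *ᵥ pt z u) ∈ perpIn f₁ ⊤ x := fun u c => (mem_perpIn hl).mpr ⟨trivial, h c u⟩
  obtain ⟨u₁, hu₁, hq₁⟩ := exists_aniso_contr C hg hz hU
  obtain ⟨u₂, β, h12, hu₂0, hu₂, hspan, hβ, hD, γ, hγ, hy⟩ :=
    plane_coord_in C hg hz hnp (finrank_perp_le_two hl hx) hU hu₁ hq₁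
  by_cases hq₂ : f₁ u₂ u₂ = 0
  · exact singular_contra C hg hz hβ hD hγ hy h12 hu₂0 hq₂
  obtain ⟨a, b, hab⟩ := Submodule.mem_span_pair.mp (hspan ((mem_perpIn hl).mpr ⟨trivial, hqx⟩))
  have h1 := ((mem_perpIn hl).mp hu₁).2
  have h2 := ((mem_perpIn hl).mp hu₂).2
  rw [← hab, hl.bilinear.add_right, hl.bilinear.smul_right, hl.bilinear.smul_right, h12, mul_zero, add_zero] at h1
  rw [← hab, hl.bilinear.add_right, hl.bilinear.smul_right, hl.bilinear.smul_right, hl.symm u₂ u₁, h12, mul_zero,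
    zero_add] at h2
  exact hx (by rw [← hab, (mul_eq_zero.mp h1).resolve_right hq₁, (mul_eq_zero.mp h2).resolve_right hq₂, zero_smul,
    zero_smul, add_zero])

/-- An adapted frame leads to a vector fixed by the involution of the plane in only one direction. -/
theorem no_frame {g : GL (Fin 3 × Fin 2) F} (hg : g ∈ M) {z : Fin 3 → F} (hz : f₁ z z ≠ 0) {x x' z₀ : Fin 3 → F}
    (hqx : f₁ x x = 0) (hqx' : f₁ x' x' = 0) (hxx' : f₁ x x' = 1) (hzx : f₁ z₀ x = 0) (hzx' : f₁ z₀ x' = 0)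
    (hq : f₁ z₀ z₀ ≠ 0)
    (hspan : ∀ v, v = f₁ v x' • x + f₁ v x • x' + (f₁ v z₀ / f₁ z₀ z₀) • z₀)
    {e e' : Fin 2 → F} (he : f₂ e e' = 1)
    (hex : ∀ η, f₁ (s2 f₂ e (g.val *ᵥ pt z η)) x = 0) (hex' : ∀ η, f₁ (s2 f₂ e' (g.val *ᵥ pt z η)) x' = 0)
    (hP : ∀ η, f₁ (s2 f₂ e' (g.val *ᵥ pt z η)) x = f₁ (s2 f₂ e (g.val *ᵥ pt z η)) z₀)
    (hQ : ∀ η, f₁ (s2 f₂ e (g.val *ᵥ pt z η)) x' = -(2 / f₁ z₀ z₀) * f₁ (s2 f₂ e' (g.val *ᵥ pt z η)) z₀)
    {ηR ηS : Fin 2 → F} (hR : f₁ (s2 f₂ e (g.val *ᵥ pt z ηR)) z₀ = 1) (hR' : f₁ (s2 f₂ e' (g.val *ᵥ pt z ηR)) z₀ = 0)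
    (hS : f₁ (s2 f₂ e (g.val *ᵥ pt z ηS)) z₀ = 0) (hS' : f₁ (s2 f₂ e' (g.val *ᵥ pt z ηS)) z₀ = 1) : False := by
  classical
  have hl := C.left
  have hr := C.right
  have h2 := C.two
  have he' : f₂ e' e = -1 := by rw [hr.skew, he]
  obtain ⟨q, hqdef⟩ : ∃ q, q = f₁ z₀ z₀ := ⟨_, rfl⟩
  rw [← hqdef] at hq hspan hQ
  obtain ⟨ζ, hζ⟩ : ∃ ζ : (Fin 2 → F) → (Fin 3 × Fin 2 → F), ∀ η, ζ η = g.val *ᵥ pt z η := ⟨_, fun η => rfl⟩
  simp only [← hζ] at hex hex' hP hQ hR hR' hS hS'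
  have hζeq : ∀ η, ζ η = pt (s2 f₂ e' (ζ η)) e - pt (s2 f₂ e (ζ η)) e' := fun η => eq_of_s2 hr fun u => by
    conv_lhs => rw [two_decomp hr he u, sub_eq_add_neg, ← neg_smul, s2_add, s2_smul, s2_smul]
    rw [map_sub, s2p hr, s2p hr, hr.skew u e, hr.skew u e']
    module
  have hzR : ζ ηR = pt x' e - q⁻¹ • pt z₀ e' := by
    rw [hζeq, hspan (s2 f₂ e' (ζ ηR)), hspan (s2 f₂ e (ζ ηR)), hP, hQ, hex, hex', hR, hR']
    simp only [pt_add_left, pt_smul_left, zero_smul, one_smul, mul_zero, zero_div, zero_add, add_zero, one_div]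
  have hzS : ζ ηS = q⁻¹ • pt z₀ e + (2 / q) • pt x e' := by
    rw [hζeq, hspan (s2 f₂ e' (ζ ηS)), hspan (s2 f₂ e (ζ ηS)), hP, hQ, hex, hex', hS, hS']
    simp only [pt_add_left, pt_smul_left, zero_smul, mul_one, zero_div, zero_add, add_zero, one_div]
    module
  obtain ⟨σ, hσ⟩ : ∃ σ, σ = f₂ ηR ηS := ⟨_, rfl⟩
  have hσq : f₁ z z * σ = 3 / q := by
    have h := C.sub g hg (pt z ηR) (pt z ηS)
    rw [← hζ, ← hζ, bform_pt_pt hl hr, ← hσ, hzR, hzS, sub_eq_add_neg, ← neg_smul] at h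
    simp only [bform_add_left hl, bform_add_right hl, bform_smul_left hl, bform_smul_right hl, bform_pt_pt hl hr,
      hr.alternating, he, he', hl.symm x' x, hxx', hzx, hl.symm x' z₀, hzx', ← hqdef] at h
    rw [← h]
    field_simp
    ring
  obtain ⟨Re, hRe⟩ : ∃ L : (Fin 2 → F) →ₗ[F] F, ∀ η, L η = f₁ (s2 f₂ e (ζ η)) z₀ :=
    ⟨{ toFun := fun η => f₁ (s2 f₂ e (g.val *ᵥ pt z η)) z₀
       map_add' := fun p r => by rw [pt_add_right, mulVec_add, map_add, hl.bilinear.add_left]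
       map_smul' := fun c p => by rw [pt_smul_right, mulVec_smul, map_smul, hl.bilinear.smul_left]; rfl },
      fun η => by rw [hζ]; rfl⟩
  obtain ⟨Se, hSe⟩ : ∃ L : (Fin 2 → F) →ₗ[F] F, ∀ η, L η = f₁ (s2 f₂ e' (ζ η)) z₀ :=
    ⟨{ toFun := fun η => f₁ (s2 f₂ e' (g.val *ᵥ pt z η)) z₀
       map_add' := fun p r => by rw [pt_add_right, mulVec_add, map_add, hl.bilinear.add_left]
       map_smul' := fun c p => by rw [pt_smul_right, mulVec_smul, map_smul, hl.bilinear.smul_left]; rfl },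
      fun η => by rw [hζ]; rfl⟩
  have hσ0 : σ ≠ 0 := fun h0 => by
    have hS0 : ηR ≠ 0 := fun e0 => one_ne_zero (α := F) (by rw [← hR, ← hRe, e0, map_zero])
    obtain ⟨t, ht⟩ := Submodule.mem_span_singleton.mp (prop_of_alt_zero hr hS0 (η := ηS)
      (by rw [hr.skew, ← hσ, h0, neg_zero]))
    exact one_ne_zero (α := F) (by rw [← hS', ← hSe, ← ht, map_smul, hSe, hR', smul_zero])
  have h3 : (3 : F) ≠ 0 := fun e0 => mul_ne_zero hz hσ0 (by rw [hσq, e0, zero_div])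
  obtain ⟨y, hy⟩ : ∃ y, y = planeInv C g hz := ⟨_, rfl⟩
  have hyM : y ∈ M := hy ▸ planeInv_mem C hg hz
  have hyinv : y⁻¹ = y := inv_eq_of_mul_eq_one_right (hy ▸ planeInv_sq C g hz)
  obtain ⟨E, hE⟩ : ∃ E : (Fin 2 → F) →ₗ[F] F × F, ∀ η, E η = (Re η, Se η) := ⟨Re.prod Se, fun η => rfl⟩
  have hpair : ∀ v, σ * f₁ (s2 f₂ e (y.val *ᵥ v)) z₀ =
        σ * f₁ (s2 f₂ e v) z₀ - 2 / f₁ z z * bform f₁ f₂ v (ζ ηS) ∧
      σ * f₁ (s2 f₂ e' (y.val *ᵥ v)) z₀ =
        σ * f₁ (s2 f₂ e' v) z₀ + 2 / f₁ z z * bform f₁ f₂ v (ζ ηR) := fun v => by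
    obtain ⟨η, hη⟩ : ∃ η, η = slA (gram f₁ *ᵥ z) (g⁻¹.val *ᵥ v) := ⟨_, rfl⟩
    have hb : ∀ η', bform f₁ f₂ v (ζ η') = f₂ η η' := fun η' => by
      rw [hζ, hη, ← bform_pt_slA hl hr, ← C.sub g hg (g⁻¹.val *ᵥ v), Transvec.mulVec_inv_cancel]
    have hbase : η = Re η • ηR + Se η • ηS := by
      have hσ' : f₂ (σ⁻¹ • ηR) ηS = 1 := by rw [hr.bilinear.smul_left, ← hσ, inv_mul_cancel₀ hσ0]
      have hd := two_decomp hr hσ' η
      have hd' := hd
      have e1 := congrArg Re hd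
      have e2 := congrArg Se hd
      simp only [map_sub, map_smul, smul_eq_mul, hRe ηR, hRe ηS, hSe ηR, hSe ηS, hR, hR', hS, hS', mul_zero, mul_one,
        sub_zero, zero_sub] at e1 e2
      conv_lhs => rw [hd', smul_smul, ← e1, sub_eq_add_neg, ← neg_smul, ← e2]
    have h1 : f₂ η ηS = Re η * σ := by
      conv_lhs => rw [hbase, hr.bilinear.add_left, hr.bilinear.smul_left, hr.bilinear.smul_left, hr.alternating, ← hσ,
        mul_zero, add_zero]
    have h2 : f₂ η ηR = -(Se η * σ) := by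
      conv_lhs => rw [hbase, hr.bilinear.add_left, hr.bilinear.smul_left, hr.bilinear.smul_left, hr.alternating,
        show f₂ ηS ηR = -σ by rw [hσ, hr.skew], mul_zero, zero_add, mul_neg]
    rw [hy, planeInv_apply, ← hη, ← hζ, map_sub, map_sub, map_smul, map_smul, sym_sub_left hl, sym_sub_left hl,
      hl.bilinear.smul_left, hl.bilinear.smul_left, ← hRe, ← hSe, hb, hb, h1, h2]
    constructor <;> ring
  obtain ⟨c, hc⟩ : ∃ c, c = (2 : F) • z₀ + x + (-q / 2) • x' := ⟨_, rfl⟩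
  have hcv : f₁ c z₀ = 2 * q ∧ f₁ c x = -q / 2 ∧ f₁ c x' = 1 ∧ f₁ c c = 3 * q := by
    have a1 : f₁ c z₀ = 2 * q := by
      rw [hc]; simp only [hl.bilinear.add_left, hl.bilinear.smul_left, hl.symm x z₀, hl.symm x' z₀, hzx, hzx', ← hqdef]
      ring
    have a2 : f₁ c x = -q / 2 := by
      rw [hc]; simp only [hl.bilinear.add_left, hl.bilinear.smul_left, hqx, hzx, hl.symm x' x, hxx']
      ring
    have a3 : f₁ c x' = 1 := by
      rw [hc]; simp only [hl.bilinear.add_left, hl.bilinear.smul_left, hqx', hzx', hxx']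
      ring
    refine ⟨a1, a2, a3, ?_⟩
    conv_lhs => arg 2; rw [hc]
    rw [hl.bilinear.add_right, hl.bilinear.add_right, hl.bilinear.smul_right, hl.bilinear.smul_right, a1, a2, a3]
    field_simp
    ring
  obtain ⟨hcz, hcx, hcx', hcc⟩ := hcv
  have hval : ∀ d, (σ * f₁ (s2 f₂ e (y.val *ᵥ pt c d)) z₀ =
        σ * (f₂ d e * (2 * q)) - 2 / f₁ z z * (2 * f₂ d e - f₂ d e') ∧
      σ * f₁ (s2 f₂ e' (y.val *ᵥ pt c d)) z₀ =
        σ * (f₂ d e' * (2 * q)) + 2 / f₁ z z * (f₂ d e - 2 * f₂ d e')) := fun d => by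
    obtain ⟨a1, a2⟩ := hpair (pt c d)
    rw [a1, a2, s2p hr, s2p hr, hl.bilinear.smul_left, hl.bilinear.smul_left, hcz, hzR, hzS, sub_eq_add_neg (pt x' e),
      ← neg_smul]
    simp only [bform_add_right hl, bform_smul_right hl, bform_pt_pt hl hr, hcz, hcx, hcx']
    constructor <;> (field_simp; ring)
  have hkey : ∀ d, (∀ η, f₁ (s2 f₂ η (y.val *ᵥ pt c d)) z₀ = 0) ↔ slA (gram f₁ *ᵥ z₀) (y⁻¹.val *ᵥ pt c d) = 0 :=
    fun d => by
    rw [hyinv]
    constructor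
    · intro h
      exact eq_of_form hr fun p => by rw [r_zero_left hr, ← bform_pt_slA hl hr, bform_pt hl hr, h]
    · intro h η
      rw [← bform_pt hl hr, bform_pt_slA hl hr, h, r_zero_left hr]
  have hu : e + e' ≠ 0 := fun h0 => by
    have := congrArg (fun w => f₂ w e') h0
    simp [hr.bilinear.add_left, hr.alternating, he, r_zero_left hr] at this
  have h0 : slA (gram f₁ *ᵥ z₀) (y⁻¹.val *ᵥ pt c (e + e')) = 0 := by
    refine (hkey _).mp fun η => ?_
    obtain ⟨a1, a2⟩ := hval (e + e')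
    simp only [hr.bilinear.add_left, hr.alternating, he, he'] at a1 a2
    have hz' : σ * f₁ z z = 3 / q := by rw [mul_comm, hσq]
    have b1 : f₁ (s2 f₂ e (y.val *ᵥ pt c (e + e'))) z₀ = 0 := by
      refine (mul_eq_zero.mp (a1.trans ?_)).resolve_left hσ0
      field_simp at hz' ⊢
      linear_combination (-2 : F) * hz'
    have b2 : f₁ (s2 f₂ e' (y.val *ᵥ pt c (e + e'))) z₀ = 0 := by
      refine (mul_eq_zero.mp (a2.trans ?_)).resolve_left hσ0
      field_simp at hz' ⊢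
      linear_combination (2 : F) * hz'
    rw [two_decomp hr he η, sub_eq_add_neg, ← neg_smul, s2_add, s2_smul, s2_smul, hl.bilinear.add_left,
      hl.bilinear.smul_left, hl.bilinear.smul_left, b1, b2, mul_zero, mul_zero, add_zero]
  have h1 := (hkey e).mpr (fix_all C hyM (hqdef ▸ hq) (hcc ▸ mul_ne_zero h3 hq) hu h0 e) e
  obtain ⟨a1, -⟩ := hval e
  rw [h1, hr.alternating, he, mul_zero] at a1
  exact div_ne_zero h2 hz (by linear_combination -a1)

/-- Every image of an anisotropic line times the second factor is of that shape. -/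
theorem plane_pure_three {g : GL (Fin 3 × Fin 2) F} (hg : g ∈ M) {z : Fin 3 → F} (hz : f₁ z z ≠ 0) :
    ∃ d, ∀ u, ∃ w, g.val *ᵥ pt z u = pt d w := by
  classical
  have hl := C.left
  have hr := C.right
  have h2 := C.two
  by_cases hnp : NoPure g z
  swap
  · exact plane_of_pure C hg hz hnp
  exfalso
  have hN : ∀ x, x ≠ 0 → ¬ ∀ u η, f₁ (s2 f₂ u (g.val *ᵥ pt z η)) x = 0 := fun x hx h => by
    by_cases hqx : f₁ x x = 0
    · exact no_plane_singular C hg hz hnp hx hqx h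
    · exact no_plane_aniso C hg hz hnp hqx h
  -- singular vectors orthogonal to one contraction
  have hex : ∀ u : Fin 2 → F, u ≠ 0 → ∃ x, x ≠ 0 ∧ f₁ x x = 0 ∧ ∀ η, f₁ (s2 f₂ u (g.val *ᵥ pt z η)) x = 0 := by
    intro u hu
    obtain ⟨T, hT⟩ : ∃ T : (Fin 3 → F) →ₗ[F] Module.Dual F (Fin 2 → F),
        ∀ x η, T x η = f₁ (s2 f₂ u (g.val *ᵥ pt z η)) x :=
      ⟨{ toFun := fun x =>
          { toFun := fun η => f₁ (s2 f₂ u (g.val *ᵥ pt z η)) x
            map_add' := fun p r => by rw [pt_add_right, mulVec_add, map_add, hl.bilinear.add_left]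
            map_smul' := fun c p => by rw [pt_smul_right, mulVec_smul, map_smul, hl.bilinear.smul_left]; rfl }
         map_add' := fun x y => LinearMap.ext fun η => hl.bilinear.add_right _ x y
         map_smul' := fun c x => LinearMap.ext fun η => hl.bilinear.smul_right c _ x }, fun x η => rfl⟩
    obtain ⟨x, hx, hx0⟩ := exists_ne_zero_of_finrank_lt T (by
      rw [Subspace.dual_finrank_eq, Module.finrank_fin_fun, Module.finrank_fin_fun]; omega)
    have h : ∀ η, f₁ (s2 f₂ u (g.val *ᵥ pt z η)) x = 0 := fun η => by rw [← hT, hx0]; rfl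
    refine ⟨x, hx, ?_, h⟩
    by_contra hqx
    exact hN x hx fun u' η => orth_all C hg hz hqx hu h u' η
  have hall : ∀ e e' : Fin 2 → F, f₂ e e' = 1 → ∀ x, (∀ η, f₁ (s2 f₂ e (g.val *ᵥ pt z η)) x = 0) →
      (∀ η, f₁ (s2 f₂ e' (g.val *ᵥ pt z η)) x = 0) → x = 0 := fun e e' he x h h' => by
    by_contra hx
    refine hN x hx fun u η => ?_
    rw [two_decomp hr he u, sub_eq_add_neg, ← neg_smul, s2_add, s2_smul, s2_smul, hl.bilinear.add_left,
      hl.bilinear.smul_left, hl.bilinear.smul_left, h, h', mul_zero, mul_zero, add_zero]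
  have he0 : (Pi.single 0 1 : Fin 2 → F) ≠ 0 := by simp
  obtain ⟨e, heq⟩ : ∃ e : Fin 2 → F, e = Pi.single 0 1 := ⟨_, rfl⟩
  rw [← heq] at he0
  obtain ⟨e₁, he₁⟩ := exists_partner_alt hr he0
  obtain ⟨e', he'def⟩ : ∃ e', e' = -e₁ := ⟨_, rfl⟩
  have he : f₂ e e' = 1 := by
    rw [he'def, ← neg_one_smul F e₁, hr.bilinear.smul_right, hr.skew, he₁]; ring
  have he'0 : e' ≠ 0 := fun h0 => by rw [h0, r_zero_right hr] at he; exact zero_ne_one he
  obtain ⟨x, hx, hqx, hxe⟩ := hex e he0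
  obtain ⟨x₁, hx₁, hqx₁, hx₁e⟩ := hex e' he'0
  have hk : f₁ x x₁ ≠ 0 := fun h0 => by
    obtain ⟨t, ht⟩ := Submodule.mem_span_singleton.mp (singular_prop hl hx hqx hqx₁ h0)
    refine hx₁ (hall e e' he x₁ (fun η => ?_) hx₁e)
    rw [← ht, hl.bilinear.smul_right, hxe, mul_zero]
  obtain ⟨x', hx'⟩ : ∃ x', x' = (f₁ x x₁)⁻¹ • x₁ := ⟨_, rfl⟩
  have hqx' : f₁ x' x' = 0 := by rw [hx', sym_quad_smul hl, hqx₁, mul_zero]
  have hxx' : f₁ x x' = 1 := by rw [hx', hl.bilinear.smul_right, inv_mul_cancel₀ hk]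
  have hx'0 : x' ≠ 0 := fun h0 => by rw [h0, sym_zero_right hl] at hxx'; exact zero_ne_one hxx'
  have hx'e : ∀ η, f₁ (s2 f₂ e' (g.val *ᵥ pt z η)) x' = 0 := fun η => by
    rw [hx', hl.bilinear.smul_right, hx₁e, mul_zero]
  -- the third vector
  have hd1 := finrank_perpIn hl ⊤ x
  rw [finrank_top, Module.finrank_fin_fun] at hd1
  have hd2 := finrank_perpIn hl (perpIn f₁ ⊤ x) x'
  obtain ⟨z₀, hz₀, hz₀0⟩ := Submodule.exists_mem_ne_zero_of_ne_bot (p := perpIn f₁ (perpIn f₁ ⊤ x) x') (by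
    intro hb; rw [hb, finrank_bot] at hd2; omega)
  obtain ⟨hz₀', hzx'⟩ := (mem_perpIn hl).mp hz₀
  have hzx : f₁ z₀ x = 0 := ((mem_perpIn hl).mp hz₀').2
  have hq : f₁ z₀ z₀ ≠ 0 := fun h0 => by
    obtain ⟨t, ht⟩ := Submodule.mem_span_singleton.mp (singular_prop hl hx hqx h0 (by rw [hl.symm, hzx]))
    rw [← ht, hl.bilinear.smul_left, hxx', mul_one] at hzx'
    exact hz₀0 (by rw [← ht, hzx', zero_smul])
  have hlt : Module.finrank F (perpIn f₁ (perpIn f₁ ⊤ x) x') ≤ 1 := by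
    have h2le := finrank_perp_le_two hl hx
    have hlt : perpIn f₁ (perpIn f₁ ⊤ x) x' < perpIn f₁ ⊤ x :=
      lt_of_le_of_ne (fun v hv => ((mem_perpIn hl).mp hv).1) fun heq' => one_ne_zero (α := F) (by
        rw [← hxx']
        exact ((mem_perpIn hl).mp (heq'.symm ▸ (mem_perpIn hl).mpr ⟨Submodule.mem_top, hqx⟩)).2)
    have := Submodule.finrank_lt_finrank_of_lt hlt
    omega
  have hspan : ∀ v, v = f₁ v x' • x + f₁ v x • x' + (f₁ v z₀ / f₁ z₀ z₀) • z₀ := fun v => by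
    obtain ⟨r, hr'⟩ : ∃ r, r = v - (f₁ v x' • x + f₁ v x • x' + (f₁ v z₀ / f₁ z₀ z₀) • z₀) := ⟨_, rfl⟩
    have hr1 : r ∈ perpIn f₁ (perpIn f₁ ⊤ x) x' := by
      refine (mem_perpIn hl).mpr ⟨(mem_perpIn hl).mpr ⟨trivial, ?_⟩, ?_⟩ <;>
        · rw [hr']
          simp only [sym_sub_left hl, hl.bilinear.add_left, hl.bilinear.smul_left, hqx, hqx', hxx', hl.symm x' x, hzx,
            hzx']
          ring
    have hrz : f₁ r z₀ = 0 := by
      rw [hr']
      simp only [sym_sub_left hl, hl.bilinear.add_left, hl.bilinear.smul_left, hl.symm x z₀, hl.symm x' z₀, hzx, hzx']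
      field_simp
      ring
    obtain ⟨d, hd⟩ := finrank_le_one_iff.mp hlt
    obtain ⟨s, hs⟩ := hd ⟨z₀, hz₀⟩
    obtain ⟨s', hs'⟩ := hd ⟨r, hr1⟩
    have hs1 : s • (d : Fin 3 → F) = z₀ := congrArg Subtype.val hs
    have hs1' : s' • (d : Fin 3 → F) = r := congrArg Subtype.val hs'
    have hsd : s ≠ 0 := fun h0 => hz₀0 (by rw [← hs1, h0, zero_smul])
    have hrr : r = (s' / s) • z₀ := by rw [← hs1, smul_smul, div_mul_cancel₀ _ hsd, hs1']
    rw [hrr, hl.bilinear.smul_left] at hrz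
    rw [(mul_eq_zero.mp hrz).resolve_right hq, zero_smul, hr', sub_eq_zero] at hrr
    exact hrr
  -- the functionals
  obtain ⟨Φ, hΦ⟩ : ∃ Φ : (Fin 2 → F) →ₗ[F] (Fin 2 → F), ∀ η,
      Φ η = ![f₁ (s2 f₂ e (g.val *ᵥ pt z η)) z₀, f₁ (s2 f₂ e' (g.val *ᵥ pt z η)) z₀] :=
    ⟨{ toFun := fun η => ![f₁ (s2 f₂ e (g.val *ᵥ pt z η)) z₀, f₁ (s2 f₂ e' (g.val *ᵥ pt z η)) z₀]
       map_add' := fun p r => by
         ext i; fin_cases i <;> simp [pt_add_right, mulVec_add, hl.bilinear.add_left]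
       map_smul' := fun c p => by
         ext i; fin_cases i <;> simp [pt_smul_right, mulVec_smul, hl.bilinear.smul_left] }, fun η => rfl⟩
  have hsur : Function.Surjective Φ := by
    rw [← LinearMap.range_eq_top]
    by_contra hne
    obtain ⟨p, hp⟩ : ∃ p, p ∉ LinearMap.range Φ := by
      by_contra hc; push Not at hc; exact hne (Submodule.eq_top_iff'.mpr hc)
    obtain ⟨φ, hφ, hφ1⟩ := exists_functional hp
    have hu : φ 0 • e + φ 1 • e' ≠ 0 := fun h0 => by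
      have a0 := congrArg (fun w => f₂ w e') h0
      have a1 := congrArg (fun w => f₂ e w) h0
      simp only [hr.bilinear.add_left, hr.bilinear.add_right, hr.bilinear.smul_left, hr.bilinear.smul_right,
        hr.alternating, he, r_zero_left hr, r_zero_right hr, mul_zero, add_zero, zero_add, mul_one] at a0 a1
      simp [dotProduct, Fin.sum_univ_two, a0, a1] at hφ1
    refine hN z₀ hz₀0 fun u η => orth_all C hg hz hq hu (fun η => ?_) u η
    have h := hφ _ ⟨η, rfl⟩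
    rw [s2_add, s2_smul, s2_smul, hl.bilinear.add_left, hl.bilinear.smul_left, hl.bilinear.smul_left]
    simpa [hΦ, dotProduct, Fin.sum_univ_two] using h
  have hinj : Function.Injective Φ := LinearMap.injective_iff_surjective.mpr hsur
  obtain ⟨ηR, hηR⟩ := hsur (Pi.single 0 1)
  obtain ⟨ηS, hηS⟩ := hsur (Pi.single 1 1)
  have hdec : ∀ η, η = Φ η 0 • ηR + Φ η 1 • ηS := fun η => hinj (by
    rw [map_add, map_smul, map_smul, hηR, hηS]
    ext i; fin_cases i <;> simp)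
  have hR : f₁ (s2 f₂ e (g.val *ᵥ pt z ηR)) z₀ = 1 := by simpa [hΦ] using congrFun hηR 0
  have hR' : f₁ (s2 f₂ e' (g.val *ᵥ pt z ηR)) z₀ = 0 := by simpa [hΦ] using congrFun hηR 1
  have hS : f₁ (s2 f₂ e (g.val *ᵥ pt z ηS)) z₀ = 0 := by simpa [hΦ] using congrFun hηS 0
  have hS' : f₁ (s2 f₂ e' (g.val *ᵥ pt z ηS)) z₀ = 1 := by simpa [hΦ] using congrFun hηS 1
  have hlin : ∀ (u : Fin 2 → F) (v : Fin 3 → F) η, f₁ (s2 f₂ u (g.val *ᵥ pt z η)) v =
      f₁ (s2 f₂ u (g.val *ᵥ pt z ηR)) v * f₁ (s2 f₂ e (g.val *ᵥ pt z η)) z₀ +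
      f₁ (s2 f₂ u (g.val *ᵥ pt z ηS)) v * f₁ (s2 f₂ e' (g.val *ᵥ pt z η)) z₀ := fun u v η => by
    conv_lhs => rw [hdec η, pt_add_right, pt_smul_right, pt_smul_right, mulVec_add, mulVec_smul, mulVec_smul, map_add,
      map_smul, map_smul, hl.bilinear.add_left, hl.bilinear.smul_left, hl.bilinear.smul_left, hΦ]
    simp [mul_comm]
  obtain ⟨A, hA⟩ : ∃ A, A = f₁ (s2 f₂ e' (g.val *ᵥ pt z ηR)) x := ⟨_, rfl⟩
  obtain ⟨B, hB⟩ : ∃ B, B = f₁ (s2 f₂ e' (g.val *ᵥ pt z ηS)) x := ⟨_, rfl⟩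
  obtain ⟨C', hC'⟩ : ∃ C', C' = f₁ (s2 f₂ e (g.val *ᵥ pt z ηR)) x' := ⟨_, rfl⟩
  obtain ⟨D', hD'⟩ : ∃ D', D' = f₁ (s2 f₂ e (g.val *ᵥ pt z ηS)) x' := ⟨_, rfl⟩
  -- the singular vectors of the other directions
  have hdir : ∀ t : F, t ≠ 0 → ∃ a b : F, 2 * b + a * a * f₁ z₀ z₀ = 0 ∧ t * A + a + b * C' = 0 ∧
      t * B + t * a + b * D' = 0 := by
    intro t ht
    have hu : e + t • e' ≠ 0 := fun h0 => by
      have := congrArg (fun w => f₂ w e') h0
      simp [hr.bilinear.add_left, hr.bilinear.smul_left, hr.alternating, he, r_zero_left hr] at this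
    obtain ⟨v, hv, hqv, hve⟩ := hex _ hu
    obtain ⟨α, hα⟩ : ∃ α, α = f₁ v x' := ⟨_, rfl⟩
    obtain ⟨β, hβ⟩ : ∃ β, β = f₁ v x := ⟨_, rfl⟩
    obtain ⟨γ, hγ⟩ : ∃ γ, γ = f₁ v z₀ / f₁ z₀ z₀ := ⟨_, rfl⟩
    have hvdec := hspan v
    rw [← hα, ← hβ, ← hγ] at hvdec
    have hq' : 2 * α * β + γ * γ * f₁ z₀ z₀ = 0 := by
      rw [hvdec] at hqv
      simp only [hl.bilinear.add_left, hl.bilinear.add_right, hl.bilinear.smul_left, hl.bilinear.smul_right, hqx, hqx',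
        hxx', hl.symm x' x, hzx, hzx', hl.symm x z₀, hl.symm x' z₀] at hqv
      linear_combination hqv
    have hev : ∀ η, f₁ (s2 f₂ (e + t • e') (g.val *ᵥ pt z η)) v =
        β * f₁ (s2 f₂ e (g.val *ᵥ pt z η)) x' + γ * f₁ (s2 f₂ e (g.val *ᵥ pt z η)) z₀ +
          t * (α * f₁ (s2 f₂ e' (g.val *ᵥ pt z η)) x + γ * f₁ (s2 f₂ e' (g.val *ᵥ pt z η)) z₀) := fun η => by
      conv_lhs => arg 2; rw [hvdec]
      rw [s2_add, s2_smul]
      simp only [hl.bilinear.add_left, hl.bilinear.add_right, hl.bilinear.smul_left, hl.bilinear.smul_right, hxe, hx'e]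
      ring
    have i1 := hve ηR
    have i2 := hve ηS
    rw [hev, hR, hR', ← hA, ← hC'] at i1
    rw [hev, hS, hS', ← hB, ← hD'] at i2
    have hα0 : α ≠ 0 := fun h0 => by
      have hγ0 : γ = 0 := by
        rw [h0, mul_zero, zero_mul, zero_add] at hq'
        exact mul_self_eq_zero.mp ((mul_eq_zero.mp hq').resolve_right hq)
      rw [h0, hγ0] at i1 i2
      have hβ0 : β ≠ 0 := fun h1 => hv (by rw [hvdec, h0, h1, hγ0]; simp)
      refine hx'0 (hall e e' he x' (fun η => ?_) hx'e)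
      have hC0 : C' = 0 := (mul_eq_zero.mp (show β * C' = 0 by linear_combination i1)).resolve_left hβ0
      have hD0 : D' = 0 := (mul_eq_zero.mp (show β * D' = 0 by linear_combination i2)).resolve_left hβ0
      rw [hlin, ← hC', ← hD', hC0, hD0, zero_mul, zero_mul, add_zero]
    refine ⟨γ / α, β / α, ?_, ?_, ?_⟩
    · field_simp
      linear_combination hq'
    · field_simp
      linear_combination i1
    · field_simp
      linear_combination i2
  obtain ⟨t₁, ht₁, ht₁'⟩ : ∃ t : F, t ≠ 0 ∧ t ≠ 1 := ⟨-1, neg_ne_zero.mpr one_ne_zero, fun h => h2 (by linear_combination -h)⟩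
  have hC0 : C' = 0 := by
    by_contra hC0
    have hD0 : D' = 0 := by
      by_contra hD0
      obtain ⟨a, b, -, h1, h1'⟩ := hdir (D' / C') (div_ne_zero hD0 hC0)
      have hΔ : A * D' - B * C' = 0 := by
        field_simp at h1 h1'
        refine (mul_eq_zero.mp (show D' * (A * D' - B * C') = 0 by
          linear_combination D' * h1 - C' * h1')).resolve_left hD0
      refine hC0 (?_ : C' = 0)
      have hη : -D' • ηR + C' • ηS ≠ 0 := fun h0 => hC0 (by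
        have := congrArg (fun v => Φ v 1) h0
        simpa [hηR, hηS] using this)
      have p1 : f₁ (s2 f₂ e' (g.val *ᵥ pt z (-D' • ηR + C' • ηS))) x = 0 := by
        simp only [pt_add_right, pt_smul_right, mulVec_add, mulVec_smul, map_add, map_smul, hl.bilinear.add_left,
          hl.bilinear.smul_left, ← hA, ← hB]
        linear_combination -hΔ
      have p2 : f₁ (s2 f₂ e (g.val *ᵥ pt z (-D' • ηR + C' • ηS))) x' = 0 := by
        simp only [pt_add_right, pt_smul_right, mulVec_add, mulVec_smul, map_add, map_smul, hl.bilinear.add_left,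
          hl.bilinear.smul_left, ← hC', ← hD']
        ring
      obtain ⟨w, hw⟩ : ∃ w, w = g.val *ᵥ pt z (-D' • ηR + C' • ηS) := ⟨_, rfl⟩
      obtain ⟨r, hr'⟩ : ∃ r, r = (f₁ (s2 f₂ e' w) z₀ / f₁ z₀ z₀) • e - (f₁ (s2 f₂ e w) z₀ / f₁ z₀ z₀) • e' := ⟨_, rfl⟩
      refine absurd (hnp (-D' • ηR + C' • ηS) z₀ r ?_) hη
      rw [← hw]
      refine eq_of_s2 hr fun u => ?_
      have q1 := hspan (s2 f₂ e w)
      have q2 := hspan (s2 f₂ e' w)
      rw [hw, hxe, p2, ← hw, zero_smul, zero_smul, zero_add, zero_add] at q1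
      rw [hw, hx'e, p1, ← hw, zero_smul, zero_smul, zero_add, zero_add] at q2
      conv_lhs => rw [two_decomp hr he u, sub_eq_add_neg, ← neg_smul, s2_add, s2_smul, s2_smul, q1, q2]
      rw [s2p hr, hr', r_sub_left hr, hr.bilinear.smul_left, hr.bilinear.smul_left, hr.skew u e, hr.skew u e']
      module
    obtain ⟨a, b, hb, h1, h1'⟩ := hdir 1 one_ne_zero
    obtain ⟨a', b', hb', h3, h3'⟩ := hdir t₁ ht₁
    rw [hD0, mul_zero, add_zero] at h1' h3'
    have ha : a = a' := by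
      rw [← mul_add] at h3'
      linear_combination h1' - ((mul_eq_zero.mp h3').resolve_left ht₁)
    have hbb : b = b' := mul_left_cancel₀ h2 (by rw [ha] at hb; linear_combination hb - hb')
    have hA0 : A = 0 := by
      rw [← ha, ← hbb] at h3
      exact (mul_eq_zero.mp (show (1 - t₁) * A = 0 by linear_combination h1 - h3)).resolve_left
        (sub_ne_zero.mpr (Ne.symm ht₁'))
    refine hx ?_
    have hv0 : x + a • z₀ + b • x' = 0 := by
      refine hall e e' he _ (fun η => ?_) fun η => ?_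
      all_goals
        rw [hl.bilinear.add_right, hl.bilinear.add_right, hl.bilinear.smul_right, hl.bilinear.smul_right, hlin _ x,
          hlin _ x']
        simp only [hxe, hx'e, ← hA, ← hB, ← hC', ← hD', hA0, hD0]
      · rw [hA0] at h1
        linear_combination f₁ (s2 f₂ e (g.val *ᵥ pt z η)) z₀ * h1
      · linear_combination f₁ (s2 f₂ e' (g.val *ᵥ pt z η)) z₀ * h1'
    have h := congrArg (fun v => f₁ v x') hv0
    simp only [hl.bilinear.add_left, hl.bilinear.smul_left, hxx', hzx', hqx', sym_zero_left hl, mul_zero, add_zero] at h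
    exact absurd h one_ne_zero
  obtain ⟨a, b, hb, h1, h1'⟩ := hdir 1 one_ne_zero
  obtain ⟨a', b', hb', h3, h3'⟩ := hdir (-1) (neg_ne_zero.mpr one_ne_zero)
  rw [hC0, mul_zero, add_zero] at h1 h3
  have hB0 : B = 0 := by
    have ha : a = -A := by linear_combination h1
    have ha' : a' = A := by linear_combination h3
    rw [ha] at hb h1'
    rw [ha'] at hb' h3'
    have hbb : b = b' := mul_left_cancel₀ h2 (by linear_combination hb - hb')
    rw [hbb] at h1'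
    exact (mul_eq_zero.mp (show 2 * B = 0 by linear_combination h1' - h3')).resolve_left h2
  have hA0 : A ≠ 0 := fun h0 => hx (hall e e' he x hxe fun η => by
    rw [hlin, ← hA, ← hB, h0, hB0, zero_mul, zero_mul, add_zero])
  have hqAD : f₁ z₀ z₀ * A * D' = -2 := by
    have ha : a = -A := by linear_combination h1
    refine mul_left_cancel₀ hA0 ?_
    rw [hB0, ha] at h1'
    rw [ha] at hb
    linear_combination (-2 : F) * h1' + D' * hb
  obtain ⟨q, hq'⟩ : ∃ q, q = f₁ z₀ z₀ := ⟨_, rfl⟩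
  refine no_frame C hg hz hqx hqx' hxx' (z₀ := A • z₀) (by rw [hl.bilinear.smul_left, hzx, mul_zero])
    (by rw [hl.bilinear.smul_left, hzx', mul_zero]) (by rw [sym_quad_smul hl]; exact mul_ne_zero (mul_ne_zero hA0 hA0) hq)
    (fun v => ?_) he hxe hx'e (fun η => ?_) (fun η => ?_) (ηR := A⁻¹ • ηR) (ηS := A⁻¹ • ηS) ?_ ?_ ?_ ?_
  · conv_lhs => rw [hspan v]
    rw [sym_quad_smul hl, hl.bilinear.smul_right, smul_smul]
    congr 2
    field_simp
  · rw [hl.bilinear.smul_right, hlin, ← hA, ← hB, hB0, zero_mul, add_zero]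
  · rw [sym_quad_smul hl, hl.bilinear.smul_right, hlin, ← hC', ← hD', hC0, zero_mul, zero_add]
    field_simp
    linear_combination f₁ (s2 f₂ e' (g.val *ᵥ pt z η)) z₀ * hqAD
  all_goals
    rw [pt_smul_right, mulVec_smul, map_smul, hl.bilinear.smul_left, hl.bilinear.smul_right]
    simp [hR, hR', hS, hS', hA0]

/-- Every element of the group is a tensor product. -/
theorem kron_three {g : GL (Fin 3 × Fin 2) F} (hg : g ∈ M) : IsKron g :=
  kron_of_planes C (fun _ hg' _ hz => plane_pure_three C hg' hz) hg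

end CfsgLib.Classical22.TensorMax.SpO
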