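/-
Maximality of the stabiliser of a symplectic times orthogonal tensor decomposition in the symplectic group.
-/
import Cfsg.Agent.Lib.Classical22.SpOrthTensor.Three
import Cfsg.Agent.Lib.Classical22.SympTensorStatement
import Cfsg.Agent.Lib.Classical22.TensorMaxTransport
import Cfsg.Agent.Lib.Classical22.Asch.Members
import Cfsg.Agent.Lib.Classical.SpBasic

set_option autoImplicit false
set_option maxHeartbeats 800000

namespace CfsgLib.Classical22.TensorMax.SpO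

open Matrix Kronecker Cfsg CfsgLib.Classical CfsgLib.Transvec CfsgLib.Classical22.TensorMax.SympO
open scoped MatrixGroups

variable {F : Type*} [Field F] [Fintype F]

/-- In a finite field of odd order other than three some element differs from `0`, `1` and `-1`. -/
lemma exists_odd_extra (hodd : Odd (Fintype.card F)) (h3 : Fintype.card F ≠ 3) :
    ∃ t : F, t ≠ 0 ∧ t ≠ 1 ∧ t ≠ -1 := by
  classical
  by_contra hc
  push Not at hc
  have h1 : Finset.univ ⊆ ({0, 1, -1} : Finset F) := fun t _ => by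
    simp only [Finset.mem_insert, Finset.mem_singleton]
    by_cases h0 : t = 0
    · exact Or.inl h0
    by_cases h1 : t = 1
    · exact Or.inr (Or.inl h1)
    exact Or.inr (Or.inr (hc t h0 h1))
  have h2 := Finset.card_le_card h1
  rw [Finset.card_univ] at h2
  have h4 : ({0, 1, -1} : Finset F).card ≤ 3 := Finset.card_le_three
  obtain ⟨k, hk⟩ := hodd
  have := Fintype.one_lt_card (α := F)
  omega

lemma two_ne_zero_of_odd (hodd : Odd (Fintype.card F)) : (2 : F) ≠ 0 := fun h => by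
  have hc : ringChar F = 2 :=
    (Nat.prime_two.eq_one_or_self_of_dvd _ ((ringChar.spec F 2).mp (by exact_mod_cast h))).resolve_left
      CharP.ringChar_ne_one
  exact (Nat.not_even_iff_odd.mpr hodd) (Nat.even_iff.mpr (FiniteField.even_card_of_char_two hc))

variable {a b : ℕ} {f₁ : (Fin a → F) → (Fin a → F) → F} {f₂ : (Fin b → F) → (Fin b → F) → F}

/-- Some transvection is not a tensor product. -/
lemma exists_bTrans_not_kron (hl : Cfsg.Geo.IsSymmetricForm f₁) (hr : Cfsg.Geo.IsSymplecticForm f₂)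
    (h2 : (2 : F) ≠ 0) (ha : 3 ≤ a) (hb : 2 ≤ b) :
    ∃ z c, ¬ IsKron (bTrans h2 hl hr z c) := by
  obtain ⟨y, -, hy⟩ := exists_aniso hl h2 (nd_top hl) (by rw [finrank_top, Module.finrank_fin_fun]; omega)
  have hd1 := finrank_perpIn hl ⊤ y
  rw [finrank_top, Module.finrank_fin_fun] at hd1
  have hnd := nd_perpIn hl (nd_top hl) (Submodule.mem_top (x := y)) hy
  obtain ⟨x, hx, hqx⟩ := exists_aniso hl h2 hnd (by omega)
  have hd2 := finrank_perpIn hl (perpIn f₁ ⊤ y) x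
  obtain ⟨c, hc, hqc⟩ := exists_aniso hl h2 (nd_perpIn hl hnd hx hqx) (by omega)
  obtain ⟨hc', hcx⟩ := (mem_perpIn hl).mp hc
  obtain ⟨-, hcy⟩ := (mem_perpIn hl).mp hc'
  obtain ⟨-, hxy⟩ := (mem_perpIn hl).mp hx
  obtain ⟨q, hq⟩ : ∃ q : Fin b → F, q ≠ 0 := ⟨Pi.single ⟨0, by omega⟩ 1, by simp⟩
  obtain ⟨p, hpq⟩ := exists_partner_alt hr hq
  refine ⟨pt x p + pt y q, 1, fun hk => ?_⟩
  obtain ⟨A, B, hAB⟩ := isKron_apply hk
  have hv := hAB (y + c) p
  rw [bTrans_apply, one_mul, bform_add_right hl, bform_pt_pt hl hr, bform_pt_pt hl hr, hr.alternating, mul_zero,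
    zero_add, hpq, mul_one, hl.bilinear.add_left, hcy, add_zero, smul_add, ← pt_smul_left, ← pt_smul_left,
    ← add_assoc, ← pt_add_left] at hv
  have e1 := congrArg (s2 f₂ p) hv
  have e2 := congrArg (s2 f₂ q) hv
  rw [map_add, s2p hr, s2p hr, s2p hr, hr.alternating, zero_smul, zero_add, hr.skew q p, hpq, neg_one_smul] at e1
  rw [map_add, s2p hr, s2p hr, s2p hr, hr.alternating, zero_smul, add_zero, hpq, one_smul] at e2
  have hAx : A.val *ᵥ (y + c) ∈ Submodule.span F {y} := by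
    have hne : f₂ (B.val *ᵥ p) p ≠ 0 := fun h0 => by
      rw [h0, zero_smul, neg_eq_zero, smul_eq_zero] at e1
      exact e1.elim hy fun h => hy (by rw [h, sym_zero_left hl])
    rw [← inv_smul_smul₀ hne (A.val *ᵥ (y + c)), ← e1]
    exact Submodule.smul_mem _ _ (Submodule.neg_mem _ (Submodule.smul_mem _ _ (Submodule.mem_span_singleton_self y)))
  obtain ⟨t, ht⟩ := Submodule.mem_span_singleton.mp hAx
  rw [← ht, smul_smul] at e2
  have e3 := congrArg (fun v => f₁ v c) e2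
  simp only [hl.bilinear.add_left, hl.bilinear.smul_left, hl.symm x c, hl.symm y c, hcx, hcy, mul_zero, zero_add,
    add_zero] at e3
  exact hqc e3

/-- An intermediate group contains all transvections or consists of tensor products. -/
theorem trans_or_kron (h2 : (2 : F) ≠ 0) (hl : Cfsg.Geo.IsSymmetricForm f₁) (hr : Cfsg.Geo.IsSymplecticForm f₂)
    (ha : 3 ≤ a) (hb : 2 ≤ b) (hbe : Even b) (hab : (10 ≤ a * b ∨ a = 3) ∨ (b = 2 ∧ WittLow f₁))
    (hyp : (∃ t : F, t ≠ 0 ∧ t ≠ 1 ∧ t ≠ -1) ∨ 4 ≤ a) {M : Subgroup (GL (Fin a × Fin b) F)}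
    (hle : ∀ g, IsKron g → Iso f₁ f₂ g → g ∈ M) (hsub : ∀ g ∈ M, Iso f₁ f₂ g) :
    (∀ z c, bTrans h2 hl hr z c ∈ M) ∨ ∀ g ∈ M, IsKron g := by
  by_cases hT : ∀ z c, bTrans h2 hl hr z c ∈ M
  · exact Or.inl hT
  refine Or.inr fun g hg => ?_
  have C : Ctx f₁ f₂ M := ⟨hl, hr, h2, ha, hb, hyp, hle, hsub, hT⟩
  by_cases hb2 : b = 2
  · subst hb2
    by_cases ha3 : a = 3
    · subst ha3
      exact kron_three C hg
    · rcases hab with hab | ⟨-, hW⟩
      · exact kron_two C (by omega) hg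
      · exact kron_two_low C hW hg
  · obtain ⟨k, hk⟩ := hbe
    replace hab := hab.resolve_right fun h => hb2 h.1
    exact isKron_of_pure (by omega) (by omega) fun u hu => all_pure C (by omega) hg hu

/-- The statement in given coordinates, also for three-dimensional orthogonal factors. -/
theorem isMaximalIn_spTensor_gen (m : ℕ) (hodd : Odd (Fintype.card F)) (n₁ n₂ : ℕ) (hn₂ : 3 ≤ n₂) (hm1 : 1 ≤ m)
    (hex : ¬ (Fintype.card F = 3 ∧ n₂ = 3)) (e : (Fin m ⊕ Fin m) ≃ Fin n₁ × Fin n₂)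
    (P : GL (Fin m ⊕ Fin m) F) {g₁ : (Fin n₁ → F) → (Fin n₁ → F) → F} {g₂ : (Fin n₂ → F) → (Fin n₂ → F) → F}
    (hm : (5 ≤ m ∨ n₂ = 3) ∨ (n₁ = 2 ∧ WittLow g₂))
    (h₁ : Cfsg.Geo.IsSymplecticForm g₁) (h₂ : Cfsg.Geo.IsSymmetricForm g₂)
    (hT : Cfsg.Geo.IsTensorFormStructure id (Cfsg.sympForm m F) g₁ g₂ e P) :
    Cfsg.Geo.IsMaximalIn (Cfsg.spGL m F) (Cfsg.Geo.tensorProductSubgroup n₁ n₂ e P ⊓ Cfsg.spGL m F) := by
  classical
  have h2 := two_ne_zero_of_odd hodd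
  have hbe := SympO.even_dim h₁
  have hcard : m + m = n₁ * n₂ := by simpa [Fintype.card_prod] using Fintype.card_congr e
  have hn₁ : 2 ≤ n₁ := by
    obtain ⟨k, hk⟩ := hbe
    rcases Nat.eq_zero_or_pos k with rfl | hk0
    · simp [hk] at hcard
      omega
    · omega
  obtain ⟨c, hc, hpol⟩ := hT
  obtain ⟨e', he'⟩ : ∃ e', e' = e.trans (Equiv.prodComm _ _) := ⟨_, rfl⟩
  have hswap : Cfsg.Geo.tensorProductSubgroup n₁ n₂ e P = Cfsg.Geo.tensorProductSubgroup n₂ n₁ e' P := by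
    refine le_antisymm (he' ▸ Asch.tensorProduct_le_swap e P) ?_
    have h := Asch.tensorProduct_le_swap e' P
    rwa [show e'.trans (Equiv.prodComm _ _) = e by rw [he']; ext p <;> rfl] at h
  rw [hswap]
  obtain ⟨L, hL⟩ : ∃ L : (Fin n₂ × Fin n₁ → F) →ₗ[F] (Fin m ⊕ Fin m → F), ∀ x, L x = P.val *ᵥ (x ∘ e') :=
    ⟨(Matrix.mulVecLin P.val).comp (LinearMap.funLeft F F e'), fun x => rfl⟩
  have hsurj : ∀ v, ∃ x, v = L x := fun v => ⟨(P⁻¹.val *ᵥ v) ∘ e'.symm, by
    rw [hL, Function.comp_assoc, e'.symm_comp_self, Function.comp_id, Transvec.mulVec_inv_cancel]⟩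
  obtain ⟨f₂, hf₂def⟩ : ∃ f₂ : (Fin n₁ → F) → (Fin n₁ → F) → F, ∀ u w, f₂ u w = c * g₁ u w := ⟨_, fun u w => rfl⟩
  have hr : Cfsg.Geo.IsSymplecticForm f₂ :=
    { bilinear := ⟨fun x y v => by simp only [hf₂def, h₁.bilinear.add_left, mul_add],
        fun t x v => by simp only [hf₂def, h₁.bilinear.smul_left]; ring,
        fun v x y => by simp only [hf₂def, h₁.bilinear.add_right, mul_add],
        fun t v x => by simp only [hf₂def, h₁.bilinear.smul_right]; ring⟩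
      skew := fun v w => by simp only [hf₂def]; rw [h₁.skew, mul_neg]
      alternating := fun v => by rw [hf₂def, h₁.alternating, mul_zero]
      nondegenerate := fun v hv =>
        ⟨(h₁.nondegenerate v hv).1.imp fun x h => by rw [hf₂def]; exact mul_ne_zero hc h,
        (h₁.nondegenerate v hv).2.imp fun x h => by rw [hf₂def]; exact mul_ne_zero hc h⟩ }
  have hpure : ∀ x u y w, sympForm m F (L (pt x u)) (L (pt y w)) = g₂ x y * f₂ u w := fun x u y w => by
    have ex : ∀ (x : Fin n₂ → F) (u : Fin n₁ → F),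
        pt x u ∘ e' = (fun p : Fin n₁ × Fin n₂ => u p.1 * x p.2) ∘ e := fun x u => funext fun i => by
      simp [he', pt, mul_comm]
    rw [hL, hL, ex, ex, hpol, TensorRefine.formOfGram_kronecker id (fun _ _ => rfl),
      ← TensorRefine.form_eq (σ := id) h₁.bilinear.add_left h₁.bilinear.smul_left h₁.bilinear.add_right
        (fun c v x => h₁.bilinear.smul_right c v x),
      ← TensorRefine.form_eq (σ := id) h₂.bilinear.add_left h₂.bilinear.smul_left h₂.bilinear.add_right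
        (fun c v x => h₂.bilinear.smul_right c v x), hf₂def]
    ring
  have hform : ∀ v w, sympForm m F (L v) (L w) = bform g₂ f₂ v w := fun v w => by
    rw [eq_sum_pt v, eq_sum_pt w]
    simp only [map_sum, bform_sum_left h₂, bform_sum_right h₂, bform_pt_pt h₂ hr, ← hpure,
      ← spBilin_apply, LinearMap.coe_sum, Finset.sum_apply]
    exact Finset.sum_comm
  have hact : ∀ g x, (coordEquiv e' P g).val *ᵥ L x = L (g.val *ᵥ x) := fun g x => by
    rw [hL, hL, coordEquiv_mulVec]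
  have hmem : ∀ g, coordEquiv e' P g ∈ Cfsg.spGL m F ↔ Iso g₂ f₂ g := fun g => by
    constructor
    · intro h v w
      rw [← hform, ← hact, ← hact, ← hform]
      exact h (L v) (L w)
    · intro h v w
      obtain ⟨x, rfl⟩ := hsurj v
      obtain ⟨y, rfl⟩ := hsurj w
      change sympForm m F ((coordEquiv e' P g).val *ᵥ L x) ((coordEquiv e' P g).val *ᵥ L y) = _
      rw [hact, hact, hform, h, hform]
  have hkr : ∀ g, IsKron g → coordEquiv e' P g ∈ Cfsg.Geo.tensorProductSubgroup n₂ n₁ e' P := fun g hg =>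
    map_kronecker e' P ▸ ⟨g, hg, rfl⟩
  refine ⟨lt_of_le_of_ne inf_le_right fun heq => ?_, fun M hHM hMK => ?_⟩
  · obtain ⟨z, t, hzt⟩ := exists_bTrans_not_kron h₂ hr h2 hn₂ hn₁
    have h := (heq.ge ((hmem _).mpr (iso_bTrans h₂ hr h2 z t))).1
    rw [← map_kronecker e' P] at h
    obtain ⟨g, hg, hge⟩ := h
    exact hzt ((coordEquiv e' P).injective hge ▸ hg)
  have hab : (10 ≤ n₂ * n₁ ∨ n₂ = 3) ∨ (n₁ = 2 ∧ WittLow g₂) :=
    hm.imp_left fun h => h.imp_left fun h => by rw [mul_comm, ← hcard]; omega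
  have hyp : (∃ t : F, t ≠ 0 ∧ t ≠ 1 ∧ t ≠ -1) ∨ 4 ≤ n₂ := by
    by_cases h3 : Fintype.card F = 3
    · exact Or.inr (by by_contra h4; exact hex ⟨h3, by omega⟩)
    · exact Or.inl (exists_odd_extra hodd h3)
  rcases trans_or_kron (M := M.comap (coordEquiv e' P).toMonoidHom) h2 h₂ hr hn₂ hn₁ hbe hab hyp
      (fun g hk hi => hHM ⟨hkr g hk, (hmem g).mpr hi⟩) (fun g hg => (hmem g).mp (hMK hg)) with h | h
  · right
    refine le_antisymm hMK fun g hg => ?_
    -- every transvection is available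
    obtain ⟨S, hS⟩ : ∃ S : Subgroup (symplecticGroup (Fin m) F), ∀ A, A ∈ S ↔
        ∃ g ∈ M, g.val = A.1 := by
      refine ⟨{ carrier := {A | ∃ g ∈ M, g.val = A.1}
                one_mem' := ⟨1, M.one_mem, rfl⟩
                mul_mem' := fun {A B} ⟨g, hg, hgA⟩ ⟨g', hg', hgB⟩ =>
                  ⟨g * g', M.mul_mem hg hg', by rw [Units.val_mul, hgA, hgB]; rfl⟩
                inv_mem' := fun {A} ⟨g, hg, hgA⟩ => ⟨g⁻¹, M.inv_mem hg, Units.inv_eq_of_mul_eq_one_right (by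
                  rw [hgA, ← Submonoid.coe_mul, mul_inv_cancel]; rfl)⟩ }, fun A => Iff.rfl⟩
    have hgSp : g.val ∈ symplecticGroup (Fin m) F := mem_sp_iff.mpr hg
    have htop : (⊤ : Subgroup (symplecticGroup (Fin m) F)) ≤ S := by
      rw [← spT_closure_eq_top, Subgroup.closure_le]
      rintro A ⟨w, t, hA⟩
      obtain ⟨z, rfl⟩ := hsurj w
      refine (hS A).mpr ⟨_, h z t, Matrix.ext_iff_mulVec.mpr fun v => ?_⟩
      obtain ⟨x, rfl⟩ := hsurj v
      rw [hA, sympTransvection_mulVec]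
      change (coordEquiv e' P (bTrans h2 h₂ hr z t)).val *ᵥ L x = _
      rw [hact, bTrans_apply, map_add, map_smul, hform]
    obtain ⟨g', hg', hval⟩ := (hS ⟨g.val, hgSp⟩).mp (htop trivial)
    rwa [(Units.ext hval.symm : g = g')]
  · left
    refine le_antisymm (fun g hg => ?_) hHM
    obtain ⟨g₀, rfl⟩ := (coordEquiv e' P).surjective g
    exact ⟨hkr g₀ (h g₀ hg), hMK hg⟩

/-- The statement in given coordinates, also for three-dimensional orthogonal factors. -/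
theorem isMaximalIn_spTensor_of (m : ℕ) (hodd : Odd (Fintype.card F)) (n₁ n₂ : ℕ) (hn₂ : 3 ≤ n₂)
    (hm : 5 ≤ m ∨ (3 ≤ m ∧ n₂ = 3))
    (hex : ¬ (Fintype.card F = 3 ∧ n₂ = 3)) (e : (Fin m ⊕ Fin m) ≃ Fin n₁ × Fin n₂)
    (P : GL (Fin m ⊕ Fin m) F) {g₁ : (Fin n₁ → F) → (Fin n₁ → F) → F} {g₂ : (Fin n₂ → F) → (Fin n₂ → F) → F}
    (h₁ : Cfsg.Geo.IsSymplecticForm g₁) (h₂ : Cfsg.Geo.IsSymmetricForm g₂)
    (hT : Cfsg.Geo.IsTensorFormStructure id (Cfsg.sympForm m F) g₁ g₂ e P) :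
    Cfsg.Geo.IsMaximalIn (Cfsg.spGL m F) (Cfsg.Geo.tensorProductSubgroup n₁ n₂ e P ⊓ Cfsg.spGL m F) :=
  isMaximalIn_spTensor_gen m hodd n₁ n₂ hn₂ (by omega) hex e P (Or.inl (hm.imp_right fun h => h.2)) h₁ h₂ hT

/-- The statement in given coordinates. -/
theorem isMaximalIn_spTensor (m : ℕ) (hm : 5 ≤ m) (hodd : Odd (Fintype.card F)) (n₁ n₂ : ℕ) (hn₂ : 3 ≤ n₂)
    (hex : ¬ (Fintype.card F = 3 ∧ n₂ = 3)) (e : (Fin m ⊕ Fin m) ≃ Fin n₁ × Fin n₂)
    (P : GL (Fin m ⊕ Fin m) F) {g₁ : (Fin n₁ → F) → (Fin n₁ → F) → F} {g₂ : (Fin n₂ → F) → (Fin n₂ → F) → F}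
    (h₁ : Cfsg.Geo.IsSymplecticForm g₁) (h₂ : Cfsg.Geo.IsSymmetricForm g₂)
    (hT : Cfsg.Geo.IsTensorFormStructure id (Cfsg.sympForm m F) g₁ g₂ e P) :
    Cfsg.Geo.IsMaximalIn (Cfsg.spGL m F) (Cfsg.Geo.tensorProductSubgroup n₁ n₂ e P ⊓ Cfsg.spGL m F) :=
  isMaximalIn_spTensor_of m hodd n₁ n₂ hn₂ (Or.inl hm) hex e P h₁ h₂ hT

end CfsgLib.Classical22.TensorMax.SpO
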